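import Cfsg.Agent.H14.CBSpec

/-! Slot Ka of tower CB (S1308). -/

set_option autoImplicit false

namespace H34.CBKa

open Cfsg Subgroup MulAction H14 H98 H1.Gold H31.S2 H14.GC H14.FE H14.NF H14.CB
open scoped commutatorElement

universe u

variable {G : Type u} [Group G]

theorem el_comm {A : Subgroup G} (h : El A) {a b : G} (ha : a ∈ A) (hb : b ∈ A) : Commute a b := by
  have h1 := h _ (mul_mem ha hb)
  calc a * b = (a * a)⁻¹ * (a * b) * (b * b)⁻¹ * (a * b * (a * b))⁻¹ * (a * b * (a * b)) := by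
        rw [h a ha, h b hb]; group
    _ = b * a := by
      rw [h1, mul_one, h a ha, h b hb, inv_one, one_mul, mul_one, mul_one]
      calc a * b = (a * b)⁻¹ := (eq_inv_of_mul_eq_one_left h1)
        _ = b * a := by
          rw [mul_inv_rev, inv_eq_of_mul_eq_one_left (h a ha), inv_eq_of_mul_eq_one_left (h b hb)]

theorem el_pg {A : Subgroup G} (h : El A) : IsPGroup 2 A :=
  isPGroup_iff_forall.2 fun x hx => ⟨1, by rw [pow_one, pow_two, h x hx]⟩

theorem el_cj {A : Subgroup G} (h : El A) (g : G) : El (cj g A) := fun a ha => by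
  calc a * a = g * ((g⁻¹ * a * g) * (g⁻¹ * a * g)) * g⁻¹ := by group
    _ = 1 := by rw [h _ (mem_cj.1 ha)]; group

theorem cm {A : Subgroup G} {x a : G} (hx : x ∈ cen A) (ha : a ∈ A) : Commute a x :=
  mem_centralizer_iff.1 hx a ha

theorem comm_mul {x y a : G} (h : Commute x ⁅y, a⁆) : ⁅x * y, a⁆ = ⁅y, a⁆ * ⁅x, a⁆ := by
  calc ⁅x * y, a⁆ = x * ⁅y, a⁆ * x⁻¹ * ⁅x, a⁆ := by simp only [commutatorElement_def]; group
    _ = _ := by rw [h.eq]; group

theorem jobX : JKa.{u} := by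
  intro G _ _ Q E tg fu Q₁ T P Z Q₂ T' ln pl pl2 col pa
  obtain ⟨g1, -, hT⟩ := ln.col.p2
  obtain ⟨g2, hQ2, hT'⟩ := col.p2
  have elT : El T := hT ▸ el_cj tg.el g1
  have elT' : El T' := hT' ▸ el_cj tg.el g2
  have T'Q : T' ≤ Q₂ := by rw [hT', hQ2]; exact cj_mono _ tg.le
  obtain ⟨r0, r0E, -, -, ⟨r01, -⟩, -⟩ := tg.four
  have ne1 : ∀ g : G, ∃ t ∈ cj g E, t ≠ 1 := fun g => ⟨_, conj_mem_cj r0E, fun e => r01 (by
    calc r0 = g⁻¹ * (g * r0 * g⁻¹) * g := by group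
      _ = 1 := by rw [e]; group)⟩
  have EP : E ≤ P := ln.pg.lt.le
  have cEZ : ∀ r ∈ E, ∀ z ∈ Z, Commute r z := fun r hr z hz => cm (pl.cP hz) (EP hr)
  have ET' : E ≤ cen T' := le_centralizer_iff.1 col.comm
  have ZT' : Z ≤ cen T' := fun z hz => mem_centralizer_iff.2 fun d hd => by
    by_cases d1 : d = 1
    · simp [d1]
    obtain ⟨t, ht, y, hy, -, rfl⟩ := pa d hd d1
    exact ((cm (pl.cT hz) ht).mul_left (cm (pl.cP hz) hy)).eq
  have YT' : E ⊔ Z ≤ cen T' := sup_le ET' ZT'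
  have EnZ : E ≤ nor Z := fun r hr => centralizer_le_normalizer _
    (mem_centralizer_iff.2 fun z hz => (cEZ r hr z hz).symm.eq)
  have Y2 : IsPGroup 2 ↥(E ⊔ Z) :=
    IsPGroup.to_sup_of_normal_right' (el_pg tg.el) (el_pg pl.el) EnZ
  have cEY : Cm3 E (E ⊔ Z) T' := fun r hr x hx => by
    obtain ⟨s, hs, z, hz, rfl⟩ := (mem_sup_left_norm EnZ).1 hx
    rw [commutatorElement_eq_one_iff_commute.2 ((el_comm tg.el hr hs).mul_right (cEZ r hr z hz))]
    exact one_mem _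
  obtain ⟨Ps, pg, -, c3, -⟩ := fu Q₂ T' Q E (tg.sym _ _ _ _ col) (E ⊔ Z) YT' Y2 cEY
  obtain ⟨a, aP, aT⟩ := SetLike.exists_of_lt pg.lt
  have aQ : a ∈ Q₂ := (pg.le aP).1
  have ac : a ∈ cen T' := (pg.le aP).2
  have hφ : ∀ x ∈ E ⊔ Z, ⁅x, a⁆ ∈ T' := fun x hx => c3 x hx a aP
  have hmul : ∀ x ∈ E ⊔ Z, ∀ y ∈ E ⊔ Z, ⁅x * y, a⁆ = ⁅y, a⁆ * ⁅x, a⁆ := fun x hx y hy =>
    comm_mul (cm (YT' hx) (hφ y hy)).symm
  have key : ∀ r ∈ E, ∀ z ∈ Z, ⁅r * z, a⁆ = 1 → r = 1 := by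
    intro r hr z hz h1
    by_contra r1
    by_cases z1 : z = 1
    · exact pg.nd a aP aT r hr r1 (by simpa [z1] using h1)
    obtain ⟨m, mm, hm⟩ := pl2 r hr r1 z hz
    have hm := hm z1
    have rzY : r * z ∈ E ⊔ Z := mul_mem (mem_sup_left hr) (mem_sup_right hz)
    have rzQ : r * z ∈ cj m Q := mm.mv ▸ conj_mem_cj (tg.le hr)
    have rz1 : r * z ≠ 1 := fun e => r1 (by
      have : r ∈ Z ⊓ E := mem_inf.2 ⟨by rw [eq_inv_of_mul_eq_one_left e]; exact Z.inv_mem hz, hr⟩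
      rwa [pl.dj, mem_bot] at this)
    have rz2 : r * z * (r * z) = 1 := by
      rw [← pow_two, (cEZ r hr z hz).mul_pow, pow_two, pow_two, tg.el r hr, pl.el z hz, one_mul]
    obtain ⟨y0, y0P, y0E⟩ := SetLike.exists_of_lt ln.pg.lt
    have yc : m * y0 * m⁻¹ ∈ cen P := hm (conj_mem_cj y0P)
    have hcomm : ∀ t ∈ T, ∀ y1 ∈ P, ⁅t * y1, m * y0 * m⁻¹⁆ = m * ⁅t, y0⁆ * m⁻¹ := by
      intro t ht y1 hy1
      have e1 : ⁅y1, m * y0 * m⁻¹⁆ = 1 := commutatorElement_eq_one_iff_commute.2 (cm yc hy1)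
      rw [comm_mul (by rw [e1]; exact Commute.one_right t), e1, one_mul]
      have e2 : m * t * m⁻¹ = t := by rw [← (cm mm.cT ht).eq]; group
      nth_rewrite 1 [← e2]
      simp only [commutatorElement_def]; group
    have col' : Col Q E (cj m Q) (cj m E) Q₂ T' := by
      refine ⟨⟨m, rfl, rfl⟩, col.p2, fun e => ?_, ?_, m * y0 * m⁻¹,
        ⟨conj_mem_cj (ln.pg.le y0P).1, ?_⟩, ?_, fun d hd => ?_, fun hc => ?_⟩
      · have nQ : cen1 r ≤ nor Q := by
          have := tg.cen_le 1 r (by rw [cj_one]; exact tg.le hr) ⟨r1, tg.el r hr⟩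
          rwa [cj_one] at this
        have hU : T' ⊔ zpowers (r * z) ≤ Q₂ ⊓ nor Q := by
          refine sup_le (le_inf T'Q fun d hd => nQ ?_) (zpowers_le.2 ⟨e ▸ rzQ, nQ ?_⟩)
          · exact mem_centralizer_singleton_iff.2 (cm (ET' hr) hd).eq
          · exact mem_centralizer_singleton_iff.2
              ((Commute.refl r).mul_left (cEZ r hr z hz).symm).eq
        have h2 : IsPGroup 2 ↥(T' ⊔ zpowers (r * z)) :=
          IsPGroup.to_sup_of_normal_left' (el_pg elT')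
            (isPGroup_zpowers (k := 1) (by rw [pow_one, pow_two, rz2]))
            (zpowers_le.2 (centralizer_le_normalizer _ (YT' rzY)))
        have h3 := tg.exc _ _ _ _ col _ hU h2 le_sup_left (mem_sup_right (mem_zpowers _))
        obtain ⟨t, ht, y1, hy1, y1E, e1⟩ := pa _ h3 rz1
        obtain ⟨t0, ht0, t01⟩ := hT ▸ ne1 g1
        refine ln.pg.nd y1 hy1 y1E t0 ht0 t01 (commutatorElement_eq_one_iff_commute.2 ?_)
        rw [show y1 = t⁻¹ * (r * z) by rw [e1]; group]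
        exact (el_comm elT ht0 ht).inv_right.mul_right
          ((cm (ln.col.comm ht0) hr).symm.mul_right (cm (pl.cT hz) ht0))
      · refine le_centralizer_iff.1 (le_trans ?_ YT')
        rintro _ ⟨s, hs, rfl⟩
        have e : (MulAut.conj m).toMonoidHom s = s * ⁅s⁻¹, m⁆ := by
          simp [commutatorElement_def, mul_assoc]
        rw [e]
        exact mul_mem (mem_sup_left hs) (mem_sup_right (mm.cm _ (E.inv_mem hs)))
      · change m * y0 * m⁻¹ ∈ centralizer (cj m E : Set G)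
        rw [← cj_centralizer]
        exact conj_mem_cj (ln.pg.le y0P).2
      · obtain ⟨n, hn⟩ := isPGroup_iff_forall.1 ln.pg.two y0 y0P
        exact ⟨n, by rw [conj_pow, hn]; group⟩
      · by_cases d1 : d = 1
        · simp [d1]
        obtain ⟨t, ht, y1, hy1, -, rfl⟩ := pa d hd d1
        rw [hcomm t ht y1 hy1]
        exact conj_mem_cj (ln.pg.cm t ht y0 y0P)
      · obtain ⟨d, hd, d1⟩ := hT' ▸ ne1 g2
        obtain ⟨t, ht, y1, hy1, y1E, rfl⟩ := pa d hd d1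
        have t1 : t ≠ 1 := fun e => ln.pg.sq y1 hy1 y1E (by simpa [e] using elT' _ hd)
        have e1 := commutatorElement_eq_one_iff_commute.2 (cm hc hd)
        rw [hcomm t ht y1 hy1] at e1
        refine ln.pg.nd y0 y0P y0E t ht t1 ?_
        calc ⁅t, y0⁆ = m⁻¹ * (m * ⁅t, y0⁆ * m⁻¹) * m := by group
          _ = 1 := by rw [e1]; group
    have nQ := tg.cen_le m _ rzQ ⟨rz1, rz2⟩
    have hU : T' ⊔ zpowers a ≤ Q₂ ⊓ nor (cj m Q) := by
      refine sup_le (le_inf T'Q fun d hd => nQ ?_) (zpowers_le.2 ⟨aQ, nQ ?_⟩)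
      · exact mem_centralizer_singleton_iff.2 (cm (YT' rzY) hd).eq
      · exact mem_centralizer_singleton_iff.2 (commutatorElement_eq_one_iff_commute.1 h1).symm.eq
    exact aT (tg.exc _ _ _ _ col' _ hU (pg.two.to_le (sup_le pg.lt.le (zpowers_le.2 aP)))
      le_sup_left (mem_sup_right (mem_zpowers a)))
  let f : E → T' := fun r => ⟨⁅(r : G), a⁆, hφ r (mem_sup_left r.2)⟩
  have finj : Function.Injective f := by
    intro r s e
    have e' : ⁅(r : G), a⁆ = ⁅(s : G), a⁆ := congrArg Subtype.val e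
    have h1 := key (r * s) (mul_mem r.2 s.2) 1 (one_mem _) (by
      rw [mul_one, hmul _ (mem_sup_left r.2) _ (mem_sup_left s.2), e']
      exact elT' _ (hφ s (mem_sup_left s.2)))
    exact Subtype.ext (mul_right_cancel (h1.trans (tg.el s s.2).symm))
  have fb := (Nat.bijective_iff_injective_and_card f).2 ⟨finj, by rw [hT', card_cj]⟩
  refine ⟨a, ⟨⟨aQ, ac⟩, mem_centralizer_iff.2 fun z hz => ?_⟩, ?_, pg.sq a aP aT⟩
  · obtain ⟨r, hr⟩ := fb.2 ⟨⁅z, a⁆, hφ z (mem_sup_right hz)⟩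
    have e' : ⁅(r : G), a⁆ = ⁅z, a⁆ := congrArg Subtype.val hr
    have h1 := key r r.2 z hz (by
      rw [hmul _ (mem_sup_left r.2) _ (mem_sup_right hz), e']
      exact elT' _ (hφ z (mem_sup_right hz)))
    rw [h1, commutatorElement_one_left] at e'
    exact commutatorElement_eq_one_iff_mul_comm.1 e'.symm
  · by_contra hn
    refine pg.nd _ (mul_mem aP aP) hn r0 r0E r01 ?_
    have h1 := hφ r0 (mem_sup_left r0E)
    calc ⁅r0, a * a⁆ = ⁅r0, a⁆ * (a * ⁅r0, a⁆) * a⁻¹ := by simp only [commutatorElement_def]; group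
      _ = 1 := by rw [← (cm ac h1).eq, ← mul_assoc, elT' _ h1]; group

end H34.CBKa
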