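import Cfsg.Agent.H41.ItTop
import Cfsg.Agent.H34.R4Spec

/-! Tower R5 (S3194): two maximal centraliser orders, rank five. Proofs: blueprints/R5.md -/

set_option autoImplicit false

namespace H34.R5
open Cfsg Subgroup H41.IT

universe u

section Defs
variable {G : Type*} [Group G]

/-- the coprime configuration: `|G| = a b`, only `b` and `e` divide `b = c y` -/
structure BS (x y : G) (e : ℕ) : Prop where
  x1 : x ≠ 1
  y1 : y ≠ 1
  cop : (c x).Coprime (c y)
  card : Nat.card G = c x * c y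
  odd : Odd (c y)
  ev : 2 ∣ c x
  val : ∀ g : G, g ≠ 1 → c g ∣ c x ∨ c g = c y ∨ c g = e
  dvd : e ∣ c y
  ne : e ≠ c y
  np : ∀ p k : ℕ, p.Prime → c y ≠ p ^ k
  nab : ∀ g : G, c g = c y → ¬ IsMulCommutative (C g)

/-- `M` controls fusion in `P`, has odd order and no `s`-quotient -/
structure MF (s : ℕ) (P M : Subgroup G) : Prop where
  le : P ≤ M
  odd : Odd (Nat.card M)
  fus : ∀ g ∈ P, ∀ a : G, a * g * a⁻¹ ∈ P → ∃ n ∈ M, n * g * n⁻¹ = a * g * a⁻¹
  res : ∀ (K : Subgroup M) (k : ℕ), K.Normal → K.index = s ^ k → K = ⊤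
  big : ∀ X : Subgroup G, P ≤ X → Odd (Nat.card X) → Cfsg.pPrimeCore s X = ⊥ → X ≤ M
  nW : ∃ W : Subgroup G, W ≠ ⊥ ∧ W ≤ P ∧ M ≤ normalizer (W : Set G)

/-- `u` has prime order dividing `b`, different from `s` -/
def Gd (y : G) (s : ℕ) (u : G) : Prop := (orderOf u).Prime ∧ orderOf u ≠ s ∧ orderOf u ∣ c y

/-- the case `b = e s^j`, no nilpotent centraliser of order `b` -/
structure T1 (y : G) (e s : ℕ) : Prop where
  pw : ∃ j : ℕ, 0 < j ∧ c y = e * s ^ j
  nn : ∀ g : G, c g = c y → ¬ Group.IsNilpotent (C g)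

/-- facts on `L = C u` -/
structure GF (y : G) (e s : ℕ) : Prop where
  ce : ∀ u : G, Gd y s u → c u = e
  ab : ∀ u : G, Gd y s u → ∀ a ∈ C u, ∀ b ∈ C u, Commute a b
  sd : s ∣ e
  cj : ∀ u v : G, Gd y s u → Gd y s v → ∃ g : G, C (g * u * g⁻¹) = C v
  ti : ∀ u : G, Gd y s u → ∀ v ∈ C u, ¬ PE s v → C v = C u
  ex : ∀ g : G, g ≠ 1 → c g ∣ c y → ∃ u : G, Gd y s u ∧ Commute u g

/-- irreducible characters of `N(B)` that are not trivial on `B` -/
def SS (B : Subgroup G) : Set (↥(normalizer (B : Set G)) → ℂ) :=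
  {χ | Cfsg.IsIrrCharacter ↥(normalizer (B : Set G)) χ ∧
    ∃ k : ↥(normalizer (B : Set G)), (k : G) ∈ B ∧ χ k ≠ χ 1}

/-- `B` is an isolated TI-subgroup with Frobenius normaliser -/
structure Iso (B : Subgroup G) : Prop where
  cen : ∀ k ∈ B, k ≠ 1 → C k ≤ B
  ti : ∀ g : G, g ∉ normalizer (B : Set G) → ∀ k ∈ B, g * k * g⁻¹ ∈ B → k = 1
  lt : B < normalizer (B : Set G)

end Defs

/-! ### Reduction to `BS` -/

/-- CA: the basic claim on a prime dividing `c x` and the index of `C x`. -/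
def JobCA : Prop := ∀ (G : Type u) [Group G] [Finite G] (x y : G), K2 x y → SZ x y →
  (orderOf x).Prime → orderOf x ∣ (C y).index ∧ ∀ p : ℕ, p.Prime → p ∣ c x → p ∣ (C x).index →
    ∃ w : G, w ≠ 1 ∧ PE p w ∧ (c x).factorization p < (c w).factorization p ∧ c w ∣ c y ∧
      c w ≠ c y ∧ w * x ≠ 1 ∧ C (w * x) = C w ⊓ C x

/-- CB: a common value is impossible. -/
def CB : Prop := ∀ (G : Type u) [Group G] [Finite G] (x y : G), K2 x y → SZ x y → SZ y x →
  (∀ z : G, z ≠ 1 → c z = c x → SZ z y) → (orderOf x).Prime → (orderOf y).Prime → ∀ d e f : ℕ,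
  (∀ g : G, g ≠ 1 → c g = c x ∨ c g = c y ∨ c g = d ∨ c g = e ∨ c g = f) → ¬ d ∣ c x → ¬ e ∣ c y →
  d ∣ c y → e ∣ c x → e ≠ c x → f ∣ c x → f ∣ c y → (∃ g : G, g ≠ 1 ∧ c g = f) → False

def JobCB : Prop := JobCA.{u} → CB.{u}

/-- SE: separated sides give coprime orders. -/
def SE : Prop := ∀ (G : Type u) [Group G] [Finite G] (x y : G), K2 x y → SZ x y → SZ y x →
  (orderOf x).Prime → (orderOf y).Prime → (∀ g : G, g ≠ 1 → c g ∣ c x → ¬ c g ∣ c y) →
  (c x).Coprime (c y) ∧ Nat.card G = c x * c y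

def JobSE : Prop := JobCA.{u} → SE.{u}

/-- the main lemma -/
def NoBS : Prop := ∀ (G : Type u) [Group G] [Finite G] [IsSimpleGroup G], ¬ IsMulCommutative G →
  ∀ (x y : G) (e : ℕ), ¬ BS x y e

/-- the target -/
def K5 : Prop := ∀ (G : Type u) [Group G] [Finite G] [IsSimpleGroup G], ¬ IsMulCommutative G →
  ∀ x y : G, K2 x y → (CS G).ncard = 5 → ∃ d : ℕ, One G d

/-! ### The subgroup `M = N(Z(J(P)))` -/

/-- M1: strong fusion control and odd order. -/
def JobM1 : Prop := ∀ (G : Type u) [Group G] [Finite G] (x y : G) (e s : ℕ) [Fact s.Prime]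
  (P : Sylow s G), BS x y e → s * e ∣ c y →
  (∀ g ∈ (P : Subgroup G), ∀ a : G, a * g * a⁻¹ ∈ (P : Subgroup G) →
    ∃ n ∈ normalizer (Cfsg.centerThompsonOf s (P : Subgroup G) : Set G),
      n * g * n⁻¹ = a * g * a⁻¹) ∧
  Odd (Nat.card (normalizer (Cfsg.centerThompsonOf s (P : Subgroup G) : Set G))) ∧
  Cfsg.centerThompsonOf s (P : Subgroup G) ≠ ⊥

/-- M2: no `s`-quotient (transfer), any overgroup `M` of `P` controlling fusion. -/
def JobM2 : Prop := ∀ (G : Type u) [Group G] [Finite G] (s : ℕ) [Fact s.Prime] (P : Sylow s G)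
  (M : Subgroup G), commutator G = ⊤ → (P : Subgroup G) ≤ M →
  (∀ g ∈ (P : Subgroup G), ∀ a : G, a * g * a⁻¹ ∈ (P : Subgroup G) →
    ∃ n ∈ M, n * g * n⁻¹ = a * g * a⁻¹) →
  ∀ (K : Subgroup M) (k : ℕ), K.Normal → K.index = s ^ k → K = ⊤

/-- M3: odd overgroups of `P` with trivial `s'`-core normalise `Z(J(P))`. -/
def JobM3 : Prop := ∀ (G : Type u) [Group G] [Finite G] (s : ℕ) [Fact s.Prime] (P : Sylow s G),
  Cfsg.centerThompsonOf s (P : Subgroup G) ≤ P ∧
  (P : Subgroup G) ≤ normalizer (Cfsg.centerThompsonOf s (P : Subgroup G) : Set G) ∧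
  ∀ X : Subgroup G, (P : Subgroup G) ≤ X → Odd (Nat.card X) → Cfsg.pPrimeCore s X = ⊥ →
    X ≤ normalizer (Cfsg.centerThompsonOf s (P : Subgroup G) : Set G)

/-! ### T2: a nilpotent centraliser of order `b` -/

/-- I1: it is isolated and TI. -/
def JobI1 : Prop := ∀ (G : Type u) [Group G] [Finite G] [IsSimpleGroup G], ¬ IsMulCommutative G →
  ∀ (x y : G) (e : ℕ), BS x y e → ∀ g : G, c g = c y → Group.IsNilpotent (C g) → Iso (C g)

/-- E0: Clifford for the trivial character. -/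
def JobE0 : Prop := ∀ (X : Type u) [Group X] [Fintype X] (P : Subgroup X) [Fintype P]
  (χ : X → ℂ), P.Normal → Cfsg.IsIrrCharacter X χ → ∑ k : P, χ k ≠ 0 → ∀ k ∈ P, χ k = χ 1

/-- E1: numerics of the Frobenius normaliser. -/
def JobE1 : Prop := ∀ (G : Type u) [Group G] [Finite G] (B : Subgroup G), Group.IsNilpotent B →
  (∀ p k : ℕ, p.Prime → Nat.card B ≠ p ^ k) → Iso B →
  2 * (B.subgroupOf (normalizer (B : Set G))).index + 1 < Nat.card B ∧
  (∃ P : Subgroup G, P ≠ ⊥ ∧ P < B ∧ normalizer (B : Set G) ≤ normalizer (P : Set G)) ∧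
  ∃ χ ∈ SS B, ∃ ξ ∈ SS B, χ ≠ ξ

/-- E2: restriction of an exceptional character. -/
def E2 : Prop := ∀ (G : Type u) [Group G] [Fintype G] (B : Subgroup G), Group.IsNilpotent B →
  Odd (Nat.card B) → (∀ p k : ℕ, p.Prime → Nat.card B ≠ p ^ k) → Iso B → ∃ m : ℤ,
  ∀ θ : G → ℂ, Cfsg.IsIrrCharacter G θ → (∃ a ∈ B, ∃ b ∈ B, a ≠ 1 ∧ b ≠ 1 ∧ θ a ≠ θ b) →
    ∃ χ ∈ SS B, ∃ ε : ℤ, (ε = 1 ∨ ε = -1) ∧ ∀ k : ↥(normalizer (B : Set G)), (k : G) ∈ B → k ≠ 1 →
      θ k = ε * (χ k + m * χ 1 / ((B.subgroupOf (normalizer (B : Set G))).index : ℂ))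

def JobE2 : Prop := JobE1.{u} → E2.{u}

/-- EC: the permutation character on the cosets of a complement. -/
def EC : Prop := ∀ (G : Type u) [Group G] [Finite G] [IsSimpleGroup G], ¬ IsMulCommutative G →
  ∀ A B : Subgroup G, Group.IsNilpotent B → Odd (Nat.card B) →
  (∀ p k : ℕ, p.Prime → Nat.card B ≠ p ^ k) → Iso B → (Nat.card A).Coprime (Nat.card B) →
  Nat.card B = A.index → MulAction.IsMultiplyPretransitive G (G ⧸ A) 2

def JobEC : Prop := JobE0.{u} → JobE1.{u} → E2.{u} → EC.{u}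

/-! ### T3: two primes divide `b / e` -/

/-- X1: `H41.IT.JobMX1` with a prime `s` for `2`. -/
def JobX1 : Prop := ∀ (X : Type u) [Group X] [Finite X], Group.IsSolvable X → ∀ (d s q : ℕ),
  s.Prime → q.Prime → q ≠ s → q * d ∣ Nat.card X →
  (∀ g : X, Pri g → c g = Nat.card X ∨ c g = d) → ∀ u : X, PE s u → c u = d →
  (∀ g ∈ C u, (orderOf g).Coprime s → ∀ h ∈ C u, Commute g h) →
  (C u).Normal ∧ ∃ h : X, PE q h ∧ C h = C u

/-- X2: `H41.IT.JobMX2` with a prime `s` for `2`. -/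
def JobX2 : Prop := ∀ (X : Type u) [Group X] [Finite X], Group.IsSolvable X → ∀ (d s q : ℕ),
  s.Prime → q.Prime → q ≠ s → s * q * d ∣ Nat.card X →
  (∀ g : X, Pri g → c g = Nat.card X ∨ c g = d) →
  ∀ u h : X, PE s u → PE q h → c u = d → C h = C u → (C u).Normal → False

/-- PA: solvable, every element of `P` is conjugate into `Z(P)`. -/
def JobPA : Prop := ∀ (X : Type u) [Group X] [Finite X], Group.IsSolvable X →
  ∀ (s : ℕ) [Fact s.Prime] (P : Sylow s X),
  (∀ g ∈ (P : Subgroup X), ∃ n : X, n * g * n⁻¹ ∈ (P : Subgroup X) ∧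
    ∀ h ∈ (P : Subgroup X), Commute (n * g * n⁻¹) h) →
  ∀ a ∈ (P : Subgroup X), ∀ b ∈ (P : Subgroup X), Commute a b

/-- T3 -/
def T3 : Prop := ∀ (G : Type u) [Group G] [Finite G] (x y : G) (e s q : ℕ) [Fact s.Prime]
  (P : Sylow s G) (M : Subgroup G), BS x y e → q.Prime → q ≠ s → s * q * e ∣ c y →
  MF s (P : Subgroup G) M → False

def JobT3 : Prop := JobX1.{u} → JobX2.{u} → JobPA.{u} → T3.{u}

/-! ### T1: `b = e s^j` -/

/-- G1: the elements of prime order `q ≠ s` have centraliser order `e`. -/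
def JobG1 : Prop := ∀ (G : Type u) [Group G] [Finite G] (x y : G) (e s : ℕ), s.Prime →
  BS x y e → T1 y e s → (∀ u : G, Gd y s u → c u = e) ∧
  ∀ (q : ℕ) (Q : Sylow q G), q.Prime → q ≠ s → q ∣ c y →
    ∀ a ∈ (Q : Subgroup G), ∀ b ∈ (Q : Subgroup G), Commute a b

/-- G2: their centralisers. -/
def JobG2 : Prop := ∀ (G : Type u) [Group G] [Finite G] (x y : G) (e s : ℕ), s.Prime →
  BS x y e → T1 y e s → (∀ u : G, Gd y s u → c u = e) →
  (∀ (q : ℕ) (Q : Sylow q G), q.Prime → q ≠ s → q ∣ c y →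
    ∀ a ∈ (Q : Subgroup G), ∀ b ∈ (Q : Subgroup G), Commute a b) → GF y e s

/-- QC: S0041 for the free action of `X / L` on `V`. -/
def JobQC : Prop := ∀ (X : Type u) [Group X] [Finite X] (V L : Subgroup X) [L.Normal],
  V.Normal → V ≠ ⊥ → IsMulCommutative V → (∀ v ∈ V, v ≠ 1 → C v = L) →
  (∀ A : Subgroup (X ⧸ L), (IsMulCommutative A ∨ ∃ p q : ℕ, p.Prime ∧ q.Prime ∧ Nat.card A = p * q) →
    IsCyclic A) ∧
  ∀ s k : ℕ, s.Prime → s ≠ 2 → L.index = s ^ k → IsCyclic (X ⧸ L)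

/-- FC: Frobenius complements of solvable groups have mixed elements. -/
def FC : Prop := ∀ (X : Type u) [Group X] [Finite X], Group.IsSolvable X →
  ∀ (V L : Subgroup X) (a s : ℕ), s.Prime → ¬ s ∣ a → V.Normal → L.Normal → V ≠ ⊥ →
  IsMulCommutative V → (∀ v ∈ V, v ≠ 1 → C v = L) → (∃ k : ℕ, L.index ∣ a * s ^ k) →
  s ∣ L.index → (∃ k : ℕ, L.index = s ^ k) ∨
    ∃ (g : X) (r : ℕ), r.Prime ∧ r ∣ a ∧ r ∣ orderOf g ∧ s ∣ orderOf g

def JobFC : Prop := JobQC.{u} → FC.{u}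

/-- S1: `M` does not normalise `L`. -/
def S1 : Prop := ∀ (G : Type u) [Group G] [Finite G] (x y : G) (e s : ℕ) [Fact s.Prime]
  (P : Sylow s G) (M : Subgroup G), BS x y e → T1 y e s → GF y e s → MF s (P : Subgroup G) M →
  ∀ u : G, Gd y s u → ¬ M ≤ normalizer (C u : Set G)

def JobS1 : Prop := FC.{u} → S1.{u}

/-- PN: cyclic Sylow subgroups for the other primes. -/
def JobPN : Prop := ∀ (X : Type u) [Group X] [Finite X], Group.IsSolvable X →
  ∀ (s : ℕ) [Fact s.Prime] (P : Sylow s X),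
  (∀ (r : ℕ) (R : Sylow r X), r.Prime → r ≠ s → IsCyclic R) →
  (∀ (K : Subgroup X) (k : ℕ), K.Normal → K.index = s ^ k → K = ⊤) → (P : Subgroup X).Normal

/-- S2: `P` is normal in `M`. -/
def S2 : Prop := ∀ (G : Type u) [Group G] [Finite G] (x y : G) (e s : ℕ) [Fact s.Prime]
  (P : Sylow s G) (M : Subgroup G), BS x y e → T1 y e s → GF y e s → MF s (P : Subgroup G) M →
  (∀ u : G, Gd y s u → ¬ M ≤ normalizer (C u : Set G)) →
  M ≤ normalizer ((P : Subgroup G) : Set G)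

def JobS2 : Prop := JobPN.{u} → S2.{u}

/-- S3a: if `P` normalises `L` it is abelian with two cyclic complements. -/
def S3a : Prop := ∀ (G : Type u) [Group G] [Finite G] (x y : G) (e s : ℕ) [Fact s.Prime]
  (P : Sylow s G), BS x y e → T1 y e s → GF y e s → ∀ u v : G, Gd y s u →
  orderOf v = orderOf u → C u ≠ C v → (P : Subgroup G) ≤ normalizer (C u : Set G) →
  (P : Subgroup G) ≤ normalizer (C v : Set G) →
  (P : Subgroup G) ⊓ C u ⊓ C v = ⊥ ∧
  (∀ a ∈ (P : Subgroup G), ∀ b ∈ (P : Subgroup G), Commute a b) ∧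
  Nat.card {g : G // g ∈ (P : Subgroup G) ⊓ C u ∧ g ^ s = 1} = s ∧
  Nat.card {g : G // g ∈ (P : Subgroup G) ∧ g ^ s = 1} = s ^ 2

def JobS3a : Prop := JobQC.{u} → S3a.{u}

/-- S3: `P` does not normalise `L`. -/
def S3 : Prop := ∀ (G : Type u) [Group G] [Finite G] (x y : G) (e s : ℕ) [Fact s.Prime]
  (P : Sylow s G) (M : Subgroup G), BS x y e → T1 y e s → GF y e s → MF s (P : Subgroup G) M →
  (∀ u : G, Gd y s u → ¬ M ≤ normalizer (C u : Set G)) →
  M ≤ normalizer ((P : Subgroup G) : Set G) →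
  ∀ u : G, Gd y s u → ¬ (P : Subgroup G) ≤ normalizer (C u : Set G)

def JobS3 : Prop := S3a.{u} → S3.{u}

/-- S4: the centraliser of a central element of `P` lies in `M`. -/
def JobS4 : Prop := ∀ (G : Type u) [Group G] [Finite G] (x y : G) (e s : ℕ) [Fact s.Prime]
  (P : Sylow s G) (M : Subgroup G), BS x y e → T1 y e s → GF y e s → MF s (P : Subgroup G) M →
  (∀ u : G, Gd y s u → ¬ (P : Subgroup G) ≤ normalizer (C u : Set G)) →
  ∀ z ∈ (P : Subgroup G), z ≠ 1 → (P : Subgroup G) ≤ C z → C z ≤ M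

/-- S5: the normaliser of `L` in `N(P)`. -/
def JobS5 : Prop := ∀ (G : Type u) [Group G] [Finite G] (x y : G) (e s : ℕ) [Fact s.Prime]
  (P : Sylow s G), BS x y e → T1 y e s → GF y e s → ∀ z ∈ (P : Subgroup G), z ≠ 1 →
  (P : Subgroup G) ≤ C z → C z ≤ normalizer ((P : Subgroup G) : Set G) →
  ∀ u : G, Gd y s u → Commute u z →
  normalizer ((P : Subgroup G) : Set G) ⊓ normalizer (C u : Set G) ≤ C u

/-- S6: Burnside. -/
def JobS6 : Prop := ∀ (G : Type u) [Group G] [Finite G] [IsSimpleGroup G], ¬ IsMulCommutative G →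
  ∀ (x y : G) (e s : ℕ) [Fact s.Prime] (P : Sylow s G) (M : Subgroup G), BS x y e → T1 y e s →
  GF y e s → MF s (P : Subgroup G) M → M ≤ normalizer ((P : Subgroup G) : Set G) →
  ∀ z ∈ (P : Subgroup G), z ≠ 1 → C z ≤ M → ∀ u : G, Gd y s u → Commute u z →
  ¬ normalizer ((P : Subgroup G) : Set G) ⊓ normalizer (C u : Set G) ≤ C u

/-! ### Kit -/

section Kit
variable {G : Type*} [Group G] [Finite G] {x y : G} {e : ℕ}

theorem C_mul {a b : G} (h : Commute a b) (hc : (orderOf a).Coprime (orderOf b)) :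
    C (a * b) = C a ⊓ C b := H34.R4.cz_mul h hc

omit [Finite G] in
theorem mem_C {g h : G} : h ∈ C g ↔ Commute h g := H34.R4.mem_cz

omit [Finite G] in
theorem ord_dvd_c {g h : G} (m : h ∈ C g) : orderOf h ∣ c g := H34.R4.ord_dvd m

theorem C_eq {g h : G} (m : C g ≤ C h) (m' : c h = c g) : C g = C h := H34.R4.cz_eq m m'

omit [Finite G] in
theorem mul_ne_one' {a b : G} (h : a ≠ 1) (hc : (orderOf a).Coprime (orderOf b)) :
    a * b ≠ 1 := fun m => by
  have : orderOf a = orderOf b := by rw [eq_inv_of_mul_eq_one_left m, orderOf_inv]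
  rw [← this, Nat.coprime_self, orderOf_eq_one_iff] at hc
  exact h hc

omit [Finite G] in
/-- a prime of `b` dividing `c g` makes `c g` one of `b`, `e` -/
theorem BS.bval (h : BS x y e) {g : G} (g1 : g ≠ 1) {p : ℕ} (hp : p.Prime) (hb : p ∣ c y)
    (hg : p ∣ c g) : c g = c y ∨ c g = e :=
  (h.val g g1).resolve_left fun m =>
    hp.one_lt.ne' (Nat.eq_one_of_dvd_coprimes h.cop (hg.trans m) hb)

theorem BS.bdvd (h : BS x y e) {g : G} (g1 : g ≠ 1) {p : ℕ} (hp : p.Prime) (hb : p ∣ c y)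
    (hg : p ∣ c g) : c g ∣ c y := by
  rcases h.bval g1 hp hb hg with m | m <;> rw [m]
  exact h.dvd

theorem BS.of_dvd (h : BS x y e) {g : G} (g1 : g ≠ 1) (hg : c g ∣ c y) : c g = c y ∨ c g = e := by
  have h1 : orderOf g ≠ 1 := fun m => g1 (orderOf_eq_one_iff.1 m)
  have h2 := (Nat.minFac_dvd (orderOf g)).trans (ord_dvd_c (mem_C.2 (Commute.refl g)))
  exact h.bval g1 (Nat.minFac_prime h1) (h2.trans hg) h2

/-- no mixed elements: no element order has a prime of `a` and a prime of `b` -/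
theorem BS.nomix (h : BS x y e) {g : G} {p r : ℕ} (hp : p.Prime) (hr : r.Prime) (hb : p ∣ c y)
    (ha : r ∣ c x) (h1 : p ∣ orderOf g) (h2 : r ∣ orderOf g) : False := by
  have g1 : g ≠ 1 := fun m => hp.one_lt.ne' (Nat.dvd_one.1 (by simpa [m] using h1))
  have h3 := ord_dvd_c (mem_C.2 (Commute.refl g))
  exact hr.one_lt.ne' (Nat.eq_one_of_dvd_coprimes h.cop ha
    ((h2.trans h3).trans (h.bdvd g1 hp hb (h1.trans h3))))

/-- an element commuting with a non-trivial `π(b)`-element has order dividing `b` -/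
theorem BS.ord_dvd (h : BS x y e) {g k : G} (g1 : g ≠ 1) (hg : orderOf g ∣ c y)
    (hk : Commute k g) : orderOf k ∣ c y := by
  have h1 : orderOf g ≠ 1 := fun m => g1 (orderOf_eq_one_iff.1 m)
  have h2 := Nat.minFac_dvd (orderOf g)
  exact (ord_dvd_c (mem_C.2 hk)).trans (h.bdvd g1 (Nat.minFac_prime h1) (h2.trans hg)
    (h2.trans (ord_dvd_c (mem_C.2 (Commute.refl g)))))

/-- `C g ⊓ C k` has order `b` or `e` -/
theorem BS.inf (h : BS x y e) {g k : G} (g1 : g ≠ 1) (hg : c g ∣ c y) (hk : Commute g k)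
    (hc : (orderOf g).Coprime (orderOf k)) :
    Nat.card ↥(C g ⊓ C k) = c y ∨ Nat.card ↥(C g ⊓ C k) = e := by
  rw [← C_mul hk hc]
  refine h.of_dvd (mul_ne_one' g1 hc) (dvd_trans ?_ hg)
  exact card_dvd_of_le (by rw [C_mul hk hc]; exact inf_le_left)

/-- MIN: if `c g = e`, elements of coprime order of `C g` are central there -/
theorem BS.min (h : BS x y e) {g k : G} (g1 : g ≠ 1) (hg : c g = e) (hk : Commute g k)
    (hc : (orderOf g).Coprime (orderOf k)) : C g ≤ C k := by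
  have h1 : Nat.card ↥(C g ⊓ C k) ∣ e := hg ▸ card_dvd_of_le inf_le_left
  have h2 : Nat.card ↥(C g ⊓ C k) = c g := by
    rcases h.inf g1 (hg ▸ h.dvd) hk hc with m | m
    · exact (h.ne (Nat.dvd_antisymm h.dvd (m ▸ h1))).elim
    · rw [m, hg]
  exact inf_eq_left.1 (eq_of_le_of_card_ge inf_le_left h2.ge)

/-- Sylow subgroups for the primes of `b` -/
theorem BS.sylow_card (h : BS x y e) {p : ℕ} [hp : Fact p.Prime] (hb : p ∣ c y) (P : Sylow p G) :
    Nat.card P = p ^ (c y).factorization p := by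
  have h0 : ¬ p ∣ c x := fun m => hp.1.one_lt.ne' (Nat.eq_one_of_dvd_coprimes h.cop m hb)
  rw [P.card_eq_multiplicity, h.card, Nat.factorization_mul Nat.card_pos.ne' Nat.card_pos.ne',
    Finsupp.add_apply, Nat.factorization_eq_zero_of_not_dvd h0, zero_add]

/-- an element centralising a full Sylow `s`-subgroup, `s ∣ b / e`, has `c = b` -/
theorem BS.full (h : BS x y e) {s : ℕ} [hs : Fact s.Prime] (hb : s * e ∣ c y) (P : Sylow s G)
    {z : G} (z1 : z ≠ 1) (hz : (P : Subgroup G) ≤ C z) : c z = c y := by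
  have h1 : s ∣ c y := (Dvd.intro _ rfl).trans hb
  have h2 : s ^ (c y).factorization s ∣ c z := h.sylow_card h1 P ▸ card_dvd_of_le hz
  have h3 : 0 < (c y).factorization s := hs.1.factorization_pos_of_dvd Nat.card_pos.ne' h1
  refine (h.bval z1 hs.1 h1 ((dvd_pow_self s h3.ne').trans h2)).resolve_right fun m => ?_
  have h4 : s ^ ((c y).factorization s + 1) ∣ c y := by
    rw [pow_succ, mul_comm]
    exact (Nat.mul_dvd_mul_left s (m ▸ h2)).trans hb
  exact Nat.pow_succ_factorization_not_dvd Nat.card_pos.ne' hs.1 h4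

end Kit

end H34.R5
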