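import Cfsg.Agent.H34.AbB
import Cfsg.Agent.H24.Walter
import Cfsg.Agent.H55.WA0
import Cfsg.Agent.H14.FStar
import Cfsg.Agent.H4.JPrime

/-! The principal `2`-block of a group with abelian Sylow `2`-subgroups (Landrock). -/

set_option autoImplicit false

namespace H34.Ab

open Cfsg Subgroup H10.W H98 H28 H35

universe u

/-- No subgroup is of type Janko–Ree. -/
def NJ (G : Type u) [Group G] : Prop :=
  ∀ (L : Type u) [Group L] [Finite L] (f : L →* G), Function.Injective f → ¬ IsJR L

variable {G : Type u} [Group G]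

theorem NJ.subgroup (h : NJ G) (H : Subgroup G) : NJ H := fun L _ _ f hf =>
  h L (H.subtype.comp f) (H.subtype_injective.comp hf)

/-- An internal direct product. -/
noncomputable def prodEquiv {A B : Subgroup G} (hc : B ≤ centralizer (A : Set G))
    (hd : Disjoint A B) : A × B ≃* ↥(A ⊔ B) :=
  have hc' : ∀ (a : A) (b : B), Commute (A.subtype a) (B.subtype b) := fun a b => hc b.2 a a.2
  (MonoidHom.ofInjective ((MonoidHom.noncommCoprod_injective _ _ hc').2
    ⟨A.subtype_injective, B.subtype_injective, by simpa using hd⟩)).trans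
    (MulEquiv.subgroupCongr (by simp [MonoidHom.noncommCoprod_range]))

variable [Finite G]

theorem nj_of_am (hG : Ab2 G) (P : Sylow 2 G) (h : ¬ 21 ∣ am (P : Subgroup G)) : NJ G := by
  rintro L _ _ f hf ⟨t, E, K, q, hJ⟩
  obtain ⟨T⟩ : Nonempty (Sylow 2 L) := inferInstance
  exact h ((H24.jobJR' L t E K q hJ).automizer T ▸ am_dvd_of_inj hG P hf T)

omit [Finite G] in
open Classical in
theorem card_ne_one [Fintype G] (T : Subgroup G) :
    (Finset.univ.filter fun u => u ∈ T ∧ u ≠ 1).card + 1 = Nat.card T := by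
  rw [Nat.card_eq_fintype_card, Fintype.card_subtype, ← Finset.card_erase_add_one
    (s := Finset.univ.filter fun u => u ∈ T) (a := 1) (by simp)]
  congr 2
  ext u
  simp [and_comm]

theorem odd_index_of_le (P : Sylow 2 G) {N : Subgroup G} (h : (P : Subgroup G) ≤ N) :
    Odd N.index := Nat.not_even_iff_odd.1 fun h' =>
  P.not_dvd_index (h'.two_dvd.trans (index_dvd_of_le h))

section
variable (hG : Ab2 G) (hO : oddCore G = ⊥)
include hG hO

theorem sylow_eq_pCore (h : layer G = ⊥) (P : Sylow 2 G) : pCore 2 G = P :=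
  (isSyl_sylow P).eq_of_le (isPGroup_pCore 2 G)
    (H14.fstar_eq_pCore_of (p := 2) h hO ▸ (H55.W.jobA0 G hG hO).1 P) le_top

variable {L : Subgroup G} (hL : IsComponent L)
include hL

theorem comp_known : Known L :=
  have := ((H55.W.jobA0 G hG hO).2 L hL).1
  H24.walterA L (fun _ => H14.comp_not_le_centralizer hL (le_centralizer L)) (hG.subgroup L)

theorem comp_disjoint [L.Normal] : Disjoint L (centralizer (L : Set G)) := by
  have := ((H55.W.jobA0 G hG hO).2 L hL).1
  rcases (Normal.subgroupOf inferInstance L :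
    ((centralizer (L : Set G)).subgroupOf L).Normal).eq_bot_or_eq_top with h | h
  · exact (subgroupOf_eq_bot.1 h).symm
  · exact (H14.comp_not_le_centralizer hL (subgroupOf_eq_top.1 h)).elim

theorem comp_split (P : Sylow 2 G) :
    ((P : Subgroup G) ⊓ L) ⊔ ((P : Subgroup G) ⊓ centralizer (L : Set G)) = P :=
  le_antisymm (sup_le inf_le_left inf_le_left) (((H55.W.jobA0 G hG hO).2 L hL).2 P).2

theorem comp_sylow (P : Sylow 2 G) :
    ∃ T : Sylow 2 L, (T : Subgroup L).map L.subtype = (P : Subgroup G) ⊓ L :=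
  ((isSyl_sylow P).inf_of_le_normalizer le_top
    (((H55.W.jobA0 G hG hO).2 L hL).2 P).1).exists_sylow_map

theorem comp_singer (P : Sylow 2 G) : ∃ d ∈ L, d ∈ normalizer ((P : Subgroup G) : Set G) ∧
    (∀ a ∈ (P : Subgroup G) ⊓ L, ∀ b ∈ (P : Subgroup G) ⊓ L, a ≠ 1 → b ≠ 1 → IsConj a b) ∧
    (P : Subgroup G) ⊓ L ≠ ⊥ ∧ ∀ a ∈ (P : Subgroup G) ⊓ L, a ≠ 1 → a * d ≠ d * a := by
  obtain ⟨T, hT⟩ := comp_sylow hG hO hL P
  obtain ⟨-, h4, d, hd, h⟩ := ((comp_known hG hO hL).facts H24.jobL2 H24.jobJR').singer T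
  refine ⟨d, d.2, ?_, ?_, ?_, ?_⟩
  · rw [← comp_split hG hO hL P]
    refine normalizer_inf_normalizer_le_normalizer_sup _ _ ⟨hT ▸ le_normalizer_map L.subtype
      (mem_map_of_mem _ hd), centralizer_le_normalizer _ fun r hr => (hr.2 d d.2).symm⟩
  · rw [← hT]
    rintro _ ⟨a, ha, rfl⟩ _ ⟨b, hb, rfl⟩ a1 b1
    obtain ⟨k, hk⟩ := h a ha b hb (fun e => a1 (by simp [e])) fun e => b1 (by simp [e])
    exact L.subtype.map_isConj (isConj_iff.2 ⟨_, hk⟩)
  · rw [← hT, Ne, map_eq_bot_iff_of_injective _ L.subtype_injective, ← card_eq_one]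
    omega
  · rw [← hT]
    rintro _ ⟨a, ha, rfl⟩ a1 e
    have e' : Commute d a := Subtype.ext e.symm
    have : ((T : Subgroup L) : Set L) ⊆ {1, a} := fun b hb => by
      by_cases b1 : b = 1
      · exact .inl b1
      obtain ⟨k, hk⟩ := h a ha b hb (fun e => a1 (by simp [e])) b1
      exact .inr (by rw [← hk, (e'.pow_left k).eq, mul_inv_cancel_right]; rfl)
    have := (Set.ncard_le_ncard this).trans (Set.ncard_insert_le _ _)
    rw [Set.ncard_singleton, ← Nat.card_coe_set_eq] at this
    exact absurd (h4.trans this) (by decide)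

end

variable {M : Ideal AlgInt} [M.IsMaximal]

theorem od_aux (hM : IsPModular 2 M) (n : ℕ) : ∀ (G : Type u) [Group G] [Finite G],
    Nat.card G = n → Ab2 G → oddCore G = ⊥ → NJ G → OD G M := by
  induction n using Nat.strong_induction_on with
  | _ n ih => ?_
  intro G _ _ hn hG hO hJ
  have ih' : ∀ (K : Subgroup G) [K.Normal], K ≠ ⊤ → OD K M := fun K _ hK => ih _
    (hn ▸ lt_of_le_of_ne K.card_le_card_group fun h => hK (K.eq_top_of_card_eq h)) K rfl
    (hG.subgroup K) (by rw [oddCore, H2.pPrimeCore_eq_subgroupOf, show pPrimeCore 2 G = ⊥ from hO,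
      bot_subgroupOf]) (hJ.subgroup K)
  obtain ⟨P⟩ : Nonempty (Sylow 2 G) := inferInstance
  by_cases hK : normalClosure ((P : Subgroup G) : Set G) = ⊤
  swap
  · exact (ih' _ hK).of_normal (odd_index_of_le P le_normalClosure)
  by_cases h : layer G = ⊥
  · have : (P : Subgroup G).Normal := sylow_eq_pCore hG hO h P ▸ inferInstance
    exact (od_of_comm fun a b => Subtype.ext (hG.comm_sylow P a.2 b.2)).of_normal
      (odd_index_of_le P le_rfl)
  obtain ⟨L, hL⟩ := not_forall_not.1 (mt H14.layer_eq_bot_iff.2 h)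
  have gen : ∀ H : Subgroup G, (∀ S : Sylow 2 G, (S : Subgroup G) ≤ H) → H = ⊤ := fun H hH => by
    rw [eq_top_iff, ← hK, normalClosure, closure_le]
    intro x hx
    obtain ⟨a, ha, h⟩ := Group.mem_conjugatesOfSet_iff.1 hx
    obtain ⟨c, rfl⟩ := isConj_iff.1 h
    exact hH (c • P) (mem_map_of_mem _ ha)
  have : L.Normal := normalizer_eq_top_iff.1
    (gen _ fun S => (((H55.W.jobA0 G hG hO).2 L hL).2 S).1)
  have h1 : L ⊔ centralizer (L : Set G) = ⊤ := gen _ fun S =>
    (comp_split hG hO hL S).ge.trans (sup_le_sup inf_le_right inf_le_right)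
  refine OD.of_equiv hM ((prodEquiv le_rfl (comp_disjoint hG hO hL)).trans
    ((MulEquiv.subgroupCongr h1).trans topEquiv)).symm (OD.prod hM (base hM ?_ default).1
      (ih' _ fun e => H14.comp_not_le_centralizer hL (e ▸ le_top)))
  exact (or_assoc.2 (comp_known hG hO hL)).resolve_right (hJ L L.subtype L.subtype_injective)

theorem od_of_am (hM : IsPModular 2 M) (hG : Ab2 G) (P : Sylow 2 G)
    (h : ¬ 21 ∣ am (P : Subgroup G)) : OD G M := by
  have hπ := QuotientGroup.mk'_surjective (oddCore G)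
  have hk : (Nat.card (QuotientGroup.mk' (oddCore G)).ker).Coprime 2 := by
    rw [QuotientGroup.ker_mk']; exact H2.coprime_card_pPrimeCore 2 G
  exact (od_aux hM _ _ rfl (hG.quotient _) (H2.pPrimeCore_quotient_pPrimeCore 2 G)
    (nj_of_am (hG.quotient _) (P.mapSurjective hπ) (am_map_of_odd hπ hk P.isPGroup' ▸ h))).of_quot
    hM hπ (Nat.prime_two.coprime_iff_not_dvd.1 hk.symm)

theorem card_mod_eight (hM : IsPModular 2 M) (hG : Ab2 G) (P : Sylow 2 G) {x : G}
    (hx : orderOf x = 2) (hl : lz M x = 1) (h : Nat.card (P : Subgroup G) ≤ 21) :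
    0 < Nat.card (principalBlock M G) ∧
      ∃ m, Nat.card (principalBlock M G) + 8 * m = Nat.card (P : Subgroup G) := by
  obtain ⟨Q, hQ⟩ := (isPGroup_zpowers (x := x) (p := 2) (k := 1)
    (by simpa [hx] using pow_orderOf_eq_one x)).exists_le_sylow
  have hxQ := hQ (mem_zpowers x)
  have hC := (H41.blockRank_principal_eq_one_iff hM).1 hl
  have h1 := (npc_iff hG Q hxQ).1 hC
  have hPQ : Nat.card (P : Subgroup G) = Nat.card (Q : Subgroup G) := by
    rw [P.card_eq_multiplicity, Q.card_eq_multiplicity]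
  have h2 : oc Q x < Nat.card (Q : Subgroup G) := Set.ncard_lt_ncard
    (t := ((Q : Subgroup G) : Set G)) ⟨fun _ h => h.1, fun h => by
      simp [isConj_one_left.1 (h (one_mem _)).2] at hx⟩
  refine ⟨Nat.card_pos_iff.2 ⟨⟨⟨_, one_mem_principalBlock⟩⟩, inferInstance⟩, ?_⟩
  rw [hPQ, (isSyl_sylow_of_le Q (hG.sylow_le_centralizer Q hxQ)).card_eq]
  exact (od_of_am hM hG Q fun h => by
    have := Nat.le_of_dvd (odd_am hG Q).pos h; omega).card_eq hM hx hC

section prime
variable (hG : Ab2 G) (hO : oddCore G = ⊥) (P : Sylow 2 G) (he : (am (P : Subgroup G)).Prime)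
  {L : Subgroup G} (hL : IsComponent L)
include hG hO he hL

theorem nor_le_of_prime : ∃ d ∈ L, normalizer ((P : Subgroup G) : Set G) ≤
    centralizer ((P : Subgroup G) : Set G) ⊔ zpowers d := by
  obtain ⟨d, hd, h1, -, h2, h3⟩ := comp_singer hG hO hL P
  obtain ⟨⟨a, ha⟩, a1⟩ := (ne_bot_iff_exists_ne_one).1 h2
  exact ⟨d, hd, le_sup_of_prime he (centralizer_le_normalizer _) h1 fun h =>
    h3 a ha (fun e => a1 (Subtype.ext e)) (h a ha.1)⟩

theorem layer_eq_of_prime : layer G = L := by
  refine le_antisymm (H14.layer_le fun K hK => by_contra fun hne => ?_) (H14.comp_le_layer hL)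
  obtain ⟨d, hd, h⟩ := nor_le_of_prime hG hO P he hK
  obtain ⟨c, -, h1, -, h2, h3⟩ := comp_singer hG hO hL P
  obtain ⟨⟨a, ha⟩, a1⟩ := (ne_bot_iff_exists_ne_one).1 h2
  refine h3 a ha (fun e => a1 (Subtype.ext e)) ((h.trans (sup_le (centralizer_le
    (Set.singleton_subset_iff.2 ha.1)) (zpowers_le.2 fun _ e => ?_)) :
      _ ≤ centralizer ({a} : Set G)) h1 a rfl)
  exact e ▸ commutator_eq_bot_iff_le_centralizer.1 (H14.comp_commute_of_ne hK hL
    fun e => hne e.le) hd a ha.2

theorem sup_cen_of_prime : L ⊔ centralizer ((P : Subgroup G) : Set G) = ⊤ := by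
  have := H14.fstar_normal G
  obtain ⟨d, hd, h⟩ := nor_le_of_prime hG hO P he hL
  rw [eq_top_iff, ← P.normalizer_sup_eq_top' ((H55.W.jobA0 G hG hO).1 P),
    H14.fstar_eq_of_pPrimeCore_eq_bot (p := 2) hO, layer_eq_of_prime hG hO P he hL]
  exact sup_le (h.trans (sup_le le_sup_right ((zpowers_le.2 hd).trans le_sup_left)))
    (sup_le le_sup_left (((isPGroup_pCore 2 G).le_sylow_of_normal P).trans
      ((hG.le_centralizer P.isPGroup' le_rfl le_rfl).trans le_sup_right)))

theorem oc_of_prime {u : G} (hu : u ∈ (P : Subgroup G)) (h : u ∉ centralizer (L : Set G)) :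
    oc P u = am (P : Subgroup G) := by
  refine (he.eq_one_or_self_of_dvd _ (Dvd.intro_left _ (am_mul_oc hG P hu))).resolve_left
    fun h1 => h ?_
  rw [oc_eq hG P hu, relIndex_eq_one] at h1
  obtain ⟨d, hd, h2, -, -, h3⟩ := comp_singer hG hO hL P
  obtain ⟨t, ht, r, hr, rfl⟩ := (H46.mem_sup_of_nrm (inf_le_left.trans
    ((hG.le_centralizer P.isPGroup' le_rfl inf_le_left).trans (centralizer_le_normalizer _)))).1
    ((comp_split hG hO hL P).ge hu)
  by_cases t1 : t = 1
  · simpa [t1] using hr.2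
  refine (h3 t ht t1 (mul_right_cancel (b := r) ?_)).elim
  rw [mul_assoc, hr.2 d hd, ← mul_assoc, h1 h2 _ rfl, mul_assoc]

theorem card_inf_of_prime : Nat.card ((P : Subgroup G) ⊓ L : Subgroup G) =
    am (P : Subgroup G) + 1 := by
  have : L.Normal := layer_eq_of_prime hG hO P he hL ▸ H14.layer_normal G
  obtain ⟨-, -, -, h1, h2, -⟩ := comp_singer hG hO hL P
  obtain ⟨⟨a, ha⟩, a1⟩ := (ne_bot_iff_exists_ne_one).1 h2
  replace a1 : a ≠ 1 := fun e => a1 (Subtype.ext e)
  rw [← oc_of_prime hG hO P he hL ha.1 fun h => a1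
    ((comp_disjoint hG hO hL).le_bot ⟨ha.2, h⟩), oc, ← Set.ncard_insert_of_notMem (a := 1)
    fun h => a1 (isConj_one_left.1 h.2), ← Nat.card_coe_set_eq]
  refine Nat.card_congr (Equiv.setCongr (Set.ext fun v => ⟨fun hv => ?_, ?_⟩))
  · exact (em _).imp_right fun v1 => ⟨hv.1, h1 a ha v hv a1 v1⟩
  · rintro (rfl | ⟨h, h'⟩)
    · exact one_mem _
    · obtain ⟨c, rfl⟩ := isConj_iff.1 h'
      exact ⟨h, this.conj_mem _ ha.2 c⟩

theorem prime_comp (hM : IsPModular 2 M) :
    blockRank 2 (principalBlock M G) = am (P : Subgroup G) ∧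
      Nat.card (principalBlock M G) = Nat.card (P : Subgroup G) := by
  classical
  have := Fintype.ofFinite G
  have : L.Normal := layer_eq_of_prime hG hO P he hL ▸ H14.layer_normal G
  have hs := sup_cen_of_prime hG hO P he hL
  have hd := comp_disjoint hG hO hL
  have hP := comp_split hG hO hL P
  have hT := card_inf_of_prime hG hO P he hL
  set R := (P : Subgroup G) ⊓ centralizer (L : Set G)
  have hZ : R ≤ center G := fun r hr => by
    rw [← SetLike.mem_coe, ← Set.singleton_subset_iff, ← centralizer_eq_top_iff_subset, eq_top_iff,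
      ← hs]
    exact sup_le (fun l hl _ e => e ▸ (hr.2 l hl).symm)
      (centralizer_le (Set.singleton_subset_iff.2 hr.1))
  have : R.Normal := ⟨fun r hr g => by rwa [mem_center_iff.1 (hZ hr) g, mul_inv_cancel_right]⟩
  have h1 : Nat.card (P : Subgroup G) = (am (P : Subgroup G) + 1) * Nat.card R := by
    rw [← hT, ← Nat.card_prod, Nat.card_congr (prodEquiv (inf_le_right.trans
      (centralizer_le (by exact inf_le_right))) (hd.mono inf_le_right inf_le_right)).toEquiv, hP]
  have hJ := nj_of_am hG P fun h => by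
    have := he.eq_one_or_self_of_dvd 3 (dvd_trans (by decide) h)
    have := he.eq_one_or_self_of_dvd 7 (dvd_trans (by decide) h)
    omega
  have h2 : Nat.card (principalBlock M G) = Nat.card (P : Subgroup G) := by
    obtain ⟨T, hT'⟩ := comp_sylow hG hO hL P
    have hR : IsPGroup 2 R := P.isPGroup'.to_le inf_le_left
    rw [card_prin_iso hM (N := L ⊔ R) (Nat.not_even_iff_odd.2 (odd_index_of_le P
      (hP.ge.trans (sup_le_sup_right inf_le_right _))) ∘ even_iff_two_dvd.2) P
      (top_le_iff.1 (hs.ge.trans (sup_le_sup_right le_sup_left _))),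
      ← card_prin_congr (prodEquiv inf_le_right (hd.mono_right inf_le_right)), card_prin_prod hM,
      (base hM ((or_assoc.2 (comp_known hG hO hL)).resolve_right
        (hJ L L.subtype L.subtype_injective)) T).2, prin_eq_univ hM hR, Nat.card_univ,
      card_irr_of_comm fun a b => Subtype.ext (hG.comm hR a.2 b.2), h1, ← hT, ← hT',
      card_map_of_injective L.subtype_injective]
  refine ⟨?_, h2⟩
  have h3 := card_prin_eq hM P
  rw [Finset.sum_congr rfl (g := fun u => if u ∈ R then (blockRank 2 (principalBlock M G) : ℚ)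
    else 1 / am (P : Subgroup G)) fun u hu => ?_, Finset.sum_ite, Finset.sum_const,
    Finset.sum_const, h2, h1] at h3
  · have h4 := Finset.card_filter_add_card_filter_not
      (s := Finset.univ.filter fun u => u ∈ (P : Subgroup G) ∧ u ≠ 1) (· ∈ R)
    have h5 := card_ne_one (P : Subgroup G)
    have h6 := card_ne_one R
    rw [show Finset.univ.filter (fun u => u ∈ R ∧ u ≠ 1) = (Finset.univ.filter
      fun u => u ∈ (P : Subgroup G) ∧ u ≠ 1).filter (· ∈ R) from by
        ext u; simpa using ⟨fun h => ⟨⟨h.1.1, h.2⟩, h.1⟩, fun h => ⟨h.2, h.1.2⟩⟩] at h6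
    rw [← h4, h1, ← h6] at h5
    rw [← h6] at h3
    generalize ((Finset.univ.filter fun u => u ∈ (P : Subgroup G) ∧ u ≠ 1).filter
      (· ∈ R)).card = a at h3 h5
    generalize ((Finset.univ.filter fun u => u ∈ (P : Subgroup G) ∧ u ≠ 1).filter
      (· ∉ R)).card = b at h3 h5
    have h7 : (b : ℚ) = am (P : Subgroup G) * (a + 1) := by
      have : (a + b + 1 : ℚ) = (am (P : Subgroup G) + 1) * (a + 1) := by exact_mod_cast h5
      linarith
    have h8 : (am (P : Subgroup G) : ℚ) ≠ 0 := Nat.cast_ne_zero.2 he.ne_zero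
    rw [nsmul_eq_mul, nsmul_eq_mul, h7, mul_one_div, mul_div_cancel_left₀ _ h8] at h3
    push_cast at h3
    refine Nat.cast_injective (R := ℚ) (mul_left_cancel₀ (a := (a + 1 : ℚ)) (by positivity) ?_)
    linarith
  · have hu := (Finset.mem_filter.1 hu).2.1
    split_ifs with h
    · rw [lz_central (hZ h), oc_eq hG P hu, centralizer_eq_top_iff_subset.2
        (Set.singleton_subset_iff.2 (hZ h)), relIndex_top_left, Nat.cast_one, div_one]
    · have h4 := oc_of_prime hG hO P he hL hu fun h' => h ⟨hu, h'⟩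
      rw [lz, (H41.blockRank_principal_eq_one_iff hM).2 ((npc_iff hG P hu).2 h4), h4, Nat.cast_one]

end prime

theorem prime_core (hM : IsPModular 2 M) (hG : Ab2 G) (hO : oddCore G = ⊥) (P : Sylow 2 G)
    (he : (am (P : Subgroup G)).Prime) :
    blockRank 2 (principalBlock M G) = am (P : Subgroup G) ∧ (¬ Group.IsSolvable G →
      Nat.card (principalBlock M G) = Nat.card (P : Subgroup G)) := by
  by_cases h : layer G = ⊥
  swap
  · obtain ⟨L, hL⟩ := not_forall_not.1 (mt H14.layer_eq_bot_iff.2 h)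
    exact (prime_comp hG hO P he hL hM).imp_right fun h _ => h
  have h1 := sylow_eq_pCore hG hO h P
  have : (P : Subgroup G).Normal := h1 ▸ inferInstance
  have h2 := H14.centralizer_pCore_le_of_fstar_eq (H14.fstar_eq_pCore_of (p := 2) h hO)
  rw [h1] at h2
  have h3 : principalBlock M G = Set.univ := Set.eq_univ_of_forall fun χ => by
    have := Fintype.ofFinite (P : Subgroup G)
    obtain ⟨θ, hθ⟩ := H38.exists_under_irr (P : Subgroup G).subtype χ
    exact H38.mem_principalBlock_of_cen_le hM (isSyl_self P.isPGroup').exists_sylow_map h2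
      (prin_eq_univ hM P.isPGroup' ▸ trivial) hθ
  have h4 : am (P : Subgroup G) = Nat.card (G ⧸ (P : Subgroup G)) := by
    rw [am, le_antisymm h2 (hG.le_centralizer P.isPGroup' le_rfl le_rfl),
      normalizer_eq_top, relIndex_top_right, index]
  rw [h4] at he ⊢
  refine ⟨?_, fun hs => (hs ?_).elim⟩
  · rw [h3, rank_univ_of_prime Nat.prime_two (QuotientGroup.mk'_surjective _)
      (by rw [QuotientGroup.ker_mk']; exact P.isPGroup') he P.not_dvd_index]
  · have : Fact (Nat.card (G ⧸ (P : Subgroup G))).Prime := ⟨he⟩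
    have := Group.isSolvable_of_comm (isCyclic_of_prime_card (α := G ⧸ (P : Subgroup G))
      rfl).commGroup.mul_comm
    have := Group.isSolvable_of_comm (G := (P : Subgroup G)) fun a b =>
      Subtype.ext (hG.comm_sylow P a.2 b.2)
    exact Group.isSolvable_of_ker_le_range (P : Subgroup G).subtype
      (QuotientGroup.mk' (P : Subgroup G)) (by simp)

theorem prime_main (hM : IsPModular 2 M) (hG : Ab2 G) (P : Sylow 2 G)
    (he : (am (P : Subgroup G)).Prime) :
    blockRank 2 (principalBlock M G) = am (P : Subgroup G) ∧ (¬ Group.IsSolvable G →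
      Nat.card (principalBlock M G) = Nat.card (P : Subgroup G)) := by
  have hπ := QuotientGroup.mk'_surjective (oddCore G)
  have hk : (Nat.card (QuotientGroup.mk' (oddCore G)).ker).Coprime 2 := by
    rw [QuotientGroup.ker_mk']; exact H2.coprime_card_pPrimeCore 2 G
  have hk' := Nat.prime_two.coprime_iff_not_dvd.1 hk.symm
  have h1 := am_map_of_odd hπ hk P.isPGroup'
  have h := prime_core hM (hG.quotient _) (H2.pPrimeCore_quotient_pPrimeCore 2 G)
    (P.mapSurjective hπ) (h1 ▸ he)
  rw [rank_prin_quot hM hπ hk', card_prin_quot hM hπ hk']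
  refine ⟨h.1.trans h1, fun hs => (h.2 fun _ => hs ?_).trans ?_⟩
  · have := H42.odd_order (H2.odd_card_oddCore G)
    exact Group.isSolvable_of_ker_le_range (oddCore G).subtype
      (QuotientGroup.mk' (oddCore G)) (by simp)
  · rw [Sylow.card_eq_multiplicity, P.card_eq_multiplicity, H41.card_eq_ker_mul hπ,
      Nat.factorization_mul Nat.card_pos.ne' Nat.card_pos.ne', Finsupp.add_apply,
      Nat.factorization_eq_zero_of_not_dvd hk', zero_add]

open Classical in
theorem sum_inv_oc_le [Fintype G] (hG : Ab2 G) (P : Sylow 2 G) {b : ℕ}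
    (h : ∀ g ∈ normalizer ((P : Subgroup G) : Set G), g ∉ centralizer ((P : Subgroup G) : Set G) →
      Nat.card ((P : Subgroup G) ⊓ centralizer {g} : Subgroup G) ≤ b) :
    am (P : Subgroup G) * (1 + ∑ u with u ∈ (P : Subgroup G) ∧ u ≠ 1, (oc P u : ℚ)⁻¹) ≤
      Nat.card (P : Subgroup G) + (am (P : Subgroup G) - 1) * b := by
  set N := normalizer ((P : Subgroup G) : Set G)
  set C := centralizer ((P : Subgroup G) : Set G)
  have hc : ∀ K : Subgroup G, (Finset.univ.filter (· ∈ K)).card = Nat.card K := fun K => by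
    rw [Nat.card_eq_fintype_card, Fintype.card_subtype]
  have hN : (Nat.card N : ℚ) = am (P : Subgroup G) * Nat.card C := by
    rw [← Nat.cast_mul, mul_comm, H46.card_mul_relIndex (centralizer_le_normalizer _)]
  have h1 := Finset.sum_card_bipartiteAbove_eq_sum_card_bipartiteBelow
    (s := Finset.univ.filter (· ∈ (P : Subgroup G))) (t := Finset.univ.filter (· ∈ N))
    fun u g => u * g = g * u
  have h2 : ∀ u ∈ (P : Subgroup G), (((Finset.univ.filter (· ∈ N)).bipartiteAbove
      (fun u g => u * g = g * u) u).card : ℚ) = Nat.card N * (oc P u : ℚ)⁻¹ := fun u hu => by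
    have h0 := (odd_am hG P).pos
    rw [← am_mul_oc hG P hu] at h0
    rw [eq_mul_inv_iff_mul_eq₀ (by rintro h; simp [Nat.cast_eq_zero.1 h] at h0), oc_eq hG P hu,
      ← inf_relIndex_right, ← H46.card_mul_relIndex (H := centralizer {u} ⊓ N) inf_le_right, ← hc]
    push_cast
    congr 3
    ext g
    simp [mem_centralizer_singleton_iff, and_comm, eq_comm]
  have h3 : ∑ g with g ∈ N, ((Finset.univ.filter (· ∈ (P : Subgroup G))).bipartiteBelow
      (fun u g => u * g = g * u) g).card ≤
      ∑ g with g ∈ N, if g ∈ C then Nat.card (P : Subgroup G) else b :=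
    Finset.sum_le_sum fun g hg => by
      split_ifs with hg'
      · exact (Finset.card_filter_le _ _).trans (hc _).le
      · refine le_trans (le_of_eq ?_) (h g (Finset.mem_filter.1 hg).2 hg')
        rw [← hc]
        congr 1
        ext u
        simp [mem_centralizer_singleton_iff]
  have h4 := Finset.card_filter_add_card_filter_not (s := Finset.univ.filter (· ∈ N)) (· ∈ C)
  have h5 : (Finset.univ.filter (· ∈ N)).filter (· ∈ C) = Finset.univ.filter (· ∈ C) := by
    ext g; simpa using fun h => centralizer_le_normalizer _ h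
  rw [← h1, Finset.sum_ite, Finset.sum_const, Finset.sum_const, h5, ← Nat.cast_le (α := ℚ),
    Nat.cast_sum, Finset.sum_congr rfl fun u hu => h2 u (Finset.mem_filter.1 hu).2,
    ← Finset.mul_sum, ← Finset.add_sum_erase _ _ (a := 1) (by simp), oc_eq hG P (one_mem _),
    centralizer_eq_top_iff_subset.2 (by simp), relIndex_top_left,
    show (Finset.univ.filter (· ∈ (P : Subgroup G))).erase 1 =
      Finset.univ.filter fun u => u ∈ (P : Subgroup G) ∧ u ≠ 1 by ext; simp [and_comm]] at h3
  rw [h5, hc, hc, ← Nat.cast_inj (R := ℚ), Nat.cast_add] at h4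
  simp only [smul_eq_mul, hc, Nat.cast_add, Nat.cast_mul, Nat.cast_one, inv_one] at h3
  rw [← eq_sub_iff_add_eq'] at h4
  rw [h4, hN] at h3
  refine le_of_mul_le_mul_left ?_ (a := (Nat.card C : ℚ)) (by exact_mod_cast Nat.card_pos)
  linarith

theorem card_fix_le (hG : Ab2 G) (P : Sylow 2 G) (hcard : Nat.card (P : Subgroup G) = 16) {g : G}
    (hg : g ∈ normalizer ((P : Subgroup G) : Set G))
    (hg' : g ∉ centralizer ((P : Subgroup G) : Set G)) :
    Nat.card ((P : Subgroup G) ⊓ centralizer {g} : Subgroup G) ≤ 4 := by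
  set D := (P : Subgroup G) ⊓ centralizer {g}
  have h1 := H46.card_mul_relIndex (H := D) inf_le_left
  have h2 : D.relIndex P ≠ 1 := fun h => hg' fun u hu => ((relIndex_eq_one.1 h hu).2 g rfl).symm
  have h3 : D.relIndex P ≠ 2 := fun h => hg' <| by
    have h4 : g ^ 2 ∈ centralizer ((P : Subgroup G) : Set G) := fun u hu => by
      have h5 := (mem_normalizer_iff.1 hg u).1 hu
      have h6 : u * (g * u * g⁻¹) ∈ D := (mul_mem_iff_of_index_two h (a := ⟨u, hu⟩)
        (b := ⟨_, h5⟩)).2 ⟨fun e => show g * u * g⁻¹ ∈ D by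
          rwa [show g * u = u * g from e.2 g rfl, mul_inv_cancel_right], fun e => show u ∈ D by
            have : g * (g * u * g⁻¹) = g * u * g⁻¹ * g := e.2 g rfl
            rw [inv_mul_cancel_right] at this
            exact mul_left_cancel this ▸ e⟩
      have h7 : g * u * g⁻¹ * (g ^ 2 * u * (g ^ 2)⁻¹) = g * u * g⁻¹ * u := by
        rw [← hG.comm_sylow P hu h5, ← mul_inv_cancel_right (u * _) g, ← h6.2 g rfl]
        group
      rw [← mul_inv_eq_iff_eq_mul.1 (mul_left_cancel h7)]
    obtain ⟨k, hk⟩ := odd_am hG P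
    have h5 := H4.nc_pow hg (e := 2 * k + 1) hk.dvd
    rw [pow_succ, pow_mul] at h5
    exact (mul_mem_cancel_left (pow_mem h4 k)).1 h5
  rw [hcard] at h1
  by_contra h
  have : D.relIndex P ≤ 3 := by nlinarith
  interval_cases D.relIndex P <;> omega

theorem nine_main (hM : IsPModular 2 M) (hG : Ab2 G) (P : Sylow 2 G)
    (hcard : Nat.card (P : Subgroup G) = 16) (hel : ∀ x : P, x ^ 2 = 1)
    (he : am (P : Subgroup G) = 9) :
    Nat.card (principalBlock M G) = 16 ∧ blockRank 2 (principalBlock M G) = 9 := by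
  classical
  have := Fintype.ofFinite G
  set A := Finset.univ.filter fun u => u ∈ (P : Subgroup G) ∧ u ≠ 1 with hA
  have hm : ∀ u ∈ A, oc P u ∈ ({1, 3, 9} : Finset ℕ) := fun u hu => by
    have h := (Nat.dvd_prime_pow Nat.prime_three (m := 2)).1
      (Dvd.intro_left _ ((am_mul_oc hG P (Finset.mem_filter.1 hu).2.1).trans he))
    obtain ⟨k, hk, e⟩ := h
    rw [e]
    interval_cases k <;> simp
  have hs : ∀ F : ℕ → ℚ, ∑ u ∈ A, F (oc P u) = (A.filter (oc P · = 1)).card * F 1 +
      ((A.filter (oc P · = 3)).card * F 3 + (A.filter (oc P · = 9)).card * F 9) := fun F => by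
    rw [← Finset.sum_fiberwise_of_maps_to' hm]
    simp
  have h1 := hs fun _ => 1
  have h2 := sum_inv_oc_le hG P fun g => card_fix_le hG P hcard
  have h3 := dvd_card_oc P three_ne_zero
  have h9 := dvd_card_oc P (m := 9) (by decide)
  have h4 := card_ne_one (P : Subgroup G)
  rw [← Finset.filter_filter] at h3 h9
  rw [hs (·⁻¹), he, hcard] at h2
  rw [hcard, ← hA] at h4
  rw [Finset.sum_const, show A.card = 15 by omega] at h1
  have h5 : (A.filter (oc P · = 1)).card = 0 ∧ (A.filter (oc P · = 3)).card = 6 ∧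
      (A.filter (oc P · = 9)).card = 9 := by
    rw [← hA] at h3 h9
    generalize (A.filter (oc P · = 1)).card = a at *
    generalize (A.filter (oc P · = 3)).card = b at *
    generalize (A.filter (oc P · = 9)).card = c at *
    have h6 : a + b + c = 15 := by
      rw [← Nat.cast_inj (R := ℚ)]; simp only [nsmul_eq_mul] at h1; push_cast at h1 ⊢; linarith
    have h7 : 9 * a + 3 * b + c ≤ 39 := by
      rw [← Nat.cast_le (α := ℚ)]; push_cast at h2 ⊢; linarith
    omega
  have hl : ∀ u ∈ (P : Subgroup G), oc P u = 9 → lz M u = 1 := fun u hu h =>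
    (H41.blockRank_principal_eq_one_iff hM).2 ((npc_iff hG P hu).2 (h.trans he.symm))
  have h6 := card_prin_eq hM P
  rw [Finset.sum_congr rfl (g := fun u => if oc P u = 3 then 1 else 1 / 9) fun u hu => ?_,
    hs fun m => if m = 3 then 1 else 1 / 9, h5.1, h5.2.1, h5.2.2] at h6
  · obtain ⟨x, hx⟩ := Finset.card_ne_zero.1 (h5.2.2.trans_ne (by decide))
    simp only [A, Finset.mem_filter, Finset.mem_univ, true_and] at hx
    obtain ⟨h7, m, h8⟩ := card_mod_eight hM hG P (orderOf_eq_prime
      (congrArg Subtype.val (hel ⟨x, hx.1.1⟩)) hx.1.2) (hl x hx.1.1 hx.2) (by omega)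
    have h0 : blockRank 2 (principalBlock M G) ≠ 1 := fun h => by
      have := (am_eq_one_iff hG P).2 ((H41.blockRank_principal_eq_one_iff hM).1 h)
      omega
    have : Nat.card (principalBlock M G) = blockRank 2 (principalBlock M G) + 7 := by
      rw [← Nat.cast_inj (R := ℚ), h6]; norm_num
    omega
  · have hu' := (Finset.mem_filter.1 hu).2.1
    have h7 := am_mul_oc hG P hu'
    split_ifs with h
    · have h8 : am (P.subtype (hG.sylow_le_centralizer P hu')).toSubgroup = 3 := by
        rw [h] at h7; omega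
      rw [lz, (prime_main hM (hG.subgroup _) _ (h8 ▸ Nat.prime_three)).1, h8, h]
      norm_num
    · have h8 : oc P u = 9 := by
        have := Finset.filter_eq_empty_iff.1 (Finset.card_eq_zero.1 h5.1) hu
        simpa [h, this] using hm u hu
      rw [hl u hu' h8, h8]
      norm_num

end H34.Ab
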