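import Cfsg.Agent.H51.A12Spec

/-! Tower A12SYL (S3101), slot C2: completion of the signalizer functor. -/

set_option autoImplicit false
set_option linter.unusedSectionVars false

namespace H34.A12

open Cfsg Subgroup H14 H98 H1.Gold H31.S2 H51.X12 H20.X16.BV Function
open H20.X16 (BV pw)

universe u

/-- The vectors with support in `m`. -/
def msk (m : BV 6) : Subgroup (BV 6) where
  carrier := {a | ∀ i < 6, tb m i = false → tb a i = false}
  one_mem' := by
    have : ∀ i < 6, tb (1 : BV 6) i = false := by decide +kernel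
    exact fun i hi _ => this i hi
  mul_mem' {a b} ha hb i hi h := by rw [tb_mul, ha i hi h, hb i hi h]; rfl
  inv_mem' ha := ha

instance (m : BV 6) : DecidablePred (· ∈ msk m) := fun a =>
  inferInstanceAs (Decidable (∀ i < 6, tb m i = false → tb a i = false))

theorem card_msk (m : BV 6) : Nat.card (msk m) = (Finset.univ.filter (· ∈ msk m)).card :=
  Nat.subtype_card _ (by simp)

/-- Products of one or two frame elements. -/
def smb (a : BV 6) : Bool :=
  [1, 2, 4, 8, 16, 32, 63, 3, 5, 9, 17, 33, 6, 10, 18, 34, 12, 20, 36, 24, 40, 48,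
    62, 61, 59, 55, 47, 31].any fun k => Nat.beq k a.1

theorem smb_spec : ∀ a : BV 6, smb a = true →
    ∃ j : Fin 7, iA a = tau j ∨ ∃ k, j ≠ k ∧ iA a = tau j * tau k := by decide +kernel

theorem smb_tri : ∀ x : BV 6, x = 1 ∨ smb x = true ∨
    ∃ m ∈ [7, 11, 13, 14, 19, 21, 22, 25, 26, 28, 35, 37, 38, 41, 42, 44, 49, 50, 52, 56],
      ∀ y : BV 6, y ∈ msk (el m) → y = 1 ∨ smb y = true ∨ smb (x * y) = true := by
  decide +kernel

theorem card_tri : ∀ m ∈ [7, 11, 13, 14, 19, 21, 22, 25, 26, 28, 35, 37, 38, 41, 42, 44, 49, 50, 52, 56],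
    8 ≤ (Finset.univ.filter (· ∈ msk (el m))).card := by decide +kernel

theorem msk_pair : ∀ j k : Fin 7, j ≠ 0 → k ≠ 0 → j ≠ k →
    4 ≤ (Finset.univ.filter (· ∈ msk (tau j * tau k).a)).card ∧ ∀ y : BV 6,
      y ∈ msk (tau j * tau k).a → y = 1 ∨ iA y = tau j ∨ iA y = tau k ∨ iA y = tau j * tau k := by
  decide +kernel

theorem tau_mem : ∀ i, tau i ∈ A := by decide +kernel

variable {G : Type u} [Group G] [Finite G] {φ : M →* G} {X Y B : Subgroup G} {x : G}

/-- The join of the good subgroups of `X`. -/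
def tg (φ : M →* G) (X : Subgroup G) : Subgroup G := sSup {Y | Good φ Y ∧ Y ≤ X}

theorem le_tg (h : Good φ Y) (h' : Y ≤ X) : Y ≤ tg φ X := le_sSup ⟨h, h'⟩

theorem tg_le : tg φ X ≤ X := sSup_le fun _ h => h.2

theorem good_inf (h : Good φ Y) (hx : x ∈ A.map φ) : Good φ (Y ⊓ cen1 x) :=
  ⟨h.1.inf_cen1 (elem_A φ) hx, fun i => (inf_le_inf_right _ inf_le_left).trans (h.2 i)⟩

theorem good_tg_inf (h : Good φ (tg φ X)) (hx : x ∈ A.map φ) : Good φ (tg φ (X ⊓ cen1 x)) := by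
  rw [show tg φ (X ⊓ cen1 x) = tg φ X ⊓ cen1 x from le_antisymm
    (sSup_le fun Y hY => le_inf (le_tg hY.1 (hY.2.trans inf_le_left)) (hY.2.trans inf_le_right))
    (le_tg (good_inf h hx) (inf_le_inf_right _ tg_le))]
  exact good_inf h hx

theorem glue (hB : IsElementaryAbelian 2 B) (hBA : B ≤ A.map φ) (h8 : 8 ≤ Nat.card B)
    (h : ∀ y ∈ B, y ≠ 1 → Good φ (tg φ (X ⊓ cen1 y))) : Good φ (tg φ X) := by
  obtain ⟨W, h1, h2, h3⟩ := sft hB h8 (fun y => tg φ (X ⊓ cen1 y))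
    (fun a _ _ => tg_le.trans inf_le_right) (fun a ha a1 => (h a ha a1).1.mono hBA)
    fun a ha a1 b hb _ => le_tg (good_inf (h a ha a1) (hBA hb))
      (inf_le_inf_right _ (tg_le.trans inf_le_left))
  have oi : OI (A.map φ) W :=
    ⟨h1.odd, h3 ▸ le_normalizer_iSup fun a => (h a a.2.1 a.2.2).1.nor⟩
  have gW : Good φ W := ⟨oi, fun i =>
    ((oi.inf_cen1 (elem_A φ) (mem_map_of_mem φ (tau_mem i))).mono hBA).le_of_cen1 hB (by omega)
      fun a ha a1 => by
        rw [inf_right_comm, h2 a ha a1]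
        exact (h a ha a1).2 i⟩
  have : tg φ X = W := le_antisymm
    (sSup_le fun Y hY => (hY.1.1.mono hBA).le_of_cen1 hB (by omega) fun a ha a1 =>
      (le_tg (good_inf hY.1 (hBA ha)) (inf_le_inf_right _ hY.2)).trans ((h2 a ha a1).ge.trans inf_le_left))
    (le_tg gW (h3 ▸ iSup_le fun _ => tg_le.trans inf_le_left))
  exact this ▸ gW

theorem good_cj (fr : Fr φ) {g : G} (hg : g ∈ nor (A.map φ)) (h : Good φ Y) : Good φ (cj g Y) := by
  obtain ⟨σ, hσ⟩ := fr.perm g hg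
  refine ⟨by have := h.1.cj g; rwa [cj_eq_self hg] at this, fun i => ?_⟩
  have e : g * φ (tau (σ.symm i)) * g⁻¹ = φ (tau i) := by
    have := hσ (σ.symm i); rwa [σ.apply_symm_apply] at this
  rw [← e, ← cj_cen1, ← cj_oc, ← cj_inf]
  exact cj_mono g (h.2 _)

theorem mB_le (φ : M →* G) (m : BV 6) : ((msk m).map iA).map φ ≤ A.map φ :=
  map_mono (range_iA ▸ map_le_range _ _)

theorem mB_elem (φ : M →* G) (m : BV 6) : IsElementaryAbelian 2 (((msk m).map iA).map φ) :=
  elem_map φ (by rintro _ ⟨a, -, rfl⟩; rw [← map_mul, mul_self, map_one])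

theorem mB_card (c : Sy φ) (m : BV 6) :
    Nat.card (((msk m).map iA).map φ) = (Finset.univ.filter (· ∈ msk m)).card := by
  rw [c.card_map, card_map_of_injective iA_inj, card_msk]

theorem jobC2 : H51.X12.JobC2.{u} := by
  intro G _ _ φ fr kf c1
  have mA : ∀ a : BV 6, φ (iA a) ∈ A.map φ := fun a => mem_map_of_mem φ (range_iA ▸ ⟨a, rfl⟩)
  have g1 : ∀ i, Good φ (tg φ (cen1 (φ (tau i)))) := fun i => by
    rw [show tg φ (cen1 (φ (tau i))) = oc (φ (tau i)) from le_antisymm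
      (sSup_le fun Y hY => (le_inf le_rfl hY.2).trans (hY.1.2 i)) (le_tg (c1.one i) (oc_le _))]
    exact c1.one i
  have g2 : ∀ a, smb a = true → Good φ (tg φ (cen1 (φ (iA a)))) := fun a ha => by
    obtain ⟨j, h | ⟨k, hk, h⟩⟩ := smb_spec a ha <;> rw [h]
    exacts [g1 j, c1.two j k hk]
  have g3 : ∀ a, a ≠ 1 → Good φ (tg φ (cen1 (φ (iA a)))) := fun a a1 => by
    obtain h | h | ⟨m, hm, h⟩ := smb_tri a
    · exact absurd h a1
    · exact g2 a h
    refine glue (mB_elem φ (el m)) (mB_le φ _) (mB_card fr.toSy _ ▸ card_tri m hm) ?_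
    rintro _ ⟨_, ⟨y, hy, rfl⟩, rfl⟩ y1
    obtain h | h | h := h y hy
    · rw [h, map_one, map_one] at y1; exact absurd rfl y1
    · rw [inf_comm]; exact good_tg_inf (g2 y h) (mA a)
    · have e : cen1 (φ (iA a)) ⊓ cen1 (φ (iA y)) = cen1 (φ (iA (a * y))) ⊓ cen1 (φ (iA a)) := by
        ext g
        simp only [mem_inf, mem_cen1]
        refine ⟨fun ⟨h1, h2⟩ => ⟨?_, h1⟩, fun ⟨h1, h2⟩ => ⟨h2, ?_⟩⟩
        · rw [map_mul, map_mul]; exact (Commute.mul_right h1 h2 :)
        · rw [← mul_mul_self a y, map_mul, map_mul]; exact (Commute.mul_right h2 h1 :)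
      rw [e]; exact good_tg_inf (g2 _ h) (mA a)
  have gW : Good φ (tg φ ⊤) := by
    refine glue (elem_A φ) le_rfl (by rw [fr.toSy.card_map, card_A]; omega) ?_
    rw [← range_iA]
    rintro _ ⟨_, ⟨y, rfl⟩, rfl⟩ y1
    rw [top_inf_eq]
    exact g3 y fun h => y1 (by rw [h, map_one, map_one])
  have nW : nor (A.map φ) ≤ nor (tg φ ⊤) := fun g hg =>
    mem_normalizer_of_cj_le (le_tg (good_cj fr hg gW) le_top)
  have oW : oc (φ tM) ≤ tg φ ⊤ := le_tg (c1.one 0) le_top
  refine ⟨tg φ ⊤, gW.1.odd, oW, kf.k5 _ (oW.trans le_normalizer) (inf_le_right.trans nW)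
    fun j k j0 k0 jk => ?_, nW⟩
  obtain ⟨h4, hy⟩ := msk_pair j k j0 k0 jk
  have e : tg φ ⊤ = oc (φ (tau j)) ⊔ oc (φ (tau k)) ⊔ th φ (φ (tau j * tau k)) := by
    refine le_antisymm ((gW.1.mono (mB_le φ _)).le_of_cen1 (mB_elem φ _) (mB_card fr.toSy _ ▸ h4) ?_)
      (sup_le (sup_le (le_tg (c1.one j) le_top) (le_tg (c1.one k) le_top))
        (le_tg (c1.two j k jk) le_top))
    rintro _ ⟨_, ⟨y, hy', rfl⟩, rfl⟩ y1
    obtain h | h | h | h := hy y hy'
    · rw [h, map_one, map_one] at y1; exact absurd rfl y1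
    · rw [h]; exact (gW.2 j).trans (le_sup_left.trans le_sup_left)
    · rw [h]; exact (gW.2 k).trans (le_sup_right.trans le_sup_left)
    · exact (le_tg (good_inf gW (mA y)) (h ▸ inf_le_right)).trans le_sup_right
  rw [e]
  exact le_normalizer_sup (le_normalizer_sup
    ((inf_le_left.trans inf_le_right).trans (cen1_le_nor_oc _)) (inf_le_right.trans (cen1_le_nor_oc _)))
    (c1.nor 0 j k jk j0.symm k0.symm)

end H34.A12
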