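import Cfsg.Agent.H24.WalJR
import Cfsg.Agent.H46.Prod
import Cfsg.Agent.H8.AbFitting
import Cfsg.Agent.H36.PrinLoc
import Cfsg.Agent.H41.PrinRank

/-! Abelian Sylow `2`-subgroups: automizers and the subsection count of the principal block. -/

set_option autoImplicit false

namespace H34.Ab

open Cfsg Subgroup H10.W H98

variable {G H : Type*} [Group G] [Group H]

/-- The order of the automizer of `T`. -/
noncomputable abbrev am (T : Subgroup G) : ℕ :=
  (centralizer (T : Set G)).relIndex (normalizer (T : Set G))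

theorem relIndex_dvd_of_nor {C K N : Subgroup G} (h : K ≤ N) (hN : N ≤ normalizer (C : Set G)) :
    C.relIndex K ∣ C.relIndex N := by
  rw [← H46.relIndex_sup_of_nrm (h.trans hN), ← H46.relIndex_sup_of_nrm hN]
  exact H46.relIndex_dvd_of_le le_sup_left (sup_le_sup_left h _)

theorem am_inj {f : H →* G} (hf : Function.Injective f) (T : Subgroup H) : am T =
    (centralizer (T.map f : Set G)).relIndex (normalizer (T.map f : Set G) ⊓ f.range) := by
  have h1 : centralizer (T : Set H) = (centralizer (T.map f : Set G)).comap f := by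
    ext x
    simp only [mem_comap, mem_centralizer_iff, SetLike.mem_coe, mem_map, forall_exists_index,
      and_imp, forall_apply_eq_imp_iff₂, ← map_mul, hf.eq_iff]
  have h2 := comap_normalizer_eq_of_le_range (map_le_range f T)
  rw [comap_map_eq_self_of_injective hf] at h2
  rw [am, h1, ← h2, relIndex_comap, map_comap_eq, inf_comm]

theorem am_dvd_map {f : H →* G} (hf : Function.Injective f) (T : Subgroup H) :
    am T ∣ am (T.map f) := by
  rw [am_inj hf]
  exact relIndex_dvd_of_nor inf_le_left (normalizer_le_normalizer_centralizer _)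

variable [Finite G]

theorem am_sylow (P Q : Sylow 2 G) : am (P : Subgroup G) = am (Q : Subgroup G) := by
  obtain ⟨g, rfl⟩ := MulAction.exists_smul_eq G P Q
  rw [am_inj (f := (MulAut.conj g).toMonoidHom) (MulAut.conj g).injective,
    MonoidHom.range_eq_top.2 (MulAut.conj g).surjective, inf_top_eq]
  rfl

theorem am_dvd_of_le (hG : Ab2 G) (P : Sylow 2 G) {T : Subgroup G} (h : T ≤ P) :
    am T ∣ am (P : Subgroup G) := by
  have h1 := (isSyl_sylow_of_le P (hG.le_centralizer P.isPGroup' le_rfl h)).frattini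
    (centralizer_le_normalizer (T : Set G)) (normalizer_le_normalizer_centralizer T)
  rw [am, ← h1, sup_comm, H46.relIndex_sup_of_nrm
    (inf_le_left.trans (normalizer_le_normalizer_centralizer T))]
  exact (relIndex_dvd_of_le_left _ (centralizer_le h)).trans
    (relIndex_dvd_of_nor inf_le_right (normalizer_le_normalizer_centralizer _))

theorem am_dvd_of_inj (hG : Ab2 G) (P : Sylow 2 G) {f : H →* G} (hf : Function.Injective f)
    (T : Sylow 2 H) : am (T : Subgroup H) ∣ am (P : Subgroup G) := by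
  obtain ⟨Q, hQ⟩ := (T.isPGroup'.map f).exists_le_sylow
  exact (am_dvd_map hf _).trans (am_sylow P Q ▸ am_dvd_of_le hG Q hQ)

theorem am_map_of_odd {π : G →* H} (hπ : Function.Surjective π)
    (hk : (Nat.card π.ker).Coprime 2) {T : Subgroup G} (hT : IsPGroup 2 T) :
    am (T.map π) = am T := by
  rw [am, ← H14.map_normalizer_of_coprime_ker π hπ hk hT, ← relIndex_comap, ← inf_relIndex_right,
    am, ← inf_relIndex_right (centralizer (T : Set G))]
  congr 1
  refine le_antisymm (fun x hx => ⟨fun t ht => ?a, hx.2⟩) (inf_le_inf_right _ ?b)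
  case a =>
    have h1 : x * t * x⁻¹ * t⁻¹ ∈ T := T.mul_mem ((mem_normalizer_iff.1 hx.2 t).1 ht) (T.inv_mem ht)
    have h2 : x * t * x⁻¹ * t⁻¹ ∈ π.ker := by
      have := hx.1 (π t) (mem_map_of_mem π ht)
      simp [MonoidHom.mem_ker, ← this]
    have := (H2.disjoint_of_isPGroup_of_coprime hT hk).le_bot ⟨h1, h2⟩
    rw [mem_bot, mul_inv_eq_one, mul_inv_eq_iff_eq_mul] at this
    exact this.symm
  rw [← H14.map_centralizer_of_coprime_ker π hπ hk hT]
  exact le_comap_map _ _

theorem am_eq_one_iff (hG : Ab2 G) (P : Sylow 2 G) :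
    am (P : Subgroup G) = 1 ↔ HasNormalPComplement 2 G := by
  refine ⟨fun h => H8.hasNPC_of_normalizer_le_centralizer P (relIndex_eq_one.1 h), fun h => ?_⟩
  rw [← am_map_of_odd (QuotientGroup.mk'_surjective (pPrimeCore 2 G))
    (by rw [QuotientGroup.ker_mk']; exact H2.coprime_card_pPrimeCore 2 G) P.isPGroup']
  exact relIndex_eq_one.2 fun x _ t _ => (hG.quotient _).comm (isPGroup_top_iff.2
    (IsPGroup.of_card (H36.index_pPrimeCore_of_hasNPC h))) (mem_top t) (mem_top x)

omit [Finite G] in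
theorem am_subtype (P : Sylow 2 G) {C : Subgroup G} (h : (P : Subgroup G) ≤ C) :
    am (P.subtype h : Subgroup C) = (centralizer ((P : Subgroup G) : Set G)).relIndex
      (normalizer ((P : Subgroup G) : Set G) ⊓ C) := by
  rw [am_inj C.subtype_injective, Sylow.coe_subtype, map_subgroupOf_eq_of_le h, range_subtype]

theorem odd_am (hG : Ab2 G) (P : Sylow 2 G) : Odd (am (P : Subgroup G)) := by
  rw [← Nat.not_even_iff_odd, even_iff_two_dvd]
  exact fun h => (isSyl_sylow_of_le P le_normalizer).not_dvd_relIndex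
    (h.trans (relIndex_dvd_of_le_left _ (hG.le_centralizer P.isPGroup' le_rfl le_rfl)))

omit [Finite G] in
theorem le_sup_of_prime {C N : Subgroup G} (h : (C.relIndex N).Prime) (hC : C ≤ N) {d : G}
    (hd : d ∈ N) (hdC : d ∉ C) : N ≤ C ⊔ zpowers d := by
  have h1 := relIndex_mul_relIndex C (C ⊔ zpowers d) N le_sup_left
    (sup_le hC (zpowers_le.2 hd))
  rcases h.eq_one_or_self_of_dvd _ (Dvd.intro_left _ h1) with h2 | h2
  · exact relIndex_eq_one.1 h2
  · rw [h2, Nat.mul_eq_right h.ne_zero, relIndex_eq_one] at h1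
    exact (hdC (h1 (mem_sup_right (mem_zpowers d)))).elim

/-- The number of conjugates of `g` in `P`. -/
noncomputable def oc (P : Subgroup G) (g : G) : ℕ := {v | v ∈ P ∧ IsConj g v}.ncard

omit [Finite G] in
theorem oc_conj (P : Subgroup G) {a b : G} (h : IsConj a b) : oc P a = oc P b := by
  unfold oc
  congr 1
  ext v
  exact and_congr_right fun _ => ⟨h.symm.trans, h.trans⟩

section
variable (hG : Ab2 G) (P : Sylow 2 G) {u : G} (hu : u ∈ (P : Subgroup G))
include hG hu

theorem oc_eq : oc P u =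
    (centralizer ({u} : Set G)).relIndex (normalizer ((P : Subgroup G) : Set G)) := by
  rw [← H24.ncard_orb, oc]
  congr 1
  ext v
  refine ⟨fun ⟨hv, h⟩ => ?_, fun ⟨s, hs, e⟩ =>
    ⟨e ▸ (mem_normalizer_iff.1 hs u).1 hu, isConj_iff.2 ⟨s, e⟩⟩⟩
  obtain ⟨g, rfl⟩ := isConj_iff.1 h
  exact hG.exists_normalizer_conj P hu hv

theorem am_mul_oc : am (P.subtype (hG.sylow_le_centralizer P hu)).toSubgroup * oc P u =
    am (P : Subgroup G) := by
  rw [am_subtype, oc_eq hG P hu, inf_comm, relIndex_inf_mul_relIndex, inf_of_le_left]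
  exact centralizer_le (Set.singleton_subset_iff.2 hu)

theorem npc_iff : HasNormalPComplement 2 (centralizer ({u} : Set G)) ↔
    oc P u = am (P : Subgroup G) := by
  have h0 := (odd_am hG P).pos
  rw [← am_mul_oc hG P hu] at h0 ⊢
  rw [eq_comm, Nat.mul_eq_right (by rintro h; simp [h] at h0), am_eq_one_iff (hG.subgroup _)]

end

open Classical in
theorem exists_reps [Fintype G] (P : Sylow 2 G) : ∃ X : Finset G,
    (∀ x ∈ X, x ≠ 1 ∧ ∃ k : ℕ, orderOf x = 2 ^ k) ∧
    (∀ g : G, g ≠ 1 → (∃ k : ℕ, orderOf g = 2 ^ k) → ∃! x, x ∈ X ∧ IsConj g x) ∧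
    ∀ f : G → ℚ, (∀ a b, IsConj a b → f a = f b) →
      ∑ x ∈ X, f x = ∑ u with u ∈ (P : Subgroup G) ∧ u ≠ 1, f u / oc P u := by
  let r : G → G := fun g => (ConjClasses.mk g).out
  have hr : ∀ g, IsConj g (r g) := fun g =>
    ConjClasses.mk_eq_mk_iff_isConj.1 (Quotient.out_eq _).symm
  have hr' : ∀ a b, IsConj a b → r a = r b := fun a b h =>
    congrArg Quotient.out (ConjClasses.mk_eq_mk_iff_isConj.2 h)
  refine ⟨(Finset.univ.filter fun u => u ∈ (P : Subgroup G) ∧ u ≠ 1).image r, ?_, ?_, ?_⟩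
  · simp only [Finset.mem_image, Finset.mem_filter, Finset.mem_univ, true_and]
    rintro _ ⟨u, ⟨hu, h1⟩, rfl⟩
    refine ⟨fun h => h1 (isConj_one_left.1 (h ▸ hr u)), ?_⟩
    obtain ⟨k, hk⟩ := IsPGroup.iff_orderOf.1 P.isPGroup' ⟨u, hu⟩
    obtain ⟨c, hc⟩ := isConj_iff.1 (hr u)
    exact ⟨k, by rw [← hc, ← hk, ← MulAut.conj_apply, MulEquiv.orderOf_eq, orderOf_mk]⟩
  · rintro g h1 ⟨k, hk⟩
    obtain ⟨c, -, hc⟩ := (isSyl_sylow P).exists_cj_le
      (isPGroup_zpowers (x := g) (k := k) (hk ▸ pow_orderOf_eq_one g)) le_top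
    have h2 : IsConj g (c * g * c⁻¹) := isConj_iff.2 ⟨c, rfl⟩
    refine ⟨r g, ⟨Finset.mem_image.2 ⟨c * g * c⁻¹, by
      simpa [h1] using hc (mem_map_of_mem _ (mem_zpowers g)), (hr' _ _ h2).symm⟩, hr g⟩, ?_⟩
    rintro _ ⟨hy, h⟩
    obtain ⟨u, -, rfl⟩ := Finset.mem_image.1 hy
    exact hr' _ _ ((hr u).trans h.symm)
  · intro f hf
    refine Finset.sum_image' _ fun u hu => ?_
    simp only [Finset.mem_filter, Finset.mem_univ, true_and] at hu
    have h1 : ((Finset.univ.filter fun u => u ∈ (P : Subgroup G) ∧ u ≠ 1).filter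
        fun v => r v = r u).card = oc P u := by
      rw [oc, ← Set.ncard_coe_finset]
      congr 1
      ext v
      simp only [Finset.coe_filter, Finset.mem_filter, Finset.mem_univ, true_and, Set.mem_ofPred_eq]
      exact ⟨fun h => ⟨h.1.1, (hr u).trans (h.2 ▸ (hr v).symm)⟩, fun h =>
        ⟨⟨h.1, fun e => hu.2 (isConj_one_left.1 (e ▸ h.2))⟩, hr' _ _ h.2.symm⟩⟩
    have h2 : (oc (P : Subgroup G) u : ℚ) ≠ 0 := by
      rw [← h1, Nat.cast_ne_zero, Finset.card_ne_zero]
      exact ⟨u, by simp [hu]⟩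
    rw [Finset.sum_congr rfl (g := fun _ => f u / oc P u) fun v hv => ?_, Finset.sum_const, h1,
      nsmul_eq_mul, mul_div_cancel₀ _ h2, hf _ _ (hr u)]
    have h3 : IsConj v u := (hr v).trans ((Finset.mem_filter.1 hv).2 ▸ (hr u).symm)
    rw [hf _ _ h3, oc_conj _ h3]

open Classical in
theorem dvd_card_oc [Fintype G] (P : Sylow 2 G) {m : ℕ} (hm : m ≠ 0) :
    m ∣ (Finset.univ.filter fun u => (u ∈ (P : Subgroup G) ∧ u ≠ 1) ∧ oc P u = m).card := by
  obtain ⟨X, -, -, h⟩ := exists_reps P
  have h1 := h (fun g => if oc P g = m then 1 else 0) fun a b h => by rw [oc_conj _ h]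
  refine ⟨(X.filter fun g => oc P g = m).card, ?_⟩
  rw [Finset.sum_boole, Finset.sum_congr rfl (g := fun u => if oc P u = m then (m : ℚ)⁻¹ else 0)
    fun u _ => by split_ifs with h <;> simp [h], ← Finset.sum_filter, Finset.filter_filter,
    Finset.sum_const, nsmul_eq_mul] at h1
  rw [← Nat.cast_inj (R := ℚ), Nat.cast_mul, h1]
  field_simp

variable {M : Ideal AlgInt} [M.IsMaximal]

variable (M) in
/-- `l(B₀(C(u)))`. -/
noncomputable abbrev lz (u : G) : ℕ := blockRank 2 (principalBlock M (centralizer ({u} : Set G)))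

omit [Finite G] [M.IsMaximal] in
theorem rank_prin_congr (e : G ≃* H) (p : ℕ) :
    blockRank p (principalBlock M G) = blockRank p (principalBlock M H) := by
  rw [← H38.image_trI_principalBlock e, H36.blockRank_image_trI]

omit [Finite G] [M.IsMaximal] in
theorem card_prin_congr (e : G ≃* H) :
    Nat.card (principalBlock M G) = Nat.card (principalBlock M H) := by
  rw [← H38.image_trI_principalBlock e, H38.card_image_trI]

omit [Finite G] [M.IsMaximal] in
theorem lz_conj {a b : G} (h : IsConj a b) : lz M a = lz M b := by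
  obtain ⟨c, rfl⟩ := isConj_iff.1 h
  exact rank_prin_congr (((MulAut.conj c).subgroupMap _).trans (MulEquiv.subgroupCongr
    (H38.map_centralizer_singleton (MulAut.conj c) a))) 2

omit [Finite G] [M.IsMaximal] in
theorem lz_central {a : G} (h : a ∈ center G) : lz M a = blockRank 2 (principalBlock M G) :=
  rank_prin_congr ((MulEquiv.subgroupCongr (centralizer_eq_top_iff_subset.2
    (Set.singleton_subset_iff.2 h))).trans topEquiv) 2

open Classical in
theorem card_prin_eq [Fintype G] (hM : IsPModular 2 M) (P : Sylow 2 G) :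
    (Nat.card (principalBlock M G) : ℚ) = blockRank 2 (principalBlock M G) +
      ∑ u with u ∈ (P : Subgroup G) ∧ u ≠ 1, (lz M u : ℚ) / oc P u := by
  obtain ⟨X, h1, h2, h⟩ := exists_reps P
  rw [H36.card_principal_eq hM X h1 h2, ← h _ fun a b h => by rw [lz_conj h]]
  push_cast
  rfl

end H34.Ab
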