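import Cfsg.Agent.H34.IsoPrin

/-!
# Isomorphic principal blocks (Alperin, Dade): the bijection
-/

set_option autoImplicit false
set_option linter.unusedSectionVars false

open scoped MonoidAlgebra
open MonoidAlgebra

namespace H34

open Cfsg H28 H35 H36 H39

variable {M : Ideal AlgInt} [M.IsMaximal] {p : ℕ} [Fact p.Prime]
variable {G : Type*} [Group G] [Fintype G] {N : Subgroup G} [hN : N.Normal]

theorem sylow_le_of_not_dvd_index (hidx : ¬ p ∣ N.index) (P : Sylow p G) :
    (P : Subgroup G) ≤ N := fun x hx => by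
  obtain ⟨k, hk⟩ := IsPGroup.iff_orderOf.1 P.isPGroup' ⟨x, hx⟩
  rw [Subgroup.orderOf_mk] at hk
  have h1 : orderOf (x : G ⧸ N) ∣ p ^ k := hk ▸ orderOf_map_dvd (QuotientGroup.mk' N) x
  have h2 : orderOf (x : G ⧸ N) ∣ N.index := orderOf_dvd_natCard _
  obtain ⟨j, -, hj⟩ := (Nat.dvd_prime_pow Fact.out).1 h1
  rcases j with _ | j
  · exact (QuotientGroup.eq_one_iff _).1 (orderOf_eq_one_iff.1 (by simpa using hj))
  · exact absurd ((dvd_pow_self p j.succ_ne_zero).trans (hj ▸ h2)) hidx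

theorem exists_sec_cen {C : Subgroup G} (hsup : N ⊔ C = ⊤) :
    ∃ y : G ⧸ N → G, ∀ x, y x ∈ C ∧ (y x : G ⧸ N) = x := by
  have : ∀ x : G ⧸ N, ∃ y, y ∈ C ∧ (y : G ⧸ N) = x := fun x => by
    obtain ⟨g, rfl⟩ := QuotientGroup.mk_surjective x
    have hg : g ∈ ((N ⊔ C : Subgroup G) : Set G) := by rw [hsup]; trivial
    rw [Subgroup.normal_mul] at hg
    obtain ⟨n, hn, c, hc, rfl⟩ := hg
    exact ⟨c, hc, by
      simp only [QuotientGroup.mk_mul, (QuotientGroup.eq_one_iff n).2 hn, one_mul]⟩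
  exact ⟨fun x => (this x).choose, fun x => (this x).choose_spec⟩

theorem prin_le_ker_iff (hM : IsPModular p M) (hidx : ¬ p ∣ N.index) (P : Sylow p G)
    (hsup : N ⊔ Subgroup.centralizer ((P : Subgroup G) : Set G) = ⊤) (χ : IrrCharacter G) :
    χ ∈ principalBlock M G ∧ N ≤ charKer χ.1 ↔ χ.1 = fun _ => 1 := by
  classical
  constructor
  · rintro ⟨h1, h2⟩
    by_contra hne
    obtain ⟨y, hy⟩ := exists_sec_cen hsup
    obtain ⟨η, hη, hηe⟩ := χ.2.exists_quotient N h2
    have hη1 : η ≠ fun _ => 1 := fun h => hne (funext fun g => by rw [← hηe, h])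
    have hs := hη.sum_eq_zero hη1
    have hP : ∀ x, MemLocalIdeal M (1 - η x / χ.1 1) := fun x => by
      have h3 := h1 (y x)
      have hk : ¬ p ∣ (Subgroup.centralizer ({y x} : Set G)).index := fun h =>
        P.not_dvd_index (h.trans (Subgroup.index_dvd_of_le fun u hu =>
          Subgroup.mem_centralizer_singleton_iff.2 ((hy x).1 u hu)))
      have h4 := P_mul_left (inv_natCast_mem_S hM hk) h3
      have h5 : ((Subgroup.centralizer ({y x} : Set G)).index : ℂ) ≠ 0 :=
        Nat.cast_ne_zero.2 Subgroup.index_ne_zero_of_finite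
      rw [← (hy x).2, hηe]
      convert h4 using 1
      simp only [centralChar]
      field_simp
    have := P_sum Finset.univ _ fun x _ => hP x
    rw [Finset.sum_sub_distrib, ← Finset.sum_div, hs, zero_div, sub_zero, Finset.sum_const,
      Finset.card_univ, nsmul_eq_mul, mul_one, P_natCast_iff hM,
      ← Nat.card_eq_fintype_card] at this
    exact hidx this
  · intro h
    have : χ = ⟨_, isIrrCharacter_one⟩ := Subtype.ext h
    subst this
    exact ⟨one_mem_principalBlock, by rw [charKer_one]; exact le_top⟩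

theorem exists_cosSys [Fintype N] (hM : IsPModular p M) (hidx : ¬ p ∣ N.index) (P : Sylow p G)
    (hsup : N ⊔ Subgroup.centralizer ((P : Subgroup G) : Set G) = ⊤) :
    ∃ a : G ⧸ N → ℂ[G], CosSys M N a := by
  obtain ⟨y, hy⟩ := exists_sec_cen hsup
  refine ⟨fun x => cav N (y x), fun x => inv_cav _, fun x => ?_, fun x => intC_cav hM ?_,
    fun x => aug_cav _⟩
  · have := supp_cav (N := N) (y x)
    rwa [(hy x).2] at this
  · have h1 : (P : Subgroup G) ≤ N ⊓ Subgroup.centralizer {y x} :=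
      le_inf (sylow_le_of_not_dvd_index hidx P) fun u hu =>
        Subgroup.mem_centralizer_singleton_iff.2 ((hy x).1 u hu)
    have h2 := Subgroup.card_dvd_of_le h1
    rw [P.card_eq_multiplicity] at h2
    exact (((Nat.factorization_le_iff_dvd Nat.card_pos.ne' Nat.card_pos.ne').2
      (Subgroup.card_subgroup_dvd_card N)) p).trans
      (((Fact.out : p.Prime).pow_dvd_iff_le_factorization Nat.card_pos.ne').1 h2)

theorem ev_eN [Fintype N] (χ : G → ℂ) (θ : IrrCharacter N) :
    ev χ (eN θ) = θ.1 1 * classInner (fun n : N => χ n) θ.1 := by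
  rw [eN, ← H38.push_eq_emb, H38.ev_push_eChi]
  rfl

theorem supp_mul_eN [Fintype N] {x : G ⧸ N} {a : ℂ[G]} (ha : Supp (cos N x) a)
    (θ : IrrCharacter N) : Supp (cos N x) (a * eN θ) := by
  have := supp_mul_cos ha (y := 1) (b := eN θ) (by rw [cos_one]; exact supp_eN θ)
  rwa [mul_one] at this

theorem iso_principal (hM : IsPModular p M) (hidx : ¬ p ∣ N.index) (P : Sylow p G)
    (hsup : N ⊔ Subgroup.centralizer ((P : Subgroup G) : Set G) = ⊤) :
    (∀ χ ∈ principalBlock M G, ∃ θ ∈ principalBlock M N, ∀ n : N, χ.1 n = θ.1 n) ∧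
    ∀ θ ∈ principalBlock M N, ∃! χ : IrrCharacter G,
      χ ∈ principalBlock M G ∧ ∀ n : N, χ.1 n = θ.1 n := by
  classical
  obtain ⟨a, ha⟩ := exists_cosSys hM hidx P hsup
  have hB := prin_le_ker_iff hM hidx P hsup
  have hne : ∀ χ ∈ principalBlock M G, ∀ θ : IrrCharacter N, H38.Over N.subtype χ.1 θ.1 →
      ∀ x, ev χ.1 (a x * eN θ) ≠ 0 := fun χ hχ θ hov x h0 => by
    obtain ⟨r, hr, hre⟩ := ha.exists_rel hB (H41.mem_principal_of_over hχ hov)
    have := eq_zero_of_sub_eq_sum_P hr (hre χ hχ) h0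
    rw [ev_eN] at this
    exact mul_ne_zero θ.2.apply_one_ne_zero hov this
  have hirr : ∀ χ ∈ principalBlock M G, IsIrrCharacter N fun n : N => χ.1 n := fun χ hχ => by
    by_contra h
    obtain ⟨x, hx⟩ := (H40.irr_restrict_iff_coset χ.2 N).1 h
    obtain ⟨θ, hov⟩ := H38.exists_under_irr N.subtype χ
    refine hne χ hχ θ hov x ?_
    rw [ev_eq_sum]
    refine Finset.sum_eq_zero fun g _ => ?_
    by_cases hg : g ∈ cos N (x : G ⧸ N)
    · have h1 : g * x⁻¹ ∈ N := by
        rw [← QuotientGroup.eq_one_iff, QuotientGroup.mk_mul, show (g : G ⧸ N) = x from hg]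
        simp
      have := hx ⟨_, h1⟩
      simp only [inv_mul_cancel_right] at this
      rw [this, mul_zero]
    · rw [supp_mul_eN (ha.supp _) θ g hg, zero_mul]
  have hover : ∀ (χ : IrrCharacter G) (θ : IrrCharacter N), (∀ n : N, χ.1 n = θ.1 n) →
      H38.Over N.subtype χ.1 θ.1 := fun χ θ h => H38.over_of_eq θ.2.ne_zero h
  refine ⟨fun χ hχ => ⟨⟨_, hirr χ hχ⟩, H41.mem_principal_of_over hχ
    (hover χ _ fun _ => rfl), fun _ => rfl⟩, fun θ hθ => ?_⟩
  have hcov : H38.Covers N.subtype (principalBlock M G) (principalBlock M N) :=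
    ⟨_, one_mem_principalBlock, _, one_mem_principalBlock, H38.over_one⟩
  obtain ⟨χ, hχ, hov⟩ := hcov.exists_over isPBlock_principalBlock isPBlock_principalBlock hθ
  have hres : ∀ n : N, χ.1 n = θ.1 n :=
    congrFun ((hirr χ hχ).eq_of_classInner_ne_zero θ.2 hov)
  refine ⟨χ, ⟨hχ, hres⟩, fun ψ ⟨hψ, hψr⟩ => ?_⟩
  obtain ⟨f, hf, hfe⟩ := H32.exists_hom_of_ext_of_ext χ.2.isCharacter (hirr χ hχ)
    ψ.2.isCharacter fun n => (hψr n).trans (hres n).symm
  obtain ⟨r, hr, hre⟩ := ha.exists_rel hB hθ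
  have hE : ev ψ.1 (eN θ) = ev χ.1 (eN θ) := by
    rw [ev_eN, ev_eN, funext hψr, funext hres]
  have hw := eq_zero_of_eq_sum_P hr
    (w := fun x => ev ψ.1 (a x * eN θ) - ev χ.1 (a x * eN θ)) fun x => by
      simp only [mul_sub, Finset.sum_sub_distrib]
      rw [← hre χ hχ, ← hre ψ hψ, hE]
      ring
  have hf1 : ∀ g, (f g : ℂ) = 1 := fun g => by
    have h1 := sub_eq_zero.1 (congrFun hw (g : G ⧸ N))
    have h2 : ev ψ.1 (a g * eN θ) = f g * ev χ.1 (a g * eN θ) := by
      rw [ev_eq_sum, ev_eq_sum, Finset.mul_sum]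
      refine Finset.sum_congr rfl fun h _ => ?_
      by_cases hh : h ∈ cos N (g : G ⧸ N)
      · have h3 : g⁻¹ * h ∈ N := QuotientGroup.eq.1 (Eq.symm hh)
        have h4 : f h = f g := by
          have := hf _ h3
          rw [map_mul, map_inv, inv_mul_eq_one] at this
          exact this.symm
        rw [congrFun hfe h, h4]
        ring
      · rw [supp_mul_eN (ha.supp _) θ h hh, zero_mul, zero_mul, mul_zero]
    rw [h2] at h1
    exact mul_right_cancel₀ (hne χ hχ θ hov g) (h1.trans (one_mul _).symm)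
  exact Subtype.ext (by rw [hfe]; funext g; rw [hf1, one_mul])

end H34
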