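import Cfsg.Agent.H34.AbA
import Cfsg.Agent.H33.SL2Block
import Cfsg.Agent.H38.PrinCov
import Cfsg.Agent.H38.Quot
import Cfsg.Agent.H44.CD1
import Cfsg.Agent.H34.Klein
import Cfsg.Agent.H34.IsoPrin2
import Cfsg.Agent.H28.CharProd
import Cfsg.Agent.H87.Simple
import Cfsg.Agent.H10.WAsm

/-! Principal blocks: products, quotients, `SL₂(2ⁿ)`, odd degrees. -/

set_option autoImplicit false

namespace H34.Ab

open Cfsg Subgroup H10.W H98 H28 H35

variable {G H : Type*} [Group G] [Group H] [Finite G] {p : ℕ} {M : Ideal AlgInt} [M.IsMaximal]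

omit [Finite G] in
theorem dvd_orderOf_map (hp : p.Prime) {π : G →* H} (hk : ¬ p ∣ Nat.card π.ker) (g : G) :
    p ∣ orderOf (π g) ↔ p ∣ orderOf g := by
  refine ⟨fun h => h.trans (orderOf_map_dvd π g), fun h => by_contra fun hn => hk ?_⟩
  have h1 : g ^ orderOf (π g) ∈ π.ker := by rw [MonoidHom.mem_ker, map_pow, pow_orderOf_eq_one]
  have h2 : orderOf g ∣ orderOf (π g) * Nat.card π.ker := by
    rw [orderOf_dvd_iff_pow_eq_one, pow_mul, ← orderOf_dvd_iff_pow_eq_one]
    exact orderOf_dvd_natCard _ h1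
  exact (hp.dvd_mul.1 (h.trans h2)).resolve_left hn

variable [Finite H]

theorem mem_prin_prod (hM : IsPModular p M) (x : IrrCharacter G × IrrCharacter H) :
    irrProdEquiv x ∈ principalBlock M (G × H) ↔
      x.1 ∈ principalBlock M G ∧ x.2 ∈ principalBlock M H := by
  classical
  have := Fintype.ofFinite G
  have := Fintype.ofFinite H
  simp only [H38.mem_principalBlock_iff_classInner hM]
  rw [← mul_ne_zero_iff, ← classInner_prod]
  refine Iff.of_eq (congrArg (· ≠ 0) (congrArg₂ _ (funext fun y => ?_) rfl))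
  simp only [pReg_apply, Prod.orderOf, hM.1.dvd_lcm]
  by_cases h1 : p ∣ orderOf y.1 <;> by_cases h2 : p ∣ orderOf y.2 <;> simp [h1, h2]

theorem card_prin_prod (hM : IsPModular p M) : Nat.card (principalBlock M (G × H)) =
    Nat.card (principalBlock M G) * Nat.card (principalBlock M H) := by
  rw [← Nat.card_prod]
  exact Nat.card_congr ((irrProdEquiv.subtypeEquiv fun x => (mem_prin_prod hM x).symm).symm.trans
    (Equiv.subtypeProdEquivProd))

theorem card_prin_quot (hM : IsPModular p M) {π : G →* H} (hπ : Function.Surjective π)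
    (hk : ¬ p ∣ Nat.card π.ker) :
    Nat.card (principalBlock M G) = Nat.card (principalBlock M H) := by
  rw [← H38.image_infl_principalBlock hM hπ hk, Nat.card_image_of_injective (H38.infl_injective hπ)]

theorem rank_prin_quot (hM : IsPModular p M) {π : G →* H} (hπ : Function.Surjective π)
    (hk : ¬ p ∣ Nat.card π.ker) :
    blockRank p (principalBlock M G) = blockRank p (principalBlock M H) := by
  rw [← H38.image_infl_principalBlock hM hπ hk, blockRank, blockRank,
    (Submodule.equivMapOfInjective _ (LinearMap.funLeft_injective_of_surjective ℂ ℂ π hπ) _).finrank_eq,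
    Submodule.map_span, Set.image_image, Set.image_image]
  refine congrArg (fun s : Set (G → ℂ) => Module.finrank ℂ (Submodule.span ℂ s))
    (Set.image_congr fun χ _ => funext fun a => ?_)
  classical
  simp [pReg_apply, LinearMap.funLeft, dvd_orderOf_map hM.1 hk]

omit [Finite H] in
theorem card_prin_iso [Fact p.Prime] (hM : IsPModular p M) {N : Subgroup G} [N.Normal]
    (hidx : ¬ p ∣ N.index) (P : Sylow p G)
    (hsup : N ⊔ centralizer ((P : Subgroup G) : Set G) = ⊤) :
    Nat.card (principalBlock M G) = Nat.card (principalBlock M N) := by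
  have := Fintype.ofFinite G
  obtain ⟨h1, h2⟩ := iso_principal hM hidx P hsup
  choose f hf hf' using h1
  refine Nat.card_congr (Equiv.ofBijective (fun χ => ⟨f χ.1 χ.2, hf _ _⟩) ⟨fun a b h => ?_, fun θ => ?_⟩)
  · exact Subtype.ext ((h2 _ (hf a.1 a.2)).unique ⟨a.2, hf' _ _⟩
      ⟨b.2, fun n => (hf' _ b.2 n).trans (congrArg (fun θ : principalBlock M N => θ.1.1 n) h).symm⟩)
  · obtain ⟨χ, hχ, -⟩ := h2 θ.1 θ.2
    exact ⟨⟨χ, hχ.1⟩, Subtype.ext (Subtype.ext (funext fun n => (hf' _ _ n).symm.trans (hχ.2 n)))⟩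

omit [Finite H] in
theorem prin_eq_univ (hM : IsPModular p M) (h : IsPGroup p G) : principalBlock M G = Set.univ := by
  have : Fact p.Prime := ⟨hM.1⟩
  obtain ⟨k, hk⟩ := IsPGroup.iff_card.1 h
  refine Set.eq_univ_of_forall fun χ => (H37.mem_principalBlock_iff_of_normal_compl hM (k := k) ?_ χ).2 ?_
  · rw [H2.pPrimeCore_eq_bot_of_isPGroup h, index_bot, hk]
  · rw [H2.pPrimeCore_eq_bot_of_isPGroup h]; exact bot_le

theorem rank_univ_of_prime (hp : p.Prime) {π : G →* H} (hπ : Function.Surjective π)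
    (hk : IsPGroup p π.ker) (hH : (Nat.card H).Prime) (hne : ¬ p ∣ Nat.card H) :
    blockRank p (Set.univ : Set (IrrCharacter G)) = Nat.card H := by
  classical
  have := Fintype.ofFinite G
  have := Fintype.ofFinite H
  have : Fact (Nat.card H).Prime := ⟨hH⟩
  have : Fact p.Prime := ⟨hp⟩
  have hc : ∀ a b : H, a * b = b * a := (isCyclic_of_prime_card rfl).commGroup.mul_comm
  choose s hs hs' using fun q : H => exists_pReg_lift hp hπ (q := q)
    fun h => hne (h.trans (orderOf_dvd_natCard q))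
  have hinj : ∀ x : G, ¬ p ∣ orderOf x → π x = 1 → x = 1 := fun x hx h => by
    obtain ⟨k, hk⟩ := IsPGroup.iff_orderOf.1 hk ⟨x, MonoidHom.mem_ker.2 h⟩
    rw [orderOf_mk] at hk
    rcases k with _ | k
    · simpa using hk
    · exact (hx (hk ▸ dvd_pow_self p k.succ_ne_zero)).elim
  have key : ∀ x y : G, ¬ p ∣ orderOf x → ¬ p ∣ orderOf y → π x = π y → IsConj x y := by
    intro x y hx hy h
    by_cases h1 : π x = 1
    · rw [hinj x hx h1, hinj y hy (h ▸ h1)]
    have ho : ∀ z : G, ¬ p ∣ orderOf z → z ^ Nat.card H ^ 1 = 1 := fun z hz => hinj _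
      (fun h => hz (h.trans (orderOf_pow_dvd _))) (by rw [map_pow, pow_one, pow_card_eq_one'])
    obtain ⟨k, hk'⟩ := IsPGroup.iff_card.1 hk
    have h2 := (zpowers x).index_mul_card
    rw [Nat.card_zpowers, orderOf_eq_prime (pow_one (Nat.card H) ▸ ho x hx) fun e => h1 (by simp [e]),
      H41.card_eq_ker_mul hπ, hk', Nat.mul_left_inj hH.ne_zero] at h2
    obtain ⟨c, -, e⟩ := (isSyl_of_not_dvd_relIndex le_top (isPGroup_zpowers (ho x hx)) (by
      rw [relIndex_top_right, h2]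
      exact fun h => hne ((Nat.prime_dvd_prime_iff_eq hH hp).1 (hH.dvd_of_dvd_pow h)).symm.dvd)
      ).exists_cj_le (isPGroup_zpowers (ho y hy)) le_top
    obtain ⟨j, hj⟩ := e (mem_map_of_mem _ (mem_zpowers y))
    have h3 : x ^ j = c * y * c⁻¹ := hj
    have h4 := hinj (x ^ (j - 1)) (fun h => hx (h.trans (orderOf_dvd_of_mem_zpowers ⟨_, rfl⟩)))
      (by rw [zpow_sub_one, h3]; simp [h, hc (π c)])
    rw [zpow_sub_one, mul_inv_eq_one, h3] at h4
    exact (isConj_iff.2 ⟨c, h4⟩).symm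
  let Φ : (H → ℂ) →ₗ[ℂ] (G → ℂ) := pRegL p G ∘ₗ LinearMap.funLeft ℂ ℂ π
  have hΦ : Function.Injective Φ := fun f f' h => funext fun q => by
    simpa [Φ, pReg_of_reg _ (hs q), LinearMap.funLeft, hs'] using congrFun h (s q)
  rw [blockRank_eq_finrank_map, Nat.card_eq_fintype_card, ← Module.finrank_fintype_fun_eq_card ℂ,
    ← LinearMap.finrank_range_of_inj hΦ]
  refine congrArg (fun s : Submodule ℂ (G → ℂ) => Module.finrank ℂ s) (le_antisymm ?_ ?_)
  · rintro _ ⟨η, hη, rfl⟩
    refine ⟨fun q => η (s q), funext fun y => ?_⟩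
    simp only [Φ, LinearMap.comp_apply, pRegL_apply, pReg_apply, LinearMap.funLeft_apply]
    split_ifs with h
    · rfl
    · obtain ⟨c, e⟩ := isConj_iff.1 (key _ _ h (hs _) (hs' _).symm)
      rw [← e]
      exact (mem_spanB.1 hη).1 _ _
  · rintro _ ⟨f, rfl⟩
    refine ⟨_, mem_spanB.2 ⟨fun a b => ?_, fun _ h => (h trivial).elim⟩, rfl⟩
    simp [LinearMap.funLeft, hc (π b)]

variable (M G) in
/-- All characters of the principal block have odd degree. -/
def OD : Prop := ∀ χ ∈ principalBlock M G, Odd (charDegree χ.1)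

omit [Finite H] in
theorem OD.of_quot [Finite H] (hM : IsPModular 2 M) {π : G →* H} (hπ : Function.Surjective π)
    (hk : ¬ 2 ∣ Nat.card π.ker) (h : OD H M) : OD G M := by
  intro χ hχ
  obtain ⟨η, hη, rfl⟩ := (H38.image_infl_principalBlock hM hπ hk).ge hχ
  exact H38.charDegree_infl hπ η ▸ h η hη

theorem OD.of_equiv (hM : IsPModular 2 M) (e : G ≃* H) (h : OD H M) : OD G M :=
  h.of_quot hM (π := e.toMonoidHom) e.surjective (by
    rw [(MonoidHom.ker_eq_bot_iff _).2 e.injective]; simp)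

theorem OD.prod (hM : IsPModular 2 M) (h : OD G M) (h' : OD H M) : OD (G × H) M := by
  intro χ hχ
  obtain ⟨x, rfl⟩ := irrProdEquiv.surjective χ
  have h1 := (mem_prin_prod hM x).1 hχ
  rw [charDegree_eq (n := charDegree x.1.1 * charDegree x.2.1) (by
    rw [irrProdEquiv_apply, Nat.cast_mul, x.1.2.cast_charDegree, x.2.2.cast_charDegree]; rfl)]
  exact (h _ h1.1).mul (h' _ h1.2)

omit [Finite H] in
theorem OD.of_normal {N : Subgroup G} [N.Normal] (hN : Odd N.index) (h : OD N M) : OD G M := by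
  intro χ hχ
  have := Fintype.ofFinite N
  obtain ⟨θ, hθ⟩ := H38.exists_under_irr N.subtype χ
  obtain ⟨k, hk, e⟩ := H44.exists_degree_mul χ.2 θ.2 hθ
  exact e ▸ (hN.of_dvd_nat hk).mul
    (h θ (H38.mem_principalBlock_of_over (H38.NEmb.ofNormal N) hχ hθ))

omit [Finite H] [M.IsMaximal] in
theorem od_of_comm (h : ∀ a b : G, a * b = b * a) : OD G M := fun χ _ =>
  odd_one.of_dvd_nat (index_top (G := G) ▸ χ.2.charDegree_dvd_index ⊤ fun a _ b _ => h a b)

section sl2
variable {F : Type*} [Field F] [Fintype F] [CharP F 2] (hM : IsPModular 2 M)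
include hM

theorem mem_prin_sl2 (χ : IrrCharacter (H33.SL2 F)) :
    χ ∈ principalBlock M (H33.SL2 F) ↔ χ.1 1 ≠ Fintype.card F := by
  have h1 : (1 : ℂ) ≠ Fintype.card F := by exact_mod_cast Fintype.one_lt_card.ne
  refine ⟨fun h h' => h1 ?_, fun h => H38.sameBlock_of_pRegular hM
    (χ := ⟨_, isIrrCharacter_one⟩) fun g hg => ?_⟩
  · have : (⟨_, isIrrCharacter_one⟩ : IrrCharacter _) ∈ blockOf M χ.1 := sameBlock_symm h
    rw [H33.blockOf_of_deg_q hM h'] at this
    rw [← h', ← (this : _ = χ)]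
  by_cases hs : H33.IsSc (g : H33.M2 F)
  · have : g = 1 := (H33.isSc_iff_sl.1 hs).elim id fun e => e.trans (by
      ext i j; simp [CharTwo.neg_eq])
    rw [this, H33.centralChar_of_mem_center _ (one_mem _),
      H33.centralChar_of_mem_center _ (one_mem _), div_self χ.2.apply_one_ne_zero, div_self
      one_ne_zero, sub_self]
    exact P_zero
  · exact P_sub (H33.centralChar_mem_P hM isIrrCharacter_one h1 hs hg)
      (H33.centralChar_mem_P hM χ.2 h hs hg)

theorem od_sl2 : OD (H33.SL2 F) M := fun χ hχ => Nat.not_even_iff_odd.1 fun h =>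
  H33.not_dvd_degree_sl2 χ.2 ((mem_prin_sl2 hM χ).1 hχ) h.two_dvd

theorem card_prin_sl2 : Nat.card (principalBlock M (H33.SL2 F)) = Fintype.card F := by
  classical
  have h1 : principalBlock M (H33.SL2 F) = {⟨_, H33.isIrr_stS⟩}ᶜ := Set.ext fun χ =>
    (mem_prin_sl2 hM χ).trans (not_congr ⟨fun h => Subtype.ext (H33.sl2_deg_q χ.2 h),
      fun h => (h : χ = _) ▸ H33.stS_scalar (H33.isSc_iff_sl.2 (.inl rfl))⟩)
  have h2 := Set.ncard_add_ncard_compl ({⟨_, H33.isIrr_stS⟩} : Set (IrrCharacter (H33.SL2 F)))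
  rw [Set.ncard_singleton, card_irr_eq_card_conjClasses,
    H33.card_conjClasses_sl2_even (ringChar.eq F 2), ← h1] at h2
  rw [Nat.card_coe_set_eq]
  omega

end sl2

omit [Finite H] in
theorem isConj_of_singer (h : Singer G) {s t : G} (hs : orderOf s = 2) (ht : orderOf t = 2) :
    IsConj s t := by
  obtain ⟨T⟩ : Nonempty (Sylow 2 G) := inferInstance
  obtain ⟨-, -, d, -, hd⟩ := h T
  have key : ∀ s : G, orderOf s = 2 → ∃ a ∈ (T : Subgroup G), a ≠ 1 ∧ IsConj s a := fun s hs => by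
    obtain ⟨c, -, e⟩ := (isSyl_sylow T).exists_cj_le
      (isPGroup_zpowers (x := s) (k := 1) (by simpa [hs] using pow_orderOf_eq_one s)) le_top
    exact ⟨c * s * c⁻¹, e (mem_map_of_mem _ (mem_zpowers s)), fun e => by
      simp [conj_eq_one_iff.1 e] at hs, isConj_iff.2 ⟨c, rfl⟩⟩
  obtain ⟨a, ha, a1, h1⟩ := key s hs
  obtain ⟨b, hb, b1, h2⟩ := key t ht
  obtain ⟨k, hk⟩ := hd a ha b hb a1 b1
  exact (h1.trans (isConj_iff.2 ⟨_, hk⟩)).trans h2.symm

omit [Finite H] in
theorem base_even (hM : IsPModular 2 M) (h : IsL2E G) (T : Sylow 2 G) :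
    OD G M ∧ Nat.card (principalBlock M G) = Nat.card (T : Subgroup G) := by
  obtain ⟨n, hn, h⟩ := h
  have he : Even (2 ^ n) := Nat.even_pow.2 ⟨even_two, by omega⟩
  have hc := h.card_of_even he
  obtain ⟨F, _, _, hF, ⟨e⟩⟩ := h
  have := H85.charP_two_of_card (F := F) (hF ▸ he)
  have e' := e.trans (H61.slEquivPslOfTwo (CharTwo.two_eq_zero (R := F))).symm
  refine ⟨(od_sl2 hM).of_equiv hM e', ?_⟩
  rw [card_prin_congr e', card_prin_sl2 hM, hF, H87.card_sylow_eq T hc]
  have := (Nat.even_pow.2 ⟨he, two_ne_zero⟩).two_dvd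
  have : 0 < (2 ^ n) ^ 2 := by positivity
  omega

omit [Finite H] in
theorem base (hM : IsPModular 2 M) (h : IsL2E G ∨ IsL2O G) (T : Sylow 2 G) :
    OD G M ∧ Nat.card (principalBlock M G) = Nat.card (T : Subgroup G) := by
  obtain h | ⟨q, h3, h8, h⟩ := h
  · exact base_even hM h T
  rcases (show q = 5 ∨ 5 < q by omega) with rfl | h5
  · exact base_even hM ⟨2, le_rfl, H24.isL2_four_iff.2 h⟩ T
  obtain ⟨h1, -, h2⟩ := H24.IsL2.facts_of_mod h h5 h8
  obtain ⟨a, b, c, ε, hε, a1, b1, c1, ab, ac, bc, hB, -, ha, hb, hc, -⟩ :=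
    klein_block hM (h2 T) fun s t => isConj_of_singer h1.singer
  refine ⟨fun χ hχ => ?_, ?_⟩
  · rw [hB] at hχ
    rw [← Int.odd_coe_nat, Int.odd_iff]
    rcases hχ with h | rfl | rfl | rfl
    · rw [charDegree_eq (n := 1) (by simp [h])]; rfl
    all_goals omega
  · have : principalBlock M G = ({⟨_, isIrrCharacter_one⟩, a, b, c} : Set _) := by
      rw [hB]; ext χ; simp [Subtype.ext_iff]
    rw [this, (h2 T).card_four, Nat.card_coe_set_eq, Set.ncard_insert_of_notMem,
      Set.ncard_eq_three.2 ⟨a, b, c, ab, ac, bc, rfl⟩]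
    simp [Subtype.ext_iff, a1.symm, b1.symm, c1.symm]

omit [Finite H] in
theorem OD.card_eq (hM : IsPModular 2 M) (h : OD G M) {x : G} (hx : orderOf x = 2)
    (hC : HasNormalPComplement 2 (centralizer ({x} : Set G))) : ∃ m,
    Nat.card (principalBlock M G) + 8 * m =
      2 ^ (Nat.card (centralizer ({x} : Set G))).factorization 2 := by
  have := Fintype.ofFinite G
  have h1 := H36.bker_prin_self_of_hasNPC hM ⟨1, hx⟩ hC
  have h2 : ∀ χ ∈ bF (principalBlock M G), ∃ m : ℕ,
      χ.1 x * (starRingEnd ℂ) (χ.1 x) = (1 + 8 * m : ℕ) := fun χ hχ => by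
    obtain ⟨a, b, e1, e2⟩ := char_invol χ.2.isCharacter (u := x)
      (by rw [← sq, ← hx, pow_orderOf_eq_one])
    have h3 := h χ (mem_bF.1 hχ)
    rw [charDegree_eq e1] at h3
    obtain ⟨m, hm⟩ : ∃ m : ℕ, ((a : ℤ) - b) * (a - b) = (1 + 8 * m : ℕ) := by
      obtain ⟨c, hc⟩ : Odd ((a : ℤ) - b) := by
        rw [Nat.odd_iff] at h3; rw [Int.odd_iff]; omega
      obtain ⟨d, hd⟩ := Int.even_mul_succ_self c
      exact ⟨d.toNat, by
        have : 0 ≤ 8 * d + 1 := by nlinarith [sq_nonneg (2 * c + 1)]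
        push_cast; rw [Int.toNat_of_nonneg (by omega), hc]; linarith⟩
    exact ⟨m, by rw [e2, map_intCast, ← Int.cast_mul, hm, Int.cast_natCast]⟩
  choose! m hm using h2
  rw [bker_eq_sum_bF, Finset.sum_congr rfl hm, ← Nat.cast_sum, Nat.cast_inj,
    Finset.sum_add_distrib, ← Finset.mul_sum, Finset.sum_const, card_bF, smul_eq_mul, mul_one] at h1
  exact ⟨_, h1⟩

end H34.Ab
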