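/- Blocks with cyclic defect groups are perfectly isometric to the Frobenius group `C_{p^a} ⋊ C_e`. -/
import Cfsg.Agent.H34.GlueB
import Cfsg.Agent.H34.AbB
import Cfsg.Agent.H37.CycK
import Cfsg.Agent.H37.Cyc10
import Cfsg.Agent.H39.NilStar
import Cfsg.Agent.H38.PrinCov
import Cfsg.Agent.H31.FrobChar

set_option autoImplicit false
set_option linter.unusedSectionVars false
open scoped MonoidAlgebra
open Subgroup (zpowers)

namespace H34.CycP

open Cfsg H28 H35 H36 H39 H37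

universe u

section nil

variable {H : Type u} [Group H] [Fintype H] {M : Ideal AlgInt} [M.IsMaximal] {p : ℕ}

theorem pow_mul_div_mem (hM : IsPModular p M) {b : Set (IrrCharacter H)} {ξ : IrrCharacter H}
    (hξ : ξ ∈ b) (k : H) : (p : ℂ) ^ blockDefect p b * (ξ : H → ℂ) k /
      Nat.card (Subgroup.centralizer ({k} : Set H)) ∈ S M := by
  obtain ⟨a, ha, -, h1⟩ := exists_unit_major hM hξ
  have h2 := H34.centralChar_mem_S (M := M) ξ.2 k
  rw [centralChar_eq_div] at h2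
  have h3 : (Nat.card H : ℂ) ≠ 0 := Nat.cast_ne_zero.2 Nat.card_pos.ne'
  have h4 : (Nat.card (Subgroup.centralizer ({k} : Set H)) : ℂ) ≠ 0 :=
    Nat.cast_ne_zero.2 Nat.card_pos.ne'
  have h5 := ξ.2.apply_one_ne_zero
  have h6 := mul_mem (mul_mem (pow_mem (natCast_mem (S M) p) (blockHeight p b (ξ : H → ℂ))) ha) h2
  rw [← h1] at h6
  convert h6 using 1
  field_simp

theorem Tr_eS_self (hM : IsPModular p M) {χ : H → ℂ} (hχ : IsClassFunction H χ) {C : Subgroup H}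
    [Fintype C] {b : Set (IrrCharacter C)} (hb : IsPBlock M b) (k : C) :
    Tr M χ k (eS M C b) = blockPart b (fun c : C => χ c) k := by
  have h1 : IsClassFunction C fun c : C => χ c := fun a g => hχ a g
  rw [← redA_fS, Tr_redA hM hχ (intC_fS hb) (fS_idem b)
    (inv_iff_cj.1 (fS_mem_Fx b).1 _ k.2)]
  have h2 : (MonoidAlgebra.single (k : H) 1 : ℂ[H]) = emb C.subtype (.single k 1) := by
    rw [emb_single]; rfl
  rw [h2, fS, ← map_mul, ev_emb_hom]
  exact (ev_fC_mul_class h1 _).trans (by rw [ev_single, one_mul])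

variable {c : Set (IrrCharacter H)} {P : Subgroup H} {e : (F M)[H]}
  (hM : IsPModular p M) (hm : MaxP p ⊤ (eB M c) P e) (hab : P ≤ Cen P)
include hM hm hab

theorem Tr_mem {χ : H → ℂ} (hχ : IsCharacter H χ) {k u : H} (hu : IsPPart p k u) {f : (F M)[H]}
    (hs : Sub p ⊤ (zpowers u) f P e) : Tr M χ k f ∈ S M ∧
      Nat.card P * Tr M χ k f / Nat.card (Subgroup.centralizer ({k} : Set H)) ∈ S M := by
  classical
  have := Fact.mk hM.1
  have := charP_F hM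
  have := Fintype.ofFinite (Cen (zpowers u))
  obtain ⟨b, hb, rfl⟩ := (hs.blk hm.bp.blk).exists_eS'
  have h1 := (hm.local_of_le_cen hs (hab.trans (cen_anti hs.le))).isDef
  rw [top_inf_eq] at h1
  have h2 := H41.isDef_card_eq hM hb h1
  have h3 := Tr_eS_self hM hχ.isClassFunction hb ⟨k, mem_cen_of_isPPart hu⟩
  have h4 : Nat.card (Subgroup.centralizer ({⟨k, mem_cen_of_isPPart hu⟩} : Set (Cen (zpowers u)))) =
      Nat.card (Subgroup.centralizer ({k} : Set H)) :=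
    card_cen_big (Subgroup.zpowers_le_of_mem (mem_zpowers_of_isPPart hM.1 hu))
  have h5 : ∀ ξ : IrrCharacter (Cen (zpowers u)),
      classInner (fun c : Cen (zpowers u) => χ c) (ξ : _ → ℂ) ∈ S M := fun ξ => by
    obtain ⟨n, hn⟩ := (hχ.comp (Cen (zpowers u)).subtype).isGeneralizedCharacter.classInner_int
      ξ.2.isGeneralizedCharacter
    exact hn ▸ intCast_mem (S M) n
  rw [h3, blockPart_eq, Finset.sum_apply, Finset.mul_sum, Finset.sum_div, ← h4, h2]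
  refine ⟨sum_mem fun ξ _ => mul_mem (h5 ξ) (char_mem_S ξ.2.isCharacter _), sum_mem fun ξ hξ => ?_⟩
  have h6 := mul_mem (h5 ξ) (pow_mul_div_mem hM (mem_bF.1 hξ) ⟨k, mem_cen_of_isPPart hu⟩)
  convert h6 using 1
  simp only [Pi.smul_apply, smul_eq_mul, Nat.cast_pow]
  ring

theorem st_mem {χ : H → ℂ} (hχ : IsCharacter H χ) {η : P → ℂ} (hη : ∀ v, η v / Nat.card P ∈ S M)
    (k : H) : st p e η χ k / Nat.card P ∈ S M ∧
      st p e η χ k / Nat.card (Subgroup.centralizer ({k} : Set H)) ∈ S M := by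
  obtain ⟨u, hu⟩ := H41.exists_isPPart hM.1 k
  have h0 : (Nat.card P : ℂ) ≠ 0 := Nat.cast_ne_zero.2 Nat.card_pos.ne'
  have key : ∀ f, eta p e η u f * Tr M χ k f / Nat.card P ∈ S M ∧ eta p e η u f * Tr M χ k f /
      Nat.card (Subgroup.centralizer ({k} : Set H)) ∈ S M := fun f => by
    unfold eta
    split_ifs with h
    · obtain ⟨h1, h2⟩ := Tr_mem hM hm hab hχ (H37.isPPart_conj hu h.choose) h.choose_spec
      rw [Tr_cj hM hχ.isClassFunction] at h1 h2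
      rw [← card_cen_of_isConj (isConj_iff.2 ⟨h.choose, rfl⟩)] at h2
      generalize (⟨_, h.choose_spec.le (Subgroup.mem_zpowers _)⟩ : P) = w
      refine ⟨?_, ?_⟩
      · convert mul_mem (hη w) h1 using 1
        ring
      · convert mul_mem (hη w) h2 using 1
        field_simp
    · simp only [zero_mul, zero_div]
      exact ⟨zero_mem _, zero_mem _⟩
  rw [st, star_eq hM.1 hu, Finset.sum_div, Finset.sum_div]
  exact ⟨sum_mem fun f _ => (key f).1, sum_mem fun f _ => (key f).2⟩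

omit hab in
theorem subP_gen {v : H} (hv : zpowers v = P) : subP p P e (zpowers v) = e := by
  have := Fact.mk hM.1
  have := charP_F hM
  exact hm.subP_eq (hv ▸ Sub.refl _ _ _)

omit hab in
theorem Tr_st_gen {η : P → ℂ} (hη : Stb p e η) {α : H → ℂ} (hα : IsClassFunction H α) {v : P}
    (hv : zpowers (v : H) = P) {s : H} (hs : s ∈ Cen P) (hs' : ¬ p ∣ orderOf s) :
    Tr M (st p e η α) (v * s) e = η v * Tr M α (v * s) e := by
  have := Fact.mk hM.1
  have := charP_F hM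
  have := Fintype.ofFinite (Cen (zpowers (v : H)))
  have h1 := H41.isSec_centralizer_zpowers (hm.ord v.2)
  obtain ⟨b, hb, h2⟩ := (mem_bl_iff h1).1 (hm.subP_mem_bl v.2)
  have hs2 : s ∈ Cen (zpowers (v : H)) := cen_anti hv.le hs
  have h3 := congrFun (fsec_star (η := eta p e η) hM hα h1 hb) ⟨s, hs2⟩
  have h4 : ¬ p ∣ orderOf (⟨s, hs2⟩ : Cen (zpowers (v : H))) := by
    rwa [← Subgroup.orderOf_coe]
  rw [Pi.smul_apply, fsec_apply hM hα h1 hb, fsec_apply hM (isClassFunction_star hM hα hη.eta_cj)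
    h1 hb, if_neg h4, if_neg h4, ← h2, hη.eta_subP hm, subP_gen hM hm hv] at h3
  exact h3

omit hab in
theorem exists_Tr_ne (hc : IsPBlock M c) {χ : IrrCharacter H} (hχ : χ ∈ c)
    (h0 : blockHeight p c (χ : H → ℂ) = 0) {v : H} (hv : zpowers v = P) :
    ∃ s ∈ Cen P, ¬ p ∣ orderOf s ∧ Tr M χ (v * s) e ≠ 0 := by
  have := Fact.mk hM.1
  have := charP_F hM
  have := Fintype.ofFinite (Cen (zpowers v))
  have hvP : v ∈ P := hv ▸ Subgroup.mem_zpowers v
  obtain ⟨h1, b, -, hb, h2⟩ := hm.exists_sec hM hc hvP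
  have h3 := hm.mP_ne_zero_of_height_zero hM hc hχ hχ h0 h0 hvP
  rw [mP_eq hM χ.2.isClassFunction χ.2.isClassFunction h1 hb h2] at h3
  by_contra! h
  refine right_ne_zero_of_mul h3 ?_
  rw [show fsec p b v χ = 0 from funext fun y => ?_, classInner_zero_left]
  rw [fsec_apply hM χ.2.isClassFunction h1 hb]
  split_ifs with hy
  · rfl
  · rw [h2, subP_gen hM hm hv]
    exact h y (hv ▸ y.2) (by rwa [Subgroup.orderOf_coe])

omit hab in
/-- Equivariance of the `*`-construction at a generator of the defect group. -/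
theorem st_equiv (hc : IsPBlock M c) {χ : IrrCharacter H} (hχ : χ ∈ c)
    (h0 : blockHeight p c (χ : H → ℂ) = 0) (σ : H ≃* H) (hσ : ∀ x, σ x ∈ P ↔ x ∈ P)
    (he : emb σ.toMonoidHom e = e) (hχσ : ∀ x, (χ : H → ℂ) (σ x) = (χ : H → ℂ) x) {η η' : P → ℂ}
    (hη : Stb p e η) (hη' : Stb p e η') (h : ∀ x, st p e η χ (σ x) = st p e η' χ x) {v w : P}
    (hv : zpowers (v : H) = P) (hw : (w : H) = σ v) : η w = η' v := by
  have := Fact.mk hM.1
  have := charP_F hM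
  obtain ⟨s, hs, hs', h1⟩ := exists_Tr_ne hM hm hc hχ h0 hv
  have hw' : zpowers (w : H) = P := by
    rw [hw, show σ (v : H) = σ.toMonoidHom v from rfl, ← MonoidHom.map_zpowers, hv]
    ext x
    obtain ⟨y, rfl⟩ := σ.surjective x
    rw [hσ]
    exact Subgroup.mem_map_iff_mem (f := σ.toMonoidHom) σ.injective
  have hs2 : σ s ∈ Cen P := fun x hx => by
    obtain ⟨y, rfl⟩ := σ.surjective x
    rw [← map_mul, ← map_mul, hs y ((hσ y).1 hx)]
  have hee := hm.bp.blk.idem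
  have hcj : cj ((v : H) * s) e = e :=
    inv_iff_cj.1 hm.bp.blk.inv _ ⟨trivial, mul_mem (cen_anti hv.ge (le_cen_of_isCyclic inferInstance
      (Subgroup.mem_zpowers (v : H)))) hs⟩
  have h2 : ∀ α, IsClassFunction H α → Tr M α (w * σ s) e = Tr M (fun x => α (σ x)) (v * s) e :=
    fun α hα => by
      rw [hw, ← map_mul]
      conv_lhs => rw [← he]
      exact Tr_emb (φ := σ.toMonoidHom) hM σ.injective hα hee hcj
  have h3 := Tr_st_gen hM hm hη χ.2.isClassFunction hw' hs2 (by rwa [MulEquiv.orderOf_eq])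
  rw [h2 _ (hη.isClassFunction_st hM χ.2.isClassFunction), h2 _ χ.2.isClassFunction, funext h,
    funext hχσ, Tr_st_gen hM hm hη' χ.2.isClassFunction hv hs hs'] at h3
  exact (mul_right_cancel₀ h1 h3).symm

end nil

section grp

variable {G K : Type*} [Group G] [Finite G] [Group K] [Finite K] {p : ℕ}

theorem aut_eq (hp : p.Prime) (hA : IsPGroup p G) (hc : IsCyclic G) {E E' : Subgroup (MulAut G)}
    (h : Nat.card E = Nat.card E') (hd : Nat.card E ∣ p - 1) : E = E' := by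
  have := Fact.mk hp
  by_cases h2 : p = 2
  · subst h2
    have h1 : Nat.card E = 1 := Nat.dvd_one.1 hd
    rw [Subgroup.card_eq_one.1 h1, Subgroup.card_eq_one.1 (h.symm.trans h1)]
  obtain ⟨n, hn⟩ := IsPGroup.iff_card.1 hA
  have h3 : IsCyclic (ZMod (Nat.card G))ˣ := hn ▸ ZMod.isCyclic_units_of_prime_pow p hp h2 n
  have h4 : IsCyclic (MulAut G) :=
    isCyclic_of_surjective _ (IsCyclic.mulAutMulEquiv G).symm.surjective
  exact cyc_eq_of_card_eq (K := ⊤) inferInstance le_top le_top h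

theorem card_map_nor {P T : Subgroup G} (hT : T ≤ Nor P) :
    Nat.card ((T.subgroupOf (Nor P)).map P.normalizerMonoidHom) = (Cen P).relIndex T := by
  rw [← Subgroup.relIndex_ker, Subgroup.normalizerMonoidHom_ker, Subgroup.relIndex_subgroupOf hT]

theorem exists_match (hp : p.Prime) {P T : Subgroup G} {Q U : Subgroup K} (hP : IsPGroup p P)
    (hc : IsCyclic P) (hT : T ≤ Nor P) (hU : U ≤ Nor Q) (θ : P ≃* Q)
    (he : (Cen Q).relIndex U = (Cen P).relIndex T) (hd : (Cen P).relIndex T ∣ p - 1) {t : G}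
    (ht : t ∈ T) : ∃ x ∈ U, ∀ v w : P, (w : G) = t * v * t⁻¹ → (θ w : K) = x * θ v * x⁻¹ := by
  have h1 := aut_eq hp hP hc (E := (T.subgroupOf (Nor P)).map P.normalizerMonoidHom)
    (E' := ((U.subgroupOf (Nor Q)).map Q.normalizerMonoidHom).map
      (MulAut.congr θ.symm).toMonoidHom)
    (by rw [card_map_nor hT, ← he, ← card_map_nor hU]
        exact (Subgroup.card_map_of_injective (MulAut.congr θ.symm).injective).symm) (by rwa [card_map_nor hT])
  obtain ⟨_, ⟨x, hx, rfl⟩, h2⟩ := h1.le ⟨⟨t, hT ht⟩, ht, rfl⟩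
  refine ⟨x, hx, fun v w hw => ?_⟩
  have h3 : P.normalizerMonoidHom ⟨t, hT ht⟩ v = w := Subtype.ext hw.symm
  rw [← h3, ← h2]
  simp [MulAut.congr_apply]

theorem irr_ext_gen {v : G} (hv : ∀ x, x ∈ zpowers v) {ψ ψ' : IrrCharacter G}
    (h : (ψ : G → ℂ) v = (ψ' : G → ℂ) v) : ψ = ψ' := by
  have hc : ∀ a b : G, a * b = b * a := fun a b => by
    obtain ⟨m, rfl⟩ := hv a
    obtain ⟨n, rfl⟩ := hv b
    exact ((Commute.refl v).zpow_zpow m n).eq
  obtain ⟨f, hf⟩ := ψ.2.isCharacter.exists_hom (ψ.2.apply_one_of_comm hc)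
  obtain ⟨f', hf'⟩ := ψ'.2.isCharacter.exists_hom (ψ'.2.apply_one_of_comm hc)
  have h1 : f = f' := (MonoidHom.eq_iff_eq_on_generator hv f f').2
    (Units.ext ((congrFun hf v).symm.trans (h.trans (congrFun hf' v))))
  exact Subtype.ext (hf.trans (h1 ▸ hf'.symm))

theorem cI_irrEquiv {P : Subgroup G} {Q : Subgroup K} (θ : P ≃* Q) {t : G} {x : K} (ht : t ∈ Nor P)
    (hx : x ∈ Nor Q) (h : ∀ v w : P, (w : G) = t * v * t⁻¹ → (θ w : K) = x * θ v * x⁻¹)
    (ψ : IrrCharacter P) : cI x (irrEquiv θ ψ) = irrEquiv θ (cI t ψ) := by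
  refine ((cI_eq_iff hx).2 fun k k' hk => ?_).symm
  obtain ⟨v, rfl⟩ := θ.surjective k
  have h1 : t * v * t⁻¹ ∈ P := (Subgroup.mem_normalizer_iff.1 ht _).1 v.2
  obtain rfl : k' = θ ⟨_, h1⟩ := Subtype.ext (hk.trans (h v ⟨_, h1⟩ rfl).symm)
  simp only [irrEquiv_apply, MulEquiv.symm_apply_apply]
  exact (cI_eq_iff ht).1 rfl _ _ rfl

end grp

section param

variable {G : Type u} [Group G] [Fintype G] {M : Ideal AlgInt} [M.IsMaximal] {p : ℕ}
  {B : Set (IrrCharacter G)} {P Z : Subgroup G} {c : Set (IrrCharacter (Cen Z))} {e : (F M)[G]}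

theorem exists_param (h : CycS p M B P Z c) (hm : MaxP p ⊤ (eB M B) P e)
    (hs : Sub p ⊤ Z (eS M _ c) P e) (hu : Uni p c) {ζ₀ : IrrCharacter (Cen Z)} (h0 : ζ₀ ∈ c)
    (hfix : ∀ x ∈ cycT M Z c, cI x ζ₀ = ζ₀) : ∃ Φ : IrrCharacter P → IrrCharacter (Cen Z),
      Set.BijOn Φ Set.univ c ∧ Φ (oneI P) = ζ₀ ∧
      (∀ ψ ψ', (∃ x ∈ cycT M Z c, cI x (Φ ψ) = Φ ψ') ↔ ∃ t ∈ St ⊤ P e, cI t ψ = ψ') ∧
      ∀ a : IrrCharacter P → ℂ, (∀ v, (∑ ψ, a ψ * (ψ : P → ℂ) v) / Nat.card P ∈ S M) →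
        ∀ k : Cen Z, (∑ ψ, a ψ * (Φ ψ : Cen Z → ℂ) k) / Nat.card P ∈ S M ∧
          (∑ ψ, a ψ * (Φ ψ : Cen Z → ℂ) k) /
            Nat.card (Subgroup.centralizer ({k} : Set (Cen Z))) ∈ S M := by
  have hM := h.hM
  have := Fact.mk hM.1
  have := charP_F hM
  have := Fintype.ofFinite (Cen Z)
  have hinj := (Cen Z).subtype_injective
  have hZ1 : Z ≠ ⊥ := fun h0 => hM.1.one_lt.ne (by rw [← h.card, h0, Subgroup.card_bot])
  have htop : (⊤ : Subgroup (Cen Z)).map (Cen Z).subtype = ⊤ ⊓ Cen Z := by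
    rw [← MonoidHom.range_eq_map, Subgroup.range_subtype, top_inf_eq]
  have hP' : (P.subgroupOf (Cen Z)).map (Cen Z).subtype = P :=
    Subgroup.map_subgroupOf_eq_of_le h.D_le
  obtain ⟨e', rfl⟩ : ∃ e', emb (Cen Z).subtype e' = e :=
    ⟨_, Supp.emb_pull_subtype (hm.bp.blk.supp.mono fun x hx => cen_anti h.le hx.2)⟩
  have hm' : MaxP p ⊤ (eB M c) (P.subgroupOf (Cen Z)) e' := by
    rw [← maxP_emb_iff hinj, htop, hP']
    exact hm.local_of_le_cen hs h.D_le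
  have hn : Nil p ⊤ (eB M c) := by
    rw [← nil_emb_iff hinj, htop]
    exact hm.nil_local_of_isCyclic h.cyc hs hZ1
  have hh := hu.height_zero hM.1 h0
  obtain ⟨Φ, hΦ⟩ := hm'.exists_equiv_of_nil hM h.hc hn h0 hh
  let ι := Subgroup.subgroupOfEquivOfLe h.D_le
  have hcyc := isCyclic_subgroupOf h.cyc h.D_le
  have hstb := fun ψ : IrrCharacter (P.subgroupOf (Cen Z)) =>
    hm'.stb_of_nil hM h.hc hn ψ.2.isClassFunction
  have hbij : Set.BijOn (fun ψ => (Φ ((irrEquiv ι).symm ψ)).1) Set.univ c :=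
    ⟨fun ψ _ => (Φ _).2, fun ψ _ ψ' _ h1 => (irrEquiv ι).symm.injective (Φ.injective
      (Subtype.ext h1)), fun ζ hζ => ⟨irrEquiv ι (Φ.symm ⟨ζ, hζ⟩), trivial, by simp⟩⟩
  have hT : cycT M Z c = St ⊤ Z (eS M _ c) := by rw [cycT, H39.St, top_inf_eq]
  have hle : St ⊤ P (emb (Cen Z).subtype e') ≤ cycT M Z c := hT ▸ (le_inf le_rfl
    ((St_le_nor _ _ _).trans (nor_le_nor_of_isCyclic h.cyc h.le))).trans (hm.St_eq_inf hs)
  have key : ∀ t ∈ St ⊤ P (emb (Cen Z).subtype e'), ∀ ψ,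
      cI t (Φ ((irrEquiv ι).symm ψ)).1 = (Φ ((irrEquiv ι).symm (cI t ψ))).1 := fun t ht ψ => by
    have ht1 := nor_le_nor_cen Z (hle ht).1
    obtain ⟨ψ', -, h1⟩ := hbij.surjOn (h.cI_mem (hle ht) (hbij.mapsTo (Set.mem_univ ψ)))
    rw [← h1]
    congr 3
    obtain ⟨v, hv⟩ := hcyc.exists_generator
    let σ := conjEquiv (mem_iff_of_mem_normalizer (inv_mem ht1))
    have hσ : ∀ x, (σ x : G) = t⁻¹ * x * t := fun x => by simp [σ]
    have hσ' : ∀ (ζ : IrrCharacter (Cen Z)) x, ζ.1 (σ x) = (cI t ζ).1 x := fun ζ x =>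
      ((cI_eq_iff ht1).1 rfl _ _ (by rw [hσ]; group)).symm
    have hP : ∀ x, σ x ∈ P.subgroupOf (Cen Z) ↔ x ∈ P.subgroupOf (Cen Z) := fun x => by
      rw [Subgroup.mem_subgroupOf, hσ, Subgroup.mem_subgroupOf,
        ← mem_iff_of_mem_normalizer ht.1.2]
    have h2 := st_equiv hM hm' h.hc h0 hh σ hP (emb_injective hinj (by
      rw [emb_subtype_emb_conjEquiv]; exact (stab _).inv_mem ht.2))
      (fun x => by rw [hσ', hfix t (hle ht)]) (hstb ((irrEquiv ι).symm ψ))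
      (hstb ((irrEquiv ι).symm ψ')) (fun x => by rw [← hΦ, ← hΦ, hσ', ← h1])
      (v := v) (w := ⟨_, (hP v).2 v.2⟩) (by
        refine le_antisymm (Subgroup.zpowers_le.2 v.2) fun x hx => ?_
        obtain ⟨n, hn⟩ := hv ⟨x, hx⟩
        exact ⟨n, congrArg Subtype.val hn⟩) rfl
    refine irr_ext_gen (v := ι v) (fun x => ?_) (h2.symm.trans ((cI_eq_iff ht.1.2).1 rfl _ _ ?_).symm)
    · obtain ⟨y, rfl⟩ := ι.surjective x
      obtain ⟨n, rfl⟩ := hv y
      exact ⟨n, (map_zpow ι v n).symm⟩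
    · change ((v : Cen Z) : G) = t * (σ v : G) * t⁻¹
      rw [hσ]; group
  refine ⟨_, hbij, Subtype.ext ((hΦ _).trans (hm'.st_one hM h.hc (inB_irr h0))), fun ψ ψ' =>
    ⟨fun ⟨x, hx, h1⟩ => ?_, fun ⟨t, ht, h1⟩ => ⟨t, hle ht, h1 ▸ key t ht ψ⟩⟩, fun a ha k => ?_⟩
  · obtain ⟨t, ht, y, hy, rfl⟩ := hm.exists_St_mul hs h.D_le (hT ▸ hx)
    rw [cI_mul (nor_le_nor_cen Z (hle ht).1) (le_nor _ hy.2), cI_of_mem hy.2, key t ht] at h1
    exact ⟨t, ht, hbij.injOn trivial trivial h1⟩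
  · have h1 := st_mem hM hm' (le_cen_of_isCyclic hcyc) ζ₀.2.isCharacter
      (η := ∑ ψ, a ψ • ((irrEquiv ι).symm ψ).1) (fun v => by
        rw [card_subgroupOf_eq h.D_le]
        simpa using ha (ι v)) k
    rw [st_sum hM, card_subgroupOf_eq h.D_le] at h1
    simpa only [hΦ, Finset.sum_apply, Pi.smul_apply, smul_eq_mul] using h1

end param

section frob

variable {K : Type*} [Group K] [Finite K] {M : Ideal AlgInt} [M.IsMaximal] {p : ℕ}

theorem card_cen_of_cyc (hc : IsCyclic K) (k : K) :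
    Nat.card (Subgroup.centralizer ({k} : Set K)) = Nat.card K := by
  rw [← Subgroup.card_top (G := K)]
  congr 2
  refine eq_top_iff.2 fun x _ => Subgroup.mem_centralizer_singleton_iff.2 ?_
  exact hc.commGroup.mul_comm x k

theorem frob_side (hM : IsPModular p M) {Q : Subgroup K} (hQ : IsPGroup p Q) (hc : IsCyclic Q)
    (hC : Cen Q = Q) (hd : Q.index ∣ p - 1) (h1 : Q ≠ ⊥) : Q.Normal ∧
      (∀ k ∈ Q, k ≠ 1 → ∀ g : K, g * k = k * g → g ∈ Q) ∧ ∃ Z, Cen Z = Q ∧ Nor Z = ⊤ ∧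
        ∃ c, c = Set.univ ∧ cycT M Z c = ⊤ ∧ CycS p M Set.univ Q Z c := by
  have := Fact.mk hM.1
  have := Fintype.ofFinite Q
  have h2 : Q.index < p := (Nat.le_of_dvd (Nat.sub_pos_of_lt hM.1.one_lt) hd).trans_lt
    (Nat.sub_one_lt hM.1.ne_zero)
  have h3 : ¬ p ∣ Q.index := Nat.not_dvd_of_pos_of_lt
    (Nat.pos_of_ne_zero Subgroup.index_ne_zero_of_finite) h2
  let S := hQ.toSylow h3
  have h4 : Nat.card (Sylow p K) = 1 := (card_sylow_modEq_one p K).eq_of_lt_of_lt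
    ((Nat.le_of_dvd (Nat.pos_of_ne_zero Subgroup.index_ne_zero_of_finite)
      S.card_dvd_index).trans_lt h2) hM.1.one_lt
  have h5 : Subsingleton (Sylow p K) := (Nat.card_eq_one_iff_unique.1 h4).1
  have hN : Q.Normal := S.normal_of_subsingleton
  have hN' : Nor Q = ⊤ := Subgroup.normalizer_eq_top Q
  have h6 : ∀ k ∈ Q, k ≠ 1 → ∀ g : K, g * k = k * g → g ∈ Q := fun k hk hk1 g hg => by
    obtain ⟨n, hn⟩ := exists_pow_mem_cen_of_isCyclic hQ hc (g := g) (hN' ▸ trivial) hk hk1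
      (by rw [hg, mul_inv_cancel_right])
    exact mem_of_pow_mem_of_not_dvd (T := ⊤) hN'.ge (by rwa [Subgroup.relIndex_top_right])
      trivial (hC ▸ hn)
  obtain ⟨Z, hZ, hZc⟩ := exists_order_p hM ((isDefectGroup_principalBlock_iff hM).2 ⟨S, rfl⟩) h1
  have hZ1 : Z ≠ ⊥ := fun h0 => hM.1.one_lt.ne (by rw [← hZc, h0, Subgroup.card_bot])
  obtain ⟨⟨z, hz⟩, hz1⟩ := Subgroup.ne_bot_iff_exists_ne_one.1 hZ1
  have h7 : Cen Z = Q := le_antisymm
    (fun g hg => h6 z (hZ hz) (by simpa using hz1) g (hg z hz).symm) (le_cen_of_cyc hc hZ)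
  have h8 : Nor Z = ⊤ := eq_top_iff.2 (hN'.ge.trans (nor_le_nor_of_isCyclic hc hZ))
  have h9 : principalBlock M K = Set.univ := Set.eq_univ_of_forall fun χ => by
    obtain ⟨θ, hθ⟩ := H38.exists_under_irr Q.subtype χ
    exact H38.mem_principalBlock_of_cen_le hM (isSylowIn_of_maximal hQ le_rfl
      fun R _ h h' => le_antisymm h' h) hC.le (Ab.prin_eq_univ hM hQ ▸ Set.mem_univ θ) hθ
  exact ⟨hN, h6, Z, h7, h8, _, Ab.prin_eq_univ hM (h7 ▸ hQ), cycT_principal.trans h8,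
    h9 ▸ cycS_principal hM S hc hZ hZc⟩

theorem eq_of_mem_X [Fintype K] {B : Set (IrrCharacter K)} {Z : Subgroup K} [(Cen Z).Normal]
    (hC : ∀ k ∈ Cen Z, k ≠ 1 → ∀ g : K, g * k = k * g → g ∈ Cen Z)
    {X Y : Finset (IrrCharacter K)} {δ : IrrCharacter K → ℤ} {ε : ℤ}
    {th : IrrCharacter (Cen Z) → IrrCharacter K}
    (h : CycR p M B (Cen Z) Z Set.univ (oneI _) X Y δ ε th) {η η' : IrrCharacter K} (hη : η ∈ X)
    (h1 : ¬ Cen Z ≤ charKer (η : K → ℂ)) (h2 : ¬ Cen Z ≤ charKer (η' : K → ℂ)) : η = η' := by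
  classical
  have := Fintype.ofFinite (Cen Z)
  obtain ⟨θ, h3, h4, h5⟩ := H31.exists_eq_indFun_of_frob hC η.2 h1
  obtain ⟨θ', h3', h4', h5'⟩ := H31.exists_eq_indFun_of_frob hC η'.2 h2
  have key : ∀ ζ : IrrCharacter (Cen Z), ζ ≠ oneI _ →
      classInner (indFun (Cen Z) (oneI (Cen Z) : Cen Z → ℂ)) η -
        classInner (indFun (Cen Z) (ζ : Cen Z → ℂ)) η = δ η := fun ζ hζ => by
    rw [← classInner_sub_left, ← H33.indFun_sub, h.ind_eq ζ trivial hζ, classInner_sub_left,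
      classInner_irr_sum, if_pos hη, classInner_smul_left, (th ζ).2.classInner_of_ne η.2
        fun h6 => Finset.disjoint_left.1 h.disj hη (Subtype.ext h6 ▸ h.th_mem ζ trivial hζ),
      mul_zero, sub_zero]
  have h6 := (key ⟨θ, h3⟩ fun h => h4 (congrArg Subtype.val h)).trans
    (key ⟨θ', h3'⟩ fun h => h4' (congrArg Subtype.val h)).symm
  rw [sub_right_inj, ← h5, ← h5', η.2.classInner_self] at h6
  exact Subtype.ext (η'.2.eq_of_classInner_ne_zero η.2 (h6 ▸ one_ne_zero)).symm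

end frob

universe v

theorem main {G : Type u} [Group G] [Finite G] {p : ℕ} {M : Ideal AlgInt} [M.IsMaximal]
    (hM : IsPModular p M) {B : Set (IrrCharacter G)} {P : Subgroup G}
    (hPD : IsDefectGroup p M B P) (hP1 : P ≠ ⊥) (hcyc : IsCyclic P)
    {c : Set (IrrCharacter (Cen P))} (hc : IsInducedBlock M (Cen P) c B) {K : Type v} [Group K]
    [Finite K] {Q : Subgroup K} (hK : Q.index = (Cen P).relIndex (St ⊤ P (eS M _ c)))
    (hQ : IsCyclic Q) (hQc : Nat.card Q = Nat.card P) (hQC : Cen Q = Q) :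
    ∃ I s, IsPerfectIsometry p M (Set.univ : Set (IrrCharacter K)) B I s ∧
      ∀ η η' : IrrCharacter K, ¬ Q ≤ charKer (η : K → ℂ) → ¬ Q ≤ charKer (η' : K → ℂ) →
        s η = s η' := by
  classical
  have := Fact.mk hM.1
  cases nonempty_fintype G
  cases nonempty_fintype K
  obtain ⟨Z, hZ, hZc⟩ := exists_order_p hM hPD hP1
  obtain ⟨c', h, hs, he⟩ := exists_cycS_of_induced hM hPD hcyc hZ hZc hc
  have hm := maxP_of_induced hM hPD hc
  obtain ⟨ζ₀, X, Y, δ, ε, th, hR⟩ := h.cycR cycK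
  obtain ⟨Φ, hΦ1, hΦ2, hΦ3, hΦ4⟩ := exists_param h hm hs hR.uni hR.mem0 hR.fix0
  have := Fintype.ofFinite (Cen Z)
  have hd := h.e_dvd
  have hP := hm.bp.pQ
  have hQp : IsPGroup p Q := IsPGroup.of_card (hQc.trans h.card_D)
  obtain ⟨hN, hF, Z', rfl, hZ', c'', rfl, hT', h'⟩ := frob_side hM hQp hQ hQC (hK ▸ he ▸ hd)
    fun h0 => hP1 (Subgroup.card_eq_one.1 (by rw [← hQc, h0, Subgroup.card_bot]))
  have := Fintype.ofFinite (Cen Z')
  have hN' : Nor (Cen Z') = ⊤ := Subgroup.normalizer_eq_top _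
  obtain ⟨X', Y', δ', ε', th', hR'⟩ := h'.cycR_of cycK (ζ₀ := oneI _) trivial
    fun x _ => cI_oneI (hN' ▸ trivial)
  let θ : P ≃* Cen Z' := mulEquivOfCyclicCardEq hQc.symm
  have he1 : (Cen (Cen Z')).relIndex ⊤ = (Cen P).relIndex (St ⊤ P (eS M _ c)) := by
    rw [hQC, Subgroup.relIndex_top_right, hK]
  have hβ : Set.BijOn (fun ζ => Φ (irrEquiv θ.symm ζ)) Set.univ c' :=
    hΦ1.comp (irrEquiv θ.symm).bijective.bijOn_univ
  have hβ0 : Φ (irrEquiv θ.symm (oneI _)) = ζ₀ := hΦ2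
  have hne : ∀ ζ, ζ ≠ oneI _ → Φ (irrEquiv θ.symm ζ) ≠ ζ₀ := fun ζ h1 h2 =>
    h1 (hβ.injOn trivial trivial (h2.trans hβ0.symm))
  obtain ⟨I, s, h1, h2⟩ := hR.perfect hR' (by rw [hT', Subgroup.relIndex_top_right, hK, he]) hβ hβ0
    (fun ζ _ hζ η _ hη => by
      rw [hR'.th_eq ζ trivial hζ η trivial hη, hR.th_eq _ (hβ.mapsTo trivial) (hne ζ hζ) _
        (hβ.mapsTo trivial) (hne η hη), hΦ3, hT']
      refine ⟨fun ⟨x, hx, h3⟩ => ?_, fun ⟨t, ht, h3⟩ => ?_⟩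
      · obtain ⟨t, ht, h4⟩ := exists_match hM.1 hQp hQ hN'.ge (St_le_nor _ _ _) θ.symm he1.symm
          (he1 ▸ he ▸ hd) hx
        exact ⟨t, ht, by rw [cI_irrEquiv θ.symm (hN'.ge hx) ht.1.2 h4, h3]⟩
      · obtain ⟨x, hx, h4⟩ := exists_match hM.1 hP hcyc (St_le_nor _ _ _) hN'.ge θ he1
          (he ▸ hd) ht
        have h5 := cI_irrEquiv θ ht.1.2 (hN'.ge hx) h4 (irrEquiv θ.symm η)
        rw [h3, ← irrEquiv_symm, Equiv.apply_symm_apply, Equiv.apply_symm_apply] at h5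
        exact ⟨x, hx, h5⟩)
    (fun k hk k' hk' => by
      have h3 := hΦ4 (fun ψ => (ψ : P → ℂ) (θ.symm k')) (fun v => by
        have h4 := sum_block_div_mem (M := M) isPBlock_principalBlock (θ.symm k') v
        rwa [Ab.prin_eq_univ hM hP, card_cen_of_cyc hcyc,
          show bF (Set.univ : Set (IrrCharacter P)) = Finset.univ by ext; simp [mem_bF]] at h4) k
      rw [← card_cen_big hk, ← card_cen_big hk', card_cen_of_cyc hQ, hQc,
        show bF (Set.univ : Set (IrrCharacter (Cen Z'))) = Finset.univ by ext; simp [mem_bF],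
        ← (irrEquiv θ).sum_comp]
      simp only [← irrEquiv_symm, Equiv.symm_apply_apply, irrEquiv_apply]
      simpa only [mul_comm] using h3.symm)
  refine ⟨I, s, h1, fun η η' h3 h4 => ?_⟩
  rcases (hR'.mem_iff η).1 trivial with h5 | h5
  · rw [eq_of_mem_X hF hR' h5 h3 h4]
  rcases (hR'.mem_iff η').1 trivial with h6 | h6
  · rw [eq_of_mem_X hF hR' h6 h4 h3]
  rw [h2 η h5, h2 η' h6]

end H34.CycP
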