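import Cfsg.Agent.Base
import Cfsg.Agent.H38.Fong
import Mathlib.RingTheory.Valuation.ValuationSubring
import Mathlib.RingTheory.Localization.FractionRing
import Mathlib.Algebra.MvPolynomial.Rename

/-! Interface of the tower for S4643 (blueprints/DADE.md): Dade's extension theorem above the
Glauberman correspondence by a generic nilpotent operator, and the perfect isometry calculus. -/

set_option autoImplicit false

namespace H34.Dd

open Cfsg

universe u

/-- Fourier inversion for a matrix representation (absolutely irreducible, `|X|` invertible). -/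
def FI {k : Type*} [Field k] {X : Type*} [Group X] [Fintype X] {n : ℕ}
    (ρ : X →* Matrix (Fin n) (Fin n) k) : Prop :=
  ∀ s : Matrix (Fin n) (Fin n) k,
    ((n : k) / (Nat.card X : k)) • ∑ x : X, (s * ρ x⁻¹).trace • ρ x = s

/-- Reduction of a matrix representation over `O` to the residue field. -/
noncomputable def redM {O : ValuationSubring ℂ} {X : Type*} [Group X] {n : ℕ}
    (ρ : X →* Matrix (Fin n) (Fin n) O) :
    X →* Matrix (Fin n) (Fin n) (IsLocalRing.ResidueField O) :=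
  (IsLocalRing.residue O).mapMatrix.toMonoidHom.comp ρ

/-- Every character is afforded over a valuation ring of `ℂ`. -/
def JobLat : Prop :=
  ∀ (O : ValuationSubring ℂ) {X : Type u} [Group X] [Finite X] {χ : X → ℂ}, IsCharacter X χ →
    ∃ (n : ℕ) (ρ : X →* Matrix (Fin n) (Fin n) O), χ 1 = n ∧ ∀ x, (((ρ x).trace : O) : ℂ) = χ x

/-- Fourier inversion survives reduction for `p'`-groups. -/
def JobFI : Prop :=
  ∀ (O : ValuationSubring ℂ) (p : ℕ) [Fact p.Prime] [CharP (IsLocalRing.ResidueField O) p]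
    {X : Type u} [Group X] [Fintype X] {n : ℕ} (ρ : X →* Matrix (Fin n) (Fin n) O),
    ¬ p ∣ Nat.card X → IsIrrCharacter X (fun x => (((ρ x).trace : O) : ℂ)) → FI (redM ρ)

/-- A small modular representation of a `p'`-group over `σ` gives an ordinary extension. -/
def JobLift : Prop :=
  ∀ (O : ValuationSubring ℂ) (p : ℕ) [Fact p.Prime] [CharP (IsLocalRing.ResidueField O) p]
    {X C : Type u} [Group X] [Finite X] [Group C] [Fintype C] (j : C →* X) {d m : ℕ}
    (σ : C →* Matrix (Fin d) (Fin d) O)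
    (τ : X →* Matrix (Fin m) (Fin m) (IsLocalRing.ResidueField O)),
    ¬ p ∣ Nat.card X → ¬ p ∣ Nat.card C → IsIrrCharacter C (fun c => (((σ c).trace : O) : ℂ)) →
    0 < m → m ≤ d →
    ((d : IsLocalRing.ResidueField O) / (Nat.card C : IsLocalRing.ResidueField O)) •
      ∑ c : C, (redM σ c⁻¹).trace • τ (j c) = 1 →
    ∃ ψ : X → ℂ, IsIrrCharacter X ψ ∧ ∀ c, ψ (j c) = (((σ c).trace : O) : ℂ)

/-- The field of rational functions in variables indexed by `ι`. -/
abbrev KK (k : Type) [Field k] (ι : Type u) : Type u := FractionRing (MvPolynomial ι k)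

/-- The variable `y_i`. -/
noncomputable def yy (k : Type) [Field k] {ι : Type u} (i : ι) : KK k ι :=
  algebraMap (MvPolynomial ι k) (KK k ι) (MvPolynomial.X i)

/-- Permuting the variables. -/
noncomputable def sg (k : Type) [Field k] {ι : Type u} (a : Equiv.Perm ι) : KK k ι ≃+* KK k ι :=
  IsFractionRing.ringEquivOfRingEquiv (MvPolynomial.renameEquiv k a).toRingEquiv

/-- Extension of scalars of a matrix. -/
noncomputable def up {k : Type} [Field k] (ι : Type u) {n : ℕ} (s : Matrix (Fin n) (Fin n) k) :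
    Matrix (Fin n) (Fin n) (KK k ι) :=
  s.map (algebraMap k (KK k ι))

/-- The generic nilpotent operator `∑ y_g (ρ g - 1)`. -/
noncomputable def Th {k : Type} [Field k] {Γ : Type u} [Group Γ] {n : ℕ}
    (ρ : Γ →* Matrix (Fin n) (Fin n) k) (P : Subgroup Γ) [Fintype P] :
    Matrix (Fin n) (Fin n) (KK k P) :=
  ∑ g : P, yy k g • up P (ρ g - 1)

/-- `F` is negligible for `T`: on `ker T` it is `T ^ (p - 1) * H` with `H` commuting with `T ^ p`. -/
def Ngl {K : Type*} [Field K] {n : ℕ} (p : ℕ) (T F : Matrix (Fin n) (Fin n) K) : Prop :=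
  ∃ H : Matrix (Fin n) (Fin n) K, H * T ^ p = T ^ p * H ∧
    ∀ v, T.mulVec v = 0 → F.mulVec v = (T ^ (p - 1) * H).mulVec v

/-- The commutant of the generic operator, up to negligible maps. -/
def JobGen : Prop :=
  ∀ {k : Type} [Field k] (p : ℕ) [Fact p.Prime] [CharP k p] {Γ : Type u} [Group Γ] [Finite Γ]
    (N P : Subgroup Γ) [N.Normal] [Fintype N] [Fintype P]
    [Fintype ↥(N ⊓ Subgroup.centralizer (P : Set Γ))] {n : ℕ}
    (ρ : Γ →* Matrix (Fin n) (Fin n) k), IsPGroup p P → (∀ x ∈ P, ∀ y ∈ P, x * y = y * x) →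
    FI (ρ.comp N.subtype) →
    (∀ F, F * Th ρ P = Th ρ P * F → ∃ B ∈ Submodule.span (KK k P)
      {B | ∃ c ∈ N ⊓ Subgroup.centralizer (P : Set Γ), ∃ x ∈ P, B = up P (ρ (c * x))},
      Ngl p (Th ρ P) (F - B)) ∧
    Ngl p (Th ρ P) (1 - up P (((n : k) / (Nat.card N : k)) •
      ∑ c : ↥(N ⊓ Subgroup.centralizer (P : Set Γ)), (ρ (c : Γ)⁻¹).trace • ρ c))

/-- Descent of a semilinear action to the ground field. -/
def JobDesc : Prop :=
  ∀ {k : Type} [Field k] {ι : Type u} [Finite ι] {H : Type u} [Group H] [Finite H]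
    (a : H →* Equiv.Perm ι) {W : Type u} [AddCommGroup W] [Module k W] [Module (KK k ι) W]
    [IsScalarTower k (KK k ι) W] [Nontrivial W] (T : H →* Module.End k W) {d : ℕ}
    (E : Matrix (Fin d) (Fin d) k →* Module.End (KK k ι) W),
    (∀ h s w, T h (s • w) = sg k (a h) s • T h w) →
    (∀ s t, E (s + t) = E s + E t) → (∀ (c : k) s w, E (c • s) w = c • E s w) →
    (∀ h s, ∃ s', ∀ w, T h (E s w) = E s' (T h w)) →
    (∀ v : W, v ≠ 0 → ∃ B ∈ Submodule.span (KK k ι) (Set.range E),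
      ∃ φ : W →ₗ[KK k ι] KK k ι, φ v = 1 ∧ ∀ w, B w = φ w • v) →
    ∃ V : Submodule k W, V ≠ ⊥ ∧ FiniteDimensional k V ∧ Module.finrank k V ≤ d ∧
      ∀ h, ∀ v ∈ V, T h v ∈ V

/-- The modular form of Dade's theorem. -/
def JobCore : Prop :=
  ∀ {k : Type} [Field k] (p : ℕ) [Fact p.Prime] [CharP k p] {Γ : Type u} [Group Γ] [Finite Γ]
    (N P H : Subgroup Γ) [N.Normal] [Fintype N]
    [Fintype ↥(N ⊓ Subgroup.centralizer (P : Set Γ))]
    (hC : N ⊓ Subgroup.centralizer (P : Set Γ) ≤ H) {n d : ℕ}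
    (ρ : Γ →* Matrix (Fin n) (Fin n) k)
    (σ : ↥(N ⊓ Subgroup.centralizer (P : Set Γ)) →* Matrix (Fin d) (Fin d) k) (κ : k),
    IsPGroup p P → (∀ x ∈ P, ∀ y ∈ P, x * y = y * x) → H ≤ Subgroup.normalizer (P : Set Γ) →
    ¬ p ∣ Nat.card N → ¬ p ∣ n → FI (ρ.comp N.subtype) → FI σ →
    (∀ c : ↥(N ⊓ Subgroup.centralizer (P : Set Γ)), (ρ c).trace = κ * (σ c).trace) →
    ∃ (m : ℕ) (τ : H →* Matrix (Fin m) (Fin m) k), 0 < m ∧ m ≤ d ∧
      (∀ x : H, (x : Γ) ∈ P → τ x = 1) ∧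
      ((d : k) / (Nat.card ↥(N ⊓ Subgroup.centralizer (P : Set Γ)) : k)) •
        ∑ c : ↥(N ⊓ Subgroup.centralizer (P : Set Γ)),
          (σ c⁻¹).trace • τ (Subgroup.inclusion hC c) = 1

/-- Dade's theorem: if `θ` extends to `Γ`, its Glauberman correspondent extends to `H`. -/
def Dade : Prop :=
  ∀ (p : ℕ) [Fact p.Prime] {Γ : Type u} [Group Γ] [Finite Γ] (N P H : Subgroup Γ) [N.Normal]
    (hC : N ⊓ Subgroup.centralizer (P : Set Γ) ≤ H) (χ : Γ → ℂ)
    (η : ↥(N ⊓ Subgroup.centralizer (P : Set Γ)) → ℂ),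
    IsPGroup p P → (∀ x ∈ P, ∀ y ∈ P, x * y = y * x) → P ≤ H →
    H ≤ Subgroup.normalizer (P : Set Γ) → ¬ p ∣ Nat.card N → ¬ p ∣ P.relIndex H →
    IsCharacter Γ χ → IsIrrCharacter N (fun x => χ x) → IsIrrCharacter _ η →
    (∃ (m : ℕ) (Δ : ↥(N ⊓ Subgroup.centralizer (P : Set Γ)) → ℂ), (∀ c, IsIntegral ℤ (Δ c)) ∧
      ∀ c : ↥(N ⊓ Subgroup.centralizer (P : Set Γ)), χ c = m * η c + p * Δ c) →
    ∃ ψ : H → ℂ, IsIrrCharacter H ψ ∧ ∀ c, ψ (Subgroup.inclusion hC c) = η c

/-- There is a perfect isometry from `c` onto `b`. -/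
def PI (p : ℕ) (M : Ideal AlgInt) {G H : Type u} [Group G] [Group H] (c : Set (IrrCharacter H))
    (b : Set (IrrCharacter G)) : Prop :=
  ∃ I ε, IsPerfectIsometry p M c b I ε

/-- The perfect isometry calculus. -/
def JobPI : Prop :=
  ∀ (p : ℕ) (M : Ideal AlgInt) [M.IsMaximal], IsPModular p M →
    (∀ {G H K : Type u} [Group G] [Group H] [Group K] [Finite G] [Finite H] [Finite K]
      (a : Set (IrrCharacter K)) (c : Set (IrrCharacter H)) (b : Set (IrrCharacter G)),
      PI p M a c → PI p M c b → PI p M a b) ∧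
    (∀ {G H : Type u} [Group G] [Group H] [Finite G] [Finite H]
      (c : Set (IrrCharacter H)) (b : Set (IrrCharacter G)), PI p M c b → PI p M b c) ∧
    (∀ {G H : Type u} [Group G] [Group H] [Finite G] [Finite H]
      (c : Set (IrrCharacter H)) (b : Set (IrrCharacter G)), IsPBlock M c → IsPBlock M b →
      PI p M c b → blockRank p c = blockRank p b) ∧
    (∀ {G : Type u} [Group G] [Fintype G] (T : Subgroup G) (c : Set (IrrCharacter T))
      (b : Set (IrrCharacter G)), H38.IndBij p M T c b → PI p M c b) ∧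
    (∀ {G H : Type u} [Group G] [Group H] [Finite G] [Finite H] (e : H ≃* G)
      (c : Set (IrrCharacter H)) (b : Set (IrrCharacter G)), IsPBlock M b →
      (∀ ψ : IrrCharacter H, ψ ∈ c ↔ ∃ χ ∈ b, ∀ h, ψ.1 h = χ.1 (e h)) → PI p M c b)

/-- The invariant case. -/
def JobBase : Prop :=
  ∀ (p : ℕ) (M : Ideal AlgInt) [M.IsMaximal], IsPModular p M →
    ∀ {G : Type u} [Group G] [Finite G] (N P : Subgroup G) [N.Normal] [Fintype N]
      [Fintype ↥(N ⊓ Subgroup.centralizer (P : Set G))]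
      (hC : N ⊓ Subgroup.centralizer (P : Set G) ≤ Subgroup.normalizer (P : Set G))
      (θ : N → ℂ) (η : ↥(N ⊓ Subgroup.centralizer (P : Set G)) → ℂ),
      IsPGroup p P → (∀ x ∈ P, ∀ y ∈ P, x * y = y * x) → ¬ p ∣ Nat.card N → ¬ p ∣ P.index →
      (P ⊔ N).Normal → IsIrrCharacter N θ → H32.inertia θ = ⊤ → IsIrrCharacter _ η →
      (∃ (m : ℕ) (Δ : ↥(N ⊓ Subgroup.centralizer (P : Set G)) → ℂ), (∀ c, IsIntegral ℤ (Δ c)) ∧
        ∀ c : ↥(N ⊓ Subgroup.centralizer (P : Set G)), θ ⟨c, c.2.1⟩ = m * η c + p * Δ c) →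
      PI p M {ψ : IrrCharacter (Subgroup.normalizer (P : Set G)) |
          H38.Over (Subgroup.inclusion hC) ψ.1 η}
        {χ : IrrCharacter G | H38.Over N.subtype χ.1 θ}

end H34.Dd
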