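/- Blocks whose characters have equal degrees (Okuyama–Tsushima). -/
import Cfsg.Agent.H34.Pim
import Cfsg.Agent.H39.NilStar
import Cfsg.Agent.S0972
import Cfsg.Agent.H38.Quot
import Cfsg.Agent.H36.Lift
import Cfsg.Agent.H10.StableNormal
import Cfsg.Agent.H3.FrattiniP

set_option autoImplicit false
set_option linter.unusedSectionVars false

namespace H34.EqDeg

open Cfsg H28 H35 H2 H41 H34.Pim MonoidAlgebra Module Finset
open scoped ComplexConjugate

theorem exists_center_of_comm {A : Type*} [Ring A] {b i : A} (hb : ∀ x, b * x = x * b)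
    (hbi : b * i = i) (hi : i * i = i) {n : ℕ} {β α : Fin n → A} (h1 : ∑ q, β q * α q = b)
    (h2 : ∀ q, β q * i = β q) (h3 : ∀ q, i * α q = α q)
    (hc : ∀ x y, i * x * i * (i * y * i) = i * y * i * (i * x * i)) (y : A) :
    ∃ z, (∀ x, x * z = z * x) ∧ b * z = z ∧ z * i = i * y * i := by
  obtain ⟨a, ha⟩ : ∃ a, a = i * y * i := ⟨_, rfl⟩
  rw [← ha]
  have hβ : ∀ q, b * β q = β q := fun q => by rw [hb, ← h2 q, mul_assoc, ← hb, hbi]
  have hα : ∀ q, α q * b = α q := fun q => by rw [← hb, ← h3 q, ← mul_assoc, hbi]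
  have key : ∀ u, i * u = u → u * i = u → u * a = a * u := fun u h h' => by
    have := hc u y
    rwa [h, h', ← ha] at this
  have hz : ∀ x, x * ∑ q, β q * a * α q = (∑ q, β q * a * α q) * x := fun x => by
    have e1 : ∀ q, x * (β q * a * α q) = ∑ r, β r * (α r * x * β q * a) * α q := fun q => by
      calc _ = b * x * β q * a * α q := by rw [hb, mul_assoc x b, hβ]; simp only [mul_assoc]
        _ = _ := by rw [← h1]; simp only [sum_mul, mul_assoc]
    have e2 : ∀ r, β r * a * α r * x = ∑ q, β r * (a * (α r * x * β q)) * α q := fun r => by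
      calc _ = β r * a * (α r * (x * b)) := by
            rw [← hb, ← mul_assoc (α r), hα]; simp only [mul_assoc]
        _ = _ := by rw [← h1]; simp only [mul_sum, mul_assoc]
    rw [mul_sum, sum_mul, sum_congr rfl fun q _ => e1 q, sum_congr rfl fun q _ => e2 q, sum_comm]
    refine sum_congr rfl fun r _ => sum_congr rfl fun q _ => ?_
    rw [key _ (by rw [← mul_assoc, ← mul_assoc, h3]) (by rw [mul_assoc, h2])]
  refine ⟨∑ q, β q * a * α q, hz, ?_, ?_⟩
  · rw [mul_sum]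
    exact sum_congr rfl fun q _ => by rw [← mul_assoc, ← mul_assoc, hβ]
  · have e1 : ∀ q, i * (β q * a * α q) * i = a * (β q * α q) * i := fun q => by
      have e2 : a * i = a := by rw [ha, mul_assoc, hi]
      rw [← mul_assoc, ← mul_assoc, key _ (by rw [← mul_assoc, hi]) (by rw [mul_assoc, h2]),
        ← mul_assoc, e2, mul_assoc a]
    calc (∑ q, β q * a * α q) * i = i * (∑ q, β q * a * α q) * i := by rw [hz, mul_assoc, hi]
      _ = a * b * i := by
        rw [mul_sum, sum_mul, sum_congr rfl fun q _ => e1 q, ← sum_mul, ← mul_sum, h1]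
      _ = a := by rw [mul_assoc, hbi, ha, mul_assoc, hi]

open Polynomial in
theorem mem_span_idem {k A : Type*} [Field k] [IsAlgClosed k] [Ring A] [Algebra k A] {n : ℕ}
    (hn : (n : k) ≠ 0) {a : A} (ha : a ^ n = 1) :
    a ∈ Submodule.span k {e : A | e * e = e} := by
  classical
  have : NeZero (n : k) := ⟨hn⟩
  obtain ⟨ζ, hζ⟩ := HasEnoughRootsOfUnity.exists_primitiveRoot k n
  have hn0 : 0 < n := Nat.pos_of_ne_zero fun h => hn (by rw [h, Nat.cast_zero])
  set s := nthRootsFinset n (1 : k)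
  have key : ∀ P : k[X], (∀ x ∈ s, P.eval x = 0) → aeval a P = 0 := fun P hP => by
    obtain ⟨R, rfl⟩ : ∏ x ∈ s, (X - C x) ∣ P := Finset.prod_dvd_of_coprime
      (fun x _ y _ h => pairwise_coprime_X_sub_C Function.injective_id h)
      fun x hx => dvd_iff_isRoot.2 (hP x hx)
    rw [map_mul, ← X_pow_sub_one_eq_prod hn0 hζ]
    simp [ha]
  have hinj : Set.InjOn (id : k → k) s := Function.injective_id.injOn
  have h1 := key (X - ∑ x ∈ s, C x * Lagrange.basis s id x) fun y hy => by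
    rw [eval_sub, eval_X, eval_finsetSum, sum_eq_single y (fun x _ h => by
      rw [eval_mul, show eval y (Lagrange.basis s id x) = 0 from Lagrange.eval_basis_of_ne (v := id) h hy,
        mul_zero]) fun h => absurd hy h, eval_mul, eval_C,
      show eval y (Lagrange.basis s id y) = 1 from Lagrange.eval_basis_self hinj hy, mul_one,
      sub_self]
  rw [map_sub, aeval_X, map_sum, sub_eq_zero] at h1
  rw [h1]
  refine Submodule.sum_mem _ fun x hx => ?_
  rw [map_mul, aeval_C, ← Algebra.smul_def]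
  refine Submodule.smul_mem _ _ (Submodule.subset_span ?_)
  have h2 := key (Lagrange.basis s id x * Lagrange.basis s id x - Lagrange.basis s id x)
    fun y hy => by
      rw [eval_sub, eval_mul]
      by_cases h : x = y
      · rw [← h, show eval x (Lagrange.basis s id x) = 1 from Lagrange.eval_basis_self hinj hx]
        simp
      · rw [show eval y (Lagrange.basis s id x) = 0 from Lagrange.eval_basis_of_ne (v := id) h hy]
        simp
  rwa [map_sub, map_mul, sub_eq_zero] at h2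

variable {G : Type*} [Group G] [Fintype G] {p : ℕ} {M : Ideal AlgInt} [M.IsMaximal]
  {B : Set (IrrCharacter G)}

theorem corner_comm_of_ev {I : ℂ[G]} (hI : I * I = I)
    (h : ∀ χ : IrrCharacter G, ev χ.1 I = 0 ∨ ev χ.1 I = 1) (x y : ℂ[G]) :
    I * x * I * (I * y * I) = I * y * I * (I * x * I) := by
  classical
  have hz := fun χ : IrrCharacter G => comm_of_mem_Z (eChi_mem_Z χ.2.isClassFunction)
  have key : ∀ χ : IrrCharacter G, ∃ v : ℂ[G], ∀ x : ℂ[G], ∃ t : ℂ,
      eChi χ.1 * (I * x * I) = t • v := fun χ => by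
    have h1 : eChi χ.1 * I * (eChi χ.1 * I) = eChi χ.1 * I := by
      rw [mul_assoc, ← mul_assoc I, ← hz, mul_assoc, hI, ← mul_assoc, eChi_mul_self]
    have h2 := finrank_range_mul h1 h1
    simp only [ev_eChi_mul, mul_ite, ite_mul, mul_zero, zero_mul, sum_ite_eq', mem_univ,
      if_true] at h2
    have h3 : ∀ u, eChi χ.1 * (I * u * I) ∈ LinearMap.range
        (LinearMap.mulLeft ℂ (eChi χ.1 * I) * LinearMap.mulRight ℂ (eChi χ.1 * I)) := fun u =>
      ⟨u, by
        simp only [Module.End.mul_apply, LinearMap.mulLeft_apply, LinearMap.mulRight_apply]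
        rw [← mul_assoc u, ← hz, ← mul_assoc, ← mul_assoc, mul_assoc _ I, ← hz, ← mul_assoc,
          eChi_mul_self]
        simp only [mul_assoc]⟩
    have h4 : finrank ℂ (LinearMap.range (LinearMap.mulLeft ℂ (eChi χ.1 * I) *
        LinearMap.mulRight ℂ (eChi χ.1 * I))) ≤ 1 := by
      rcases h χ with h5 | h5 <;> rw [h5] at h2 <;> norm_cast at h2 <;> omega
    obtain ⟨v, hv⟩ := finrank_le_one_iff.1 h4
    exact ⟨v, fun x => (hv ⟨_, h3 x⟩).imp fun t ht => (congrArg Subtype.val ht).symm⟩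
  have h1 : ∑ χ : IrrCharacter G, eChi χ.1 = 1 := by
    rw [← fC_univ, fC_eq_sum]; simp
  rw [← one_mul (I * x * I * _), ← one_mul (I * y * I * _), ← h1, sum_mul, sum_mul]
  refine sum_congr rfl fun χ _ => ?_
  obtain ⟨v, hv⟩ := key χ
  obtain ⟨t, ht⟩ := hv x
  obtain ⟨s, hs⟩ := hv y
  have h2 : ∀ u v : ℂ[G], eChi χ.1 * (u * v) = eChi χ.1 * u * (eChi χ.1 * v) := fun u v => by
    rw [mul_assoc, ← mul_assoc u, ← hz, mul_assoc _ u, ← mul_assoc _ (eChi χ.1), eChi_mul_self]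
  rw [h2, h2 (I * y * I), ht, hs, smul_mul_smul_comm, smul_mul_smul_comm, mul_comm t]

theorem classInner_PS (hM : IsPModular p M) (hB : IsPBlock M B) {d : ℕ}
    (hd : ∀ χ ∈ B, charDegree χ.1 = d) (h0 : ∀ χ ∈ B, blockHeight p B χ.1 = 0) {Φ : G → ℂ}
    (hΦ : Φ ∈ PS M (eB M B)) {χ : IrrCharacter G} (hχ : χ ∈ B) : classInner Φ χ.1 = 1 := by
  classical
  have := finite_PS hM (eB M B)
  have := Fintype.ofFinite (PS M (eB M B))
  obtain ⟨z, z1, z2⟩ := exists_pos_coeffs hM hB (d := d) (hd χ hχ ▸ deg_ne_zero χ)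
    (r := fun _ => 1) fun χ h => by rw [hd χ h, mul_one]
  have hm : ∀ (Ψ : PS M (eB M B)) (ψ : IrrCharacter G), ∃ n : ℕ, classInner Ψ.1 ψ.1 = n :=
    fun Ψ ψ => by
      obtain ⟨i, -, i2, -, -, h⟩ := PS_spec hM hB Ψ.2
      rw [h, classInner_pch]
      exact exists_ev_eq_nat ψ.2.isCharacter i2
  choose m hm using hm
  have h1 : ∀ ψ ∈ B, ∑ Ψ, z Ψ * m Ψ ψ = 1 := fun ψ hψ => by
    have := congrArg (classInner · ψ.1) z2
    simp only [classInner_sum_bF _ hψ, classInner_sum_left, classInner_smul_left, hm] at this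
    exact_mod_cast this.symm
  have h2 : ∀ ψ ∈ B, ∀ Ψ, m Ψ ψ ≠ 0 → m Ψ ψ = 1 ∧ ∀ Ψ' ≠ Ψ, m Ψ' ψ = 0 := fun ψ hψ Ψ h => by
    have h3 := h1 ψ hψ
    have h4 := Nat.mul_pos (z1 Ψ) (Nat.pos_of_ne_zero h)
    rw [← add_sum_erase _ _ (mem_univ Ψ)] at h3
    refine ⟨Nat.eq_one_of_mul_eq_one_left (show z Ψ * m Ψ ψ = 1 by omega), fun Ψ' h' => ?_⟩
    exact (mul_eq_zero.1 (sum_eq_zero_iff.1 (show ∑ x ∈ univ.erase Ψ, z x * m x ψ = 0 by omega)
      Ψ' (mem_erase.2 ⟨h', mem_univ _⟩))).resolve_left (z1 Ψ').ne'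
  obtain ⟨Φ, rfl⟩ : ∃ Φ' : PS M (eB M B), Φ'.1 = Φ := ⟨⟨Φ, hΦ⟩, rfl⟩
  by_contra hne
  have h3 : m Φ χ = 0 := by
    by_contra h
    exact hne (by rw [hm, (h2 χ hχ Φ h).1, Nat.cast_one])
  have h4 := pReg_mem_span hM hB hχ
  rw [← Subtype.range_coe (s := PS M (eB M B)), Submodule.mem_span_range_iff_exists_fun] at h4
  obtain ⟨c, hc⟩ := h4
  obtain ⟨-, a2, a3, a4⟩ := PS_char hM hB Φ.2
  have h5 : ∀ ψ ∈ B, m Φ ψ ≠ 0 → classInner (pRegularPart p χ.1) ψ.1 = c Φ := fun ψ hψ h => by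
    rw [← hc, classInner_sum_left, sum_eq_single Φ (fun Ψ _ h' => by
      rw [classInner_smul_left, hm, (h2 ψ hψ Φ h).2 Ψ h', Nat.cast_zero, mul_zero])
      fun h => absurd (mem_univ _) h, classInner_smul_left, hm, (h2 ψ hψ Φ h).1, Nat.cast_one,
      mul_one]
  obtain ⟨ψ, hψ, h6⟩ : ∃ ψ ∈ B, m Φ ψ ≠ 0 := by
    by_contra! h
    exact a4 (a3.eq_sum.trans (sum_eq_zero fun ψ hψ => by
      rw [hm, h ψ (mem_bF.1 hψ), Nat.cast_zero, zero_smul]))
  have h7 : classInner Φ.1 (pRegularPart p χ.1) = 0 := by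
    rw [← classInner_pReg_left, pReg_eq_self_iff.2 a2, hm, h3, Nat.cast_zero]
  have h8 : ∀ ψ ∈ bF B, classInner Φ.1 ψ.1 * classInner ψ.1 (pRegularPart p χ.1) =
      (m Φ ψ : ℂ) * conj (c Φ) := fun ψ hψ => by
    by_cases h : m Φ ψ = 0
    · rw [hm, h, Nat.cast_zero, zero_mul, zero_mul]
    · rw [hm, ← h5 ψ (mem_bF.1 hψ) h, classInner_conj_symm]
  rw [a3.classInner_eq_sum, sum_congr rfl h8, ← sum_mul, mul_eq_zero, map_eq_zero, ← h5 ψ hψ h6, ← Nat.cast_sum, Nat.cast_eq_zero, sum_eq_zero_iff] at h7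
  exact h7.elim (fun h => h6 (h ψ (mem_bF.2 hψ)))
    (classInner_pReg_ne_zero_of_height_zero hM hB hχ (h0 χ hχ) hψ)

theorem blockRank_eq_one (hM : IsPModular p M) (hB : IsPBlock M B) {d : ℕ}
    (hd : ∀ χ ∈ B, charDegree χ.1 = d) (h0 : ∀ χ ∈ B, blockHeight p B χ.1 = 0) :
    blockRank p B = 1 := by
  have := finite_PS hM (eB M B)
  refine le_antisymm ((blockRank_le hM hB).trans (Finite.card_le_one_iff_subsingleton.2
    ⟨fun Φ Ψ => Subtype.ext ((PS_char hM hB Φ.2).2.2.1.ext (PS_char hM hB Ψ.2).2.2.1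
      fun χ hχ => ?_)⟩)) (blockRank_pos hM.1 (block_nonempty hB))
  rw [classInner_PS hM hB hd h0 Φ.2 hχ, classInner_PS hM hB hd h0 Ψ.2 hχ]

theorem exists_corner (hM : IsPModular p M) (hB : IsPBlock M B) {d : ℕ}
    (hd : ∀ χ ∈ B, charDegree χ.1 = d) (h0 : ∀ χ ∈ B, blockHeight p B χ.1 = 0) :
    ∃ i : (F M)[G], Prim i ∧ eB M B * i = i ∧
      ∀ x y, i * x * i * (i * y * i) = i * y * i * (i * x * i) := by
  classical
  obtain ⟨e, e1, e2, -⟩ := H2.exists_prim_le (k := F M) (eB_mul_self hB) (eB_ne_zero hB)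
  have hΦ : PP M e ∈ PS M (eB M B) := ⟨e, e1, e2, rfl⟩
  obtain ⟨I, I1, I2, I3, I4, I5⟩ := PS_spec hM hB hΦ
  refine ⟨redA M I, I4, by rw [eB, ← redA_mul (intC_fC hB) I1, I3], fun x y => ?_⟩
  obtain ⟨x, hx, rfl⟩ := exists_redA_eq x
  obtain ⟨y, hy, rfl⟩ := exists_redA_eq y
  have h1 := corner_comm_of_ev I2 (fun χ => by
    by_cases h : χ ∈ B
    · exact .inr (by rw [← classInner_pch, ← I5, classInner_PS hM hB hd h0 hΦ h])
    · exact .inl (by rw [← I3, ev_fC_mul, if_neg h])) x y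
  have h2 := congrArg (redA M) h1
  have hx' := (I1.mul hx).mul I1
  have hy' := (I1.mul hy).mul I1
  rwa [redA_mul hx' hy', redA_mul hy' hx', redA_mul (I1.mul hx) I1, redA_mul (I1.mul hy) I1,
    redA_mul I1 hx, redA_mul I1 hy] at h2

theorem coeff_mul_eq (hM : IsPModular p M) (hB : IsPBlock M B) (hl : blockRank p B = 1)
    {i : (F M)[G]} (hi : Prim i) (hbi : eB M B * i = i) {w : (F M)[G]} (hw : w ∈ ZB M B) {g : G}
    (hg : ¬ p ∣ orderOf g) :
    w.coeff g * lam1 _ G i = (eB M B).coeff g * lam1 _ G (w * i) := by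
  have := H35.charP_F hM
  have hz := comm_of_mem_Z (eB_mem_Z (M := M) B)
  have key : ∀ a ∈ Submodule.span (F M) {e : (F M)[G] | e * e = e},
      lam1 _ G (w * a) * lam1 _ G i = lam1 _ G (eB M B * a) * lam1 _ G (w * i) := by
    have hadd : ∀ a b : (F M)[G],
        lam1 _ G (w * a) * lam1 _ G i = lam1 _ G (eB M B * a) * lam1 _ G (w * i) →
        lam1 _ G (w * b) * lam1 _ G i = lam1 _ G (eB M B * b) * lam1 _ G (w * i) →
        lam1 _ G (w * (a + b)) * lam1 _ G i =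
          lam1 _ G (eB M B * (a + b)) * lam1 _ G (w * i) := fun a b ha hb => by
      rw [mul_add, mul_add, map_add, map_add, add_mul, add_mul, ha, hb]
    intro a ha
    induction ha using Submodule.span_induction with
    | mem e he =>
      refine idem_induction (k := F M) (by simp) hadd he fun f hf _ _ => ?_
      rcases hf.prim (eB M B * f) (by rw [mul_assoc, ← mul_assoc f, ← hz, mul_assoc, hf.idem,
        ← mul_assoc, eB_mul_self hB]) (by rw [← mul_assoc, ← hz, mul_assoc, hf.idem])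
        (by rw [mul_assoc, hf.idem]) with h | h
      · rw [h, ← hw.2, hz, mul_assoc, h]
        simp
      · obtain ⟨u, v, h1, h2⟩ := prim_equiv_of_rank_one hM hB hl hi hf hbi h
        rw [h, ← h1, ← h2, ← mul_assoc, lam1_comm (w * v), ← mul_assoc, ← comm_of_mem_Z hw.1,
          lam1_comm v, mul_comm, mul_assoc w]
    | zero => simp
    | add a b _ _ ha hb => exact hadd a b ha hb
    | smul c a _ ha => simp only [mul_smul_comm, map_smul, smul_eq_mul, mul_assoc, ha]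
  rw [← lam1_mul_single, ← lam1_mul_single]
  refine key _ (mem_span_idem (n := orderOf g) (by rwa [Ne, CharP.cast_eq_zero_iff _ p]) ?_)
  rw [single_pow, inv_pow, pow_orderOf_eq_one, inv_one, one_pow, one_def]

open H36 H39 in
/-- With a commutative basic algebra, `Br_D` is injective on the centre of the block. -/
theorem br_inj (hM : IsPModular p M) (hB : IsPBlock M B) (hl : blockRank p B = 1)
    {i : (F M)[G]} (hi : Prim i) (hbi : eB M B * i = i)
    (hc : ∀ x y, i * x * i * (i * y * i) = i * y * i * (i * x * i)) {D : Subgroup G}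
    (hD : IsDef p ⊤ (eB M B) D) : p ^ blockDefect p B ≤ finrank (F M) (ZB M B) ∧
      ∀ w ∈ ZB M B, br D w = 0 → w = 0 := by
  have := H35.charP_F hM
  have := Fact.mk hM.1
  obtain ⟨n, β, α, h1, h2, h3⟩ := exists_morita (k := F M) (eB_mul_self hB) hi.idem
    fun f hf h _ => prim_equiv_of_rank_one hM hB hl hi hf hbi h
  have key : ∀ y, ∃ z ∈ ZB M B, z * i = i * y * i := fun y => by
    obtain ⟨z, z1, z2, z3⟩ := exists_center_of_comm (comm_of_mem_Z (eB_mem_Z B)) hbi hi.idem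
      h1 h2 h3 hc y
    exact ⟨z, ⟨Subalgebra.mem_center_iff.2 z1, z2⟩, z3⟩
  constructor
  · obtain ⟨s, hs⟩ := hi.exists_aug (k := F M)
    refine (pow_defect_le hM hB hl hs hbi).trans ?_
    rw [← finrank_corner_eq_succ hs, ← range_corner_eq hs]
    refine (Submodule.finrank_mono ?_).trans
      (Submodule.finrank_map_le (LinearMap.mulRight (F M) i) _)
    rintro _ ⟨y, rfl⟩
    obtain ⟨z, z1, z2⟩ := key y
    exact ⟨z, z1, by simpa [mul_assoc] using z2⟩
  · have h4 : ∀ w ∈ ZB M B, br D w = 0 → lam1 _ G (w * i) = 0 := fun w hw h => by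
      obtain ⟨g, g1, g2⟩ := br_ne_zero_iff.1 hD.br_ne
      have h5 := coeff_mul_eq hM hB hl hi hbi hw (not_dvd_orderOf_of_coeff_eB hM hB g2)
      rw [br_eq_zero_iff.1 h g g1, zero_mul] at h5
      exact (mul_eq_zero.1 h5.symm).resolve_left g2
    intro w hw h
    have hz := comm_of_mem_Z hw.1
    have h5 : w * i = 0 := galg_ext fun g => by
      obtain ⟨z, z1, z2⟩ := key (single g⁻¹ 1)
      have h6 := h4 (w * z) ⟨mul_mem hw.1 z1.1, by rw [← mul_assoc, hw.2]⟩ (by
        rw [br_mul hD.isPGroup ((mem_Fx_top.2 hw.1).1.mono le_top)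
          ((mem_Fx_top.2 z1.1).1.mono le_top), h, zero_mul])
      rw [mul_assoc, z2, ← mul_assoc, lam1_comm, ← mul_assoc, ← hz, ← mul_assoc, mul_assoc w i,
        hi.idem, lam1_mul_single] at h6
      exact h6
    rw [← hw.2, ← hz, ← h1, mul_sum]
    exact sum_eq_zero fun q _ => by
      rw [← h3, ← mul_assoc, hz, mul_assoc, ← mul_assoc w, h5, zero_mul, mul_zero]

open H36 H39 in
theorem nil_of_eq_degree (hM : IsPModular p M) (hB : IsPBlock M B) {d : ℕ}
    (hd : ∀ χ ∈ B, charDegree χ.1 = d) (h0 : ∀ χ ∈ B, blockHeight p B χ.1 = 0) {D : Subgroup G}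
    (hP : IsDefectGroup p M B D) (hab : D ≤ Cen D) : IsNilpotentBlock p M B := by
  classical
  have := H35.charP_F hM
  have := Fact.mk hM.1
  have hD := (isDefectGroup_iff hM hB).1 hP
  obtain ⟨i, i1, i2, i3⟩ := exists_corner hM hB hd h0
  obtain ⟨h1, h2⟩ := br_inj hM hB (blockRank_eq_one hM hB hd h0) i1 i2 i3 hD
  obtain ⟨e, he⟩ := exists_bp le_rfl (blk_eB hB) hD.isPGroup le_top hD.br_ne
  have hm : MaxP p ⊤ (eB M B) D e := ⟨blk_eB hB, he, hD⟩
  refine (isNilpotentBlock_iff hM).2 ⟨hB, (hm.nil_iff_of_abelian hab).2 fun x hx => ?_⟩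
  obtain ⟨c, hc, rfl⟩ := he.blk.exists_eS'
  have hcD : Nat.card c = Nat.card D := by
    have h3 := (isDefectGroup_cen_iff hM hc D).2 (by
      rw [inf_eq_left.2 hab]; exact (hm.local_of_le_cen (Sub.refl _ _ _) hab).isDef)
    rw [inf_eq_left.2 hab] at h3
    rw [card_block_eq_card_irr hM (eq_top_iff.2 (le_sup_of_le_right
      fun (u : Cen D) _ (v : Cen D) hv => Subtype.ext (u.2 v hv))) hc h3, card_irr_of_comm fun a b => Subtype.ext (Subtype.ext (hab b.2 a a.2)),
      Nat.card_congr (Subgroup.subgroupOfEquivOfLe hab).toEquiv]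
  set β : ZB M B →ₗ[F M] (F M)[G] :=
    LinearMap.mulRight (F M) (eS M _ c) ∘ₗ br D ∘ₗ (ZB M B).subtype
  have hinv : ∀ w : ZB M B, Inv (Nor D) (br D w.1) := fun w =>
    ((mem_Fx_top.2 w.2.1).1.mono le_top).br le_rfl
  have hβ : Function.Injective β := (injective_iff_map_eq_zero _).2 fun w hw => by
    have h3 := mul_orbSum_eq_zero ((hinv w).mono (inf_le_right (a := ⊤))) hw
    rw [← prim_eq_orbSum ((blk_eB hB).br_of_isDef le_rfl (le_nor _) hD)
      (inf_le_inf le_rfl (cen_le_nor D)) (fun _ hx => mem_nor_inf_cen (le_nor _ hx.1) hx.2) he.blk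
      he.mul, ← br_mul hD.isPGroup ((mem_Fx_top.2 w.2.1).1.mono le_top) (inv_eB B D),
      comm_of_mem_Z w.2.1, w.2.2] at h3
    exact Subtype.ext (h2 _ w.2 h3)
  have h3 : LinearMap.range β = (ZB M c).map (emb (Cen D).subtype).toLinearMap := by
    refine Submodule.eq_of_le_of_finrank_le ?_ ?_
    · rintro _ ⟨w, rfl⟩
      refine ⟨pull (Cen D).subtype (br D w.1) * eB M c, ⟨mul_mem
        ((hinv w).mono (cen_le_nor D)).pull_subtype_mem_Z (eB_mem_Z c), by
          rw [comm_of_mem_Z (eB_mem_Z c), mul_assoc, eB_mul_self hc]⟩, ?_⟩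
      rw [AlgHom.toLinearMap_apply, map_mul, (supp_br D w.1).emb_pull_subtype]
      rfl
    · rw [LinearMap.finrank_range_of_inj hβ]
      exact (Submodule.finrank_map_le _ _).trans ((finrank_ZB_le hM (intC_fC hc)).trans
        (by rw [hcD, card_of_isDefectGroup hM hB hP]; exact h1))
  refine mem_cen_iff_conj.2 fun u hu => ?_
  obtain ⟨w, hw⟩ : single u 1 * eS M _ c ∈ LinearMap.range β := by
    rw [h3]
    have h4 : single (⟨u, hab hu⟩ : Cen D) (1 : F M) ∈ Z (F M) (Cen D) :=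
      mem_Z_iff_single.2 fun h => by
        rw [single_mul_single, single_mul_single]
        exact congrArg (single · _) (Subtype.ext (h.2 u hu).symm)
    refine ⟨single ⟨u, hab hu⟩ 1 * eB M c, ⟨mul_mem h4 (eB_mem_Z c), by
      rw [comm_of_mem_Z (eB_mem_Z c), mul_assoc, eB_mul_self hc]⟩, ?_⟩
    rw [AlgHom.toLinearMap_apply, map_mul, emb_single]
    rfl
  have h4 : cj x (single u 1 * eS M _ c) = single u 1 * eS M _ c := by
    rw [← hw]
    show cj x (br D w.1 * eS M _ c) = br D w.1 * eS M _ c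
    rw [map_mul, (hinv w).cj_eq hx.1.2, mem_stab.1 hx.2]
  rw [map_mul, cj_single, mem_stab.1 hx.2] at h4
  obtain ⟨g, hg⟩ : ∃ g, (eS M _ c).coeff g ≠ 0 := by
    by_contra! h
    exact he.blk.ne_zero (galg_ext h)
  have h5 : x * u * x⁻¹ ∈ D := (Subgroup.mem_normalizer_iff.1 hx.1.2 u).1 hu
  have h6 := congrArg (·.coeff (u * g)) h4
  simp only [coeff_single_mul_apply, one_mul, inv_mul_cancel_left] at h6
  have h7 := not_dvd_orderOf_of_coeff_eS hM hc (h6 ▸ hg)
  have h8 := not_dvd_orderOf_of_coeff_eS hM hc hg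
  have h9 : (x * u * x⁻¹)⁻¹ * u ∈ D := D.mul_mem (D.inv_mem h5) hu
  rw [← mul_assoc] at h7
  generalize hv : (x * u * x⁻¹)⁻¹ * u = v at h7 h9
  have h10 : Commute (v * g) g⁻¹ :=
    (Commute.mul_left (he.blk.supp_cen.mem hg v h9) (Commute.refl g)).inv_right
  have h11 := h10.orderOf_mul_dvd_mul_orderOf
  rw [mul_inv_cancel_right, orderOf_inv] at h11
  obtain ⟨k, hk⟩ := IsPGroup.iff_orderOf.1 hD.isPGroup ⟨v, h9⟩
  rw [Subgroup.orderOf_mk] at hk
  rcases k with _ | k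
  · rw [pow_zero, orderOf_eq_one_iff, ← hv, inv_mul_eq_one] at hk
    exact hk
  · exact absurd (hM.1.dvd_mul.1 ((dvd_pow_self p k.succ_ne_zero).trans (hk ▸ h11)))
      (not_or.2 ⟨h7, h8⟩)

open H36 H39 in
theorem nil_of_normal {F : Type*} [Field F] [Fact p.Prime] [CharP F p] {b e : F[G]}
    {D : Subgroup G} [D.Normal] (hm : MaxP p ⊤ b D e)
    (h : ∀ x ∈ St ⊤ D e, ¬ p ∣ orderOf x → x ∈ Cen D) : Nil p ⊤ b := by
  refine hm.nil_iff_sub.2 fun R f hs x hx hp => ?_
  have hN : ∀ y, y ∈ Nor D := fun y => (Subgroup.normalizer_eq_top D).ge trivial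
  have hN' : ∀ y, y ∈ Nor (⊤ ⊓ Cen D) := fun y => mem_nor_inf_cen (nor_top.ge trivial) (hN y)
  have he := hm.bp.blk
  have h1 : Supp (Cen D : Set G) (orbSum (Cen R) e) :=
    supp_orbSum he.supp_cen fun y _ => nor_le_nor_cen D (hN y)
  have h2 := (hs.br_mul_iff (he.orbSum_idem fun y _ => hN' y) (supp_univ _) (inv_of_supp_cen h1)
    ((inv_orbSum _ e).mono inf_le_right)).2 (by rw [h1.br_eq, he.orbSum_mul_self fun y _ => hN' y])
  rw [(h1.mono (cen_anti hs.le)).br_eq] at h2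
  have h3 := congrArg (cj x) h2
  rw [map_mul, mem_stab.1 hx.2, cj_orbSum (nor_le_nor_cen R hx.1.2)] at h3
  obtain ⟨c, hc, h4⟩ := mem_orb.1 (he.mem_orb_of_mul (fun y _ => hN' y) (he.cj_of_mem_nor (hN' x))
    fun h0 => (hs.blk he).ne_zero (by
      rw [← h2, ← h3, ← mul_assoc, mul_orbSum_eq_zero (inv_orbSum _ e) h0, zero_mul]))
  have h5 : c⁻¹ * x ∈ St ⊤ D e := ⟨⟨trivial, hN _⟩, mem_stab.2 (by rw [cj_mul, ← h4, cj_inv_cj])⟩
  obtain ⟨k, hk⟩ := exists_pow_not_dvd_orderOf (p := p) (c⁻¹ * x)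
  have h6 := mem_cen_iff_conj.1 (cen_anti hs.le (h _ (pow_mem h5 _) hk))
  have h7 := conj_pow_eq (x := c⁻¹ * x) hx.1.2 (fun y hy => by
    rw [← cen_conj_eq ((Cen R).inv_mem hc) ((Subgroup.mem_normalizer_iff.1 hx.1.2 y).1 hy)]
    group) (p ^ k)
  refine Subgroup.zpowers_le.2 (mem_cen_iff_conj.2 fun y hy => (h7 y hy).symm.trans (h6 y hy))
    (mem_zpowers_pow_iff.2 ?_)
  exact ((coprime_of_not_dvd hp).symm.pow_left k).gcd_eq_one

theorem minNu_eq_index (hM : IsPModular p M) (hB : IsPBlock M B) {D : Subgroup G}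
    (hD : IsDefectGroup p M B D) : minNu p B = D.index.factorization p := by
  have h1 := minNu_add_blockDefect p (block_nonempty hB)
  rw [← D.card_mul_index, Nat.factorization_mul Nat.card_pos.ne' Subgroup.index_ne_zero_of_finite,
    H36.card_of_isDefectGroup hM hB hD, hM.1.factorization_pow, Finsupp.add_apply,
    Finsupp.single_eq_same] at h1
  omega

open H36 H39 in
theorem nil_of_normal_of_eq_degree (hM : IsPModular p M) (hB : IsPBlock M B) {d : ℕ}
    (hd : ∀ χ ∈ B, blockHeight p B χ.1 = 0 → charDegree χ.1 = d) {D : Subgroup G} [D.Normal]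
    (hP : IsDefectGroup p M B D) : IsNilpotentBlock p M B := by
  classical
  have := H35.charP_F hM
  have := Fact.mk hM.1
  have hD := (isDefectGroup_iff hM hB).1 hP
  obtain ⟨e, he⟩ := exists_bp le_rfl (blk_eB hB) hD.isPGroup le_top hD.br_ne
  have hm : MaxP p ⊤ (eB M B) D e := ⟨blk_eB hB, he, hD⟩
  refine (isNilpotentBlock_iff hM).2 ⟨hB, nil_of_normal hm fun x hx hp => ?_⟩
  obtain ⟨Q, _, _, π, hπ, hk⟩ : ∃ (Q : Type _) (_ : Group Q) (_ : Fintype Q) (π : G →* Q),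
      Function.Surjective π ∧ π.ker = ⁅D, D⁆ := ⟨G ⧸ ⁅D, D⁆, inferInstance, Fintype.ofFinite _,
    QuotientGroup.mk' _, QuotientGroup.mk'_surjective _, QuotientGroup.ker_mk' _⟩
  have hkD : π.ker ≤ D := hk ▸ Subgroup.commutator_le_left D D
  set V := D.map π
  have : V.Normal := Subgroup.Normal.map ‹_› π hπ
  have hV : IsPGroup p V := hD.isPGroup.map π
  have hab : V ≤ Cen V := by
    rintro _ ⟨a, ha, rfl⟩ _ ⟨b, hb, rfl⟩
    rw [← commutatorElement_eq_one_iff_mul_comm, ← map_commutatorElement, ← MonoidHom.mem_ker, hk]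
    exact Subgroup.commutator_mem_commutator hb ha
  set H := (Cen V).comap π
  have hN : ∀ y, y ∈ Nor D := fun y => (Subgroup.normalizer_eq_top D).ge trivial
  have hH : ∀ y ∈ H, ¬ p ∣ orderOf y → y ∈ ⊤ ⊓ Cen D := fun y hy h => ⟨trivial,
    H10.mem_centralizer_of_forall_commutator_mem_frattini hD.isPGroup (hN y)
      (coprime_of_not_dvd h) fun k hk' => Subgroup.map_mono
        (H3.commutator_le_frattini_pgroup hD.isPGroup) (by
          rw [Subgroup.map_subtype_commutator, ← hk, MonoidHom.mem_ker, map_commutatorElement,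
            commutatorElement_eq_one_iff_mul_comm]
          exact hy _ ⟨k, hk', rfl⟩)⟩
  have hCH : ⊤ ⊓ Cen D ≤ H := by
    rintro y hy _ ⟨k, hk', rfl⟩
    rw [← map_mul, ← map_mul, hy.2 k hk']
  have hN' : ∀ y, y ∈ Nor (⊤ ⊓ Cen D) := fun y => mem_nor_inf_cen (nor_top.ge trivial) (hN y)
  obtain ⟨c, hc, h1⟩ := ((isPrim_iff_of_regSupp (regSupp hM) hCH hH).1
    (he.blk.orbSum_prim hCH fun y _ => hN' y)).exists_eS
  set ρ : H →* Cen V := (π.comp H.subtype).codRestrict _ fun y => y.2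
  have hρ : PCQ p ρ := ⟨fun v => (hπ v.1).elim fun y hy =>
      ⟨⟨y, by rw [Subgroup.mem_comap, hy]; exact v.2⟩, Subtype.ext hy⟩,
    (hD.isPGroup.comap_of_injective _ H.subtype_injective).to_le fun y hy =>
      hkD (congrArg Subtype.val hy),
    fun g hg u hu => Subtype.ext ((hH g g.2 (by rwa [Subgroup.orderOf_coe])).2 u
      (hkD (congrArg Subtype.val hu)))⟩
  have hc' := hρ.isPBlock_qb hM hc
  have h2 : eS M _ (qb hρ.surj c) = emb π (orbSum H e) := by
    rw [h1, eS, eS, ← push_eB _ (intC_fC hc), emb_comp]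
    exact emb_comp _ _ _
  obtain ⟨_, ⟨h3, h4⟩, -⟩ := existsUnique_bp le_rfl hV le_top (blk_eS' hc')
  obtain ⟨b, hb, rfl⟩ := isPrim_top_iff.1 h3
  have h5 : b ⊆ qb hπ B := by
    obtain ⟨η, η1, η2⟩ : (b ∩ qb hπ B).Nonempty := Set.nonempty_iff_ne_empty.2 fun h0 => by
      have h6 := h4.mul
      have h7 := he.mul
      rw [br_eB_eq_of_normal hM hV hb] at h6
      rw [br_eB_eq_of_normal hM hD.isPGroup hB] at h7
      have h8 := congrArg (emb π) (mul_orbSum_of_mul_eq (inv_eB B H) h7)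
      rw [map_mul, ← h2, show emb π (eB M B) = _ from push_eB hπ (intC_fC hB)] at h8
      rw [← h8, ← mul_assoc, eB_mul_eB_of_intC (intC_fC hb) (intC_fC_qb hπ (intC_fC hB)), h0,
        eB_empty, zero_mul, h8] at h6
      exact h4.blk.ne_zero h6.symm
    rw [eq_blockOf_of_mem hb η1]
    exact blockOf_subset_of_intC (intC_fC_qb hπ (intC_fC hB)) η2
  have h6 : IsDefectGroup p M b V := by
    obtain ⟨E, hE⟩ := exists_isDefectGroup p hb
    obtain ⟨E, hE, h7⟩ := ((isDefectGroup_iff hM hb).1 hE).exists_ge (inv_eB b ⊤) le_top hV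
      h4.br_ne_zero
    obtain ⟨η, hη⟩ := block_nonempty hb
    obtain ⟨P, h8, h9⟩ := H38.exists_isDefectGroup_map_ge hM hπ hb hB hη (h5 hη)
      ((isDefectGroup_iff hM hb).2 hE)
    obtain ⟨y, rfl⟩ := isDefectGroup_exists_conj hM hB hP h8
    rw [show D.map (MulAut.conj y).toMonoidHom = D from cS_eq_of_mem_nor (hN y)] at h9
    exact (isDefectGroup_iff hM hb).2 ((le_antisymm h9 h7 : E = V) ▸ hE)
  have h7 := (Cfsg.Agent.S0972.result p M hM b hb V h6).1 fun a ha c hc => hab hc a ha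
  have h8 := nil_of_eq_degree hM hb (d := d) (fun η hη => by
    rw [← charDegree_infl hπ]
    refine hd _ (h5 hη) ?_
    rw [blockHeight_eq, charDegree_infl, nu_eq_minNu_add p hη, h7 η hη, minNu_eq_index hM hb h6,
      minNu_eq_index hM hB hP, Subgroup.index_map_eq _ hπ hkD, add_zero, Nat.sub_self]) h7 h6 hab
  refine (hH x (((isNilpotentBlock_iff hM).1 h8).2 V _ h4 (π x) ⟨⟨trivial,
    (Subgroup.normalizer_eq_top V).ge trivial⟩, mem_stab.2 ?_⟩ (not_dvd_orderOf_map π hp)) hp).2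
  rw [h2, ← emb_cj, cj_orbSum ((Subgroup.normalizer_eq_top H).ge trivial), mem_stab.1 hx.2]

theorem eq_degree_of_nil (hM : IsPModular p M) (hn : IsNilpotentBlock p M B) {D : Subgroup G}
    (hP : IsDefectGroup p M B D) :
    ∃ d, ∀ χ ∈ B, blockHeight p B χ.1 = 0 → charDegree χ.1 = d := by
  by_cases h : ∃ χ ∈ B, blockHeight p B χ.1 = 0
  · obtain ⟨χ, hχ, h0⟩ := h
    obtain ⟨Φ, hΦ⟩ := H39.exists_equiv_of_nilpotent hM hn hP hχ h0
    refine ⟨charDegree χ.1, fun ψ hψ h1 => ?_⟩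
    obtain ⟨ζ, hζ⟩ := Φ.surjective ⟨ψ, hψ⟩
    obtain ⟨-, h2, h3⟩ := hΦ ζ
    have := Fact.mk hM.1
    obtain ⟨k, hk⟩ := H28.Cfsg.IsIrrCharacter.exists_pow_charDegree
      ((H36.isDefectGroup_iff hM hn.1).1 hP).isPGroup ζ.2
    rw [hζ, hk] at h2 h3
    rw [h1, hM.1.factorization_pow, Finsupp.single_eq_same] at h3
    rw [h2, ← h3, pow_zero, one_mul]
  · exact ⟨0, fun χ hχ h0 => absurd ⟨χ, hχ, h0⟩ h⟩

end H34.EqDeg
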