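/- Linear groups whose point stabilisers are Sylow `p`-subgroups: definitions and the list of
steps (blueprint `GG.md`). -/
import Cfsg.Agent.Base
import Cfsg.Prelude.Def_Blocks
import Cfsg.Prelude.Def_CaseTheorems
import Cfsg.Prelude.Def_SporadicB
import Cfsg.Prelude.Def_Exceptional

set_option autoImplicit false

namespace H34.GG

open Subgroup Cfsg Matrix

universe u

section defs
variable {p : ℕ} {H V : Type*} [Group H] [AddCommGroup V]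

/-- A faithful action in which only `p`-elements fix a non-zero vector. -/
structure Fr [Module (ZMod p) V] (ρ : Representation (ZMod p) H V) : Prop where
  inj : Function.Injective ρ
  nt : ∃ v : V, v ≠ 0
  pel : ∀ (g : H) (v : V), v ≠ 0 → ρ g v = v → ∃ k, g ^ p ^ k = 1

/-- Moreover transitive on non-zero vectors, with `O_p(H) = 1`. -/
structure Tr [Module (ZMod p) V] (ρ : Representation (ZMod p) H V) : Prop extends Fr ρ where
  trans : ∀ v w : V, v ≠ 0 → w ≠ 0 → ∃ g, ρ g v = w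
  core : pCore p H = ⊥

/-- The vectors fixed by a subgroup. -/
def fx [Module (ZMod p) V] (ρ : Representation (ZMod p) H V) (S : Subgroup H) :
    Submodule (ZMod p) V where
  carrier := {v | ∀ g ∈ S, ρ g v = v}
  add_mem' := fun {a b} ha hb g hg => by rw [map_add, ha g hg, hb g hg]
  zero_mem' := fun g _ => map_zero _
  smul_mem' := fun c a ha g hg => by rw [map_smul, ha g hg]

/-- Involutions act freely. -/
def Inv [Module (ZMod 2) V] (ρ : Representation (ZMod 2) H V) : Prop :=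
  ∀ t : H, t * t = 1 → t ≠ 1 → LinearMap.ker (ρ t - 1) = LinearMap.range (ρ t - 1)

/-- The pointwise stabiliser of the fixed space of `u`. -/
def AA [Module (ZMod 2) V] (ρ : Representation (ZMod 2) H V) (u : H) : Subgroup H where
  carrier := {g | ∀ v, ρ u v = v → ρ g v = v}
  mul_mem' := fun {a b} ha hb v hv => by
    rw [map_mul, Module.End.mul_apply, hb v hv, ha v hv]
  one_mem' := fun v _ => by simp
  inv_mem' := fun {a} ha v hv => by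
    have := congrArg (ρ a⁻¹) (ha v hv)
    rw [← Module.End.mul_apply, ← map_mul, inv_mul_cancel, map_one] at this
    exact this.symm

/-- An involution `u` and an element `h` of odd prime order with `h (u - 1) h = u - 1`. -/
structure Star [Module (ZMod 2) V] (ρ : Representation (ZMod 2) H V) (u h : H) : Prop where
  sq : u * u = 1
  ne : u ≠ 1
  pr : (orderOf h).Prime
  odd : orderOf h ≠ 2
  eq : ρ h * (ρ u - 1) * ρ h = ρ u - 1

/-- Two distinct commuting groups `A = AA ρ u`, `B = AA ρ w` of the same order. -/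
structure Cfg [Module (ZMod 2) V] (ρ : Representation (ZMod 2) H V) (u h w k : H) : Prop where
  s1 : Star ρ u h
  s2 : Star ρ w k
  ord : orderOf k = orderOf h
  card : Nat.card (AA ρ w) = Nat.card (AA ρ u)
  comm : ∀ a ∈ AA ρ u, ∀ b ∈ AA ρ w, a * b = b * a
  ne : AA ρ u ≠ AA ρ w

/-- The action of `h` on `B`. -/
structure Bij [Module (ZMod 2) V] (ρ : Representation (ZMod 2) H V) (u h w : H) : Prop where
  mem : ∀ b ∈ AA ρ w, h * b * h⁻¹ * b ∈ AA ρ u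
  free : ∀ b ∈ AA ρ w, h * b * h⁻¹ = b → b = 1
  surj : ∀ a ∈ AA ρ u, ∃ b ∈ AA ρ w, h * b * h⁻¹ * b = a

/-- `h ^ 2` and `k ^ 2` agree on `[V, A, B]`. -/
def Agree [Module (ZMod 2) V] (ρ : Representation (ZMod 2) H V) (u h w k : H) : Prop :=
  ∀ a ∈ AA ρ u, ∀ b ∈ AA ρ w,
    ρ (h * h) * ((ρ a - 1) * (ρ b - 1)) = ρ (k * k) * ((ρ a - 1) * (ρ b - 1))

/-- The product formulas. -/
def Prd [Module (ZMod 2) V] (ρ : Representation (ZMod 2) H V) (u h w : H) : Prop :=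
  (∀ b ∈ AA ρ w, ∀ b' ∈ AA ρ w, (ρ (h * b * h⁻¹ * b) - 1) * (ρ b' - 1) =
      (ρ (h * b' * h⁻¹ * b') - 1) * (ρ b - 1)) ∧
    ∀ a ∈ AA ρ u, ∀ b ∈ AA ρ w,
      (ρ (h * a * h⁻¹) - 1) * (ρ b - 1) = ρ (h * h) * ((ρ a - 1) * (ρ b - 1))

/-- Arithmetic condition on the order `N` of the socle, `|V| = 2 ^ n`. -/
def Ar (N n : ℕ) : Prop :=
  0 < n ∧ (∀ e, Odd e → e ∣ N → e ∣ 2 ^ n - 1) ∧
    (n = 6 ∨ ∃ r, r.Prime ∧ r ∣ N ∧ r ∣ 2 ^ n - 1 ∧ ∀ k, 0 < k → k < n → ¬ r ∣ 2 ^ k - 1)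

end defs

/-- Case (i). -/
def C1 (p : ℕ) (H : Type*) [Group H] : Prop :=
  ∃ (F : Type) (_ : Field F) (_ : Fintype F), (∃ a : ℕ, Fintype.card F = p ^ a) ∧
    2 < Fintype.card F ∧ ∃ S : Subgroup H, S.Normal ∧
      Nonempty (S ≃* Matrix.SpecialLinearGroup (Fin 2) F) ∧ (∃ k : ℕ, S.index = p ^ k) ∧
      (∃ h : H, S ⊔ Subgroup.zpowers h = ⊤) ∧
      Subgroup.centralizer (S : Set H) = (Subgroup.center S).map S.subtype

/-- Case (ii). -/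
def C2 (H : Type*) [Group H] : Prop :=
  ∃ S : Subgroup H, S.Normal ∧ S.index = 2 ∧
    Nonempty (S ≃* Matrix.SpecialLinearGroup (Fin 2) (ZMod 5)) ∧
    Subgroup.centralizer (S : Set H) = (Subgroup.center S).map S.subtype ∧
    ∀ K : Subgroup H, ¬ Subgroup.IsComplement' S K

/-- Cases (iv), (v), (vi). -/
def C4 (p : ℕ) (H : Type*) [Group H] : Prop :=
  (p = 11 ∧ Nonempty (H ≃* Matrix.SpecialLinearGroup (Fin 2) (ZMod 5))) ∨
    (p = 29 ∧ Nonempty (H ≃* Matrix.SpecialLinearGroup (Fin 2) (ZMod 5) ×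
      Multiplicative (ZMod 7))) ∨
    (p = 59 ∧ Nonempty (H ≃* Matrix.SpecialLinearGroup (Fin 2) (ZMod 5) ×
      Multiplicative (ZMod 29)))

/-! ### Any prime -/

def JobRed : Prop := ∀ {G : Type u} [Group G] [Finite G], ¬ Group.IsSolvable G →
  ∀ χ : Cfsg.IrrCharacter G,
  Nat.card {C : ConjClasses G // ∃ g ∈ C.carrier, (χ : G → ℂ) g ≠ 0} = 2 →
  ∃ (p : ℕ) (_ : Fact p.Prime), (∀ q : ℕ, q.Prime → (pCore q G ≠ ⊥ ↔ q = p)) ∧
    ¬ Group.IsSolvable (G ⧸ pCore p G) ∧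
    ∃ (V : Type u) (_ : AddCommGroup V) (_ : Module (ZMod p) V) (_ : Finite V)
      (ρ : Representation (ZMod p) (G ⧸ pCore p G) V), Tr ρ

def JobCyc : Prop := ∀ (p : ℕ) [Fact p.Prime] {H V : Type u} [Group H] [Finite H]
  [AddCommGroup V] [Module (ZMod p) V] [Finite V] (ρ : Representation (ZMod p) H V), Fr ρ →
  (∀ a b : H, (orderOf a).Prime → orderOf a ≠ p → orderOf b = orderOf a → a * b = b * a →
    b ∈ zpowers a) ∧
  (∀ r : ℕ, r.Prime → r ≠ p → r ≠ 2 → ∀ R : Subgroup H, IsPGroup r R → IsCyclic R) ∧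
  (∀ a b : H, (orderOf a).Prime → (orderOf b).Prime → orderOf a ≠ p → orderOf b ≠ p →
    a * b * a⁻¹ ∈ zpowers b → a * b = b * a)

def JobOrd : Prop := ∀ (p : ℕ) [Fact p.Prime] {H V : Type u} [Group H] [Finite H]
  [AddCommGroup V] [Module (ZMod p) V] [Finite V] (ρ : Representation (ZMod p) H V), Tr ρ →
  (∃ n k, 0 < n ∧ Nat.card V = p ^ n ∧ Nat.card H = (p ^ n - 1) * p ^ k ∧
    (¬ Group.IsSolvable H → 2 ≤ n) ∧ (n = 2 → k ≤ 1)) ∧
  ∀ (L : Subgroup H) [L.Normal] (v : V), v ≠ 0 →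
    ∃ P : Sylow p L, ∀ g : L, g ∈ (P : Subgroup L) ↔ ρ g v = v

def JobCount : Prop := ∀ (p : ℕ) [Fact p.Prime] {H V : Type u} [Group H] [Finite H]
  [AddCommGroup V] [Module (ZMod p) V] [Finite V] (ρ : Representation (ZMod p) H V), Tr ρ →
  ∀ (L : Subgroup H) [L.Normal] (P : Sylow p L), p ∣ Nat.card L → ∀ n, Nat.card V = p ^ n →
  ∃ d, 0 < d ∧ 2 * d ≤ n ∧ Nat.card (fx ρ ((P : Subgroup L).map L.subtype)) = p ^ d ∧
    p ^ n - 1 = Nat.card (Sylow p L) * (p ^ d - 1) ∧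
    ∀ e, e.Coprime p → e ∣ L.index * Nat.card (normalizer ((P : Subgroup L) : Set L)) →
      e ∣ p ^ d - 1

def JobPpd : Prop := ∀ (p : ℕ) [Fact p.Prime] {H V : Type u} [Group H] [Finite H]
  [AddCommGroup V] [Module (ZMod p) V] [Finite V] (ρ : Representation (ZMod p) H V), Fr ρ →
  ∀ n, Nat.card V = p ^ n → ∀ y : H, (orderOf y).Prime → orderOf y ≠ p →
  (∀ k, 0 < k → k < n → ¬ orderOf y ∣ p ^ k - 1) →
  (∀ g h : H, g * y = y * g → h * y = y * h → g * h = h * g) ∧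
    ∀ g : H, g * y = y * g → g ^ p = 1 → g = 1

def JobTop : Prop := ∀ (p : ℕ) [Fact p.Prime] {H V : Type u} [Group H] [Finite H]
  [AddCommGroup V] [Module (ZMod p) V] [Finite V] (ρ : Representation (ZMod p) H V), Fr ρ →
  ∀ (L : Subgroup H) [L.Normal], (∃ k, L.index = p ^ k) → ∀ y ∈ L, (orderOf y).Prime →
  orderOf y ≠ p → orderOf y ≠ 2 → (∀ g : H, g * y = y * g → g ^ p = 1 → g = 1) →
  ∃ h : H, L ⊔ zpowers h = ⊤

def JobCen : Prop := ∀ (p : ℕ) [Fact p.Prime] {H : Type u} [Group H] [Finite H],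
  pCore p H = ⊥ → ∀ (L C : Subgroup H) [L.Normal], C = centralizer (L : Set H) →
  (∃ k, Nat.card C ∣ Nat.card (center L) * p ^ k) → C = (center L).map L.subtype

def JobSLa : Prop := ∀ (p : ℕ) [Fact p.Prime] (F : Type) [Field F] [Fintype F] (a : ℕ),
  Fintype.card F = p ^ a → ∀ {L : Type u} [Group L] [Finite L],
  Nonempty (L ≃* SpecialLinearGroup (Fin 2) F) →
  Nat.card L = p ^ a * (p ^ (2 * a) - 1) ∧ Nat.card (center L) = (if p = 2 then 1 else 2) ∧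
  ∀ P : Sylow p L, Nat.card P = p ^ a ∧ (∀ g ∈ (P : Subgroup L), g ^ p = 1) ∧
    Nat.card (Sylow p L) = p ^ a + 1 ∧
    Nat.card (normalizer ((P : Subgroup L) : Set L)) = p ^ a * (p ^ a - 1)

def JobNatN : Prop := ∀ (p : ℕ) [Fact p.Prime] {H V : Type u} [Group H] [Finite H]
  [AddCommGroup V] [Module (ZMod p) V] [Finite V] (ρ : Representation (ZMod p) H V), Tr ρ →
  ∀ (L : Subgroup H) [L.Normal] (F : Type) [Field F] [Fintype F] (a : ℕ),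
  Fintype.card F = p ^ a → Nonempty (L ≃* SpecialLinearGroup (Fin 2) F) →
  Nat.card V = p ^ (2 * a)

def JobFin : Prop := ∀ (p : ℕ) [Fact p.Prime] {H V : Type u} [Group H] [Finite H]
  [AddCommGroup V] [Module (ZMod p) V] [Finite V] (ρ : Representation (ZMod p) H V), Tr ρ →
  ∀ (L : Subgroup H) [L.Normal] (F : Type) [Field F] [Fintype F] (a : ℕ),
  Fintype.card F = p ^ a → 2 < Fintype.card F → Nonempty (L ≃* SpecialLinearGroup (Fin 2) F) →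
  Nat.card V = p ^ (2 * a) → C1 p H

/-! ### Odd primes -/

def JobL : Prop := ∀ (p : ℕ) [Fact p.Prime] {H V : Type u} [Group H] [Finite H]
  [AddCommGroup V] [Module (ZMod p) V] [Finite V] (ρ : Representation (ZMod p) H V), Tr ρ →
  p ≠ 2 → ¬ Group.IsSolvable H → ∃ L : Subgroup H, L.Normal ∧ commutator L = ⊤ ∧
    ((∃ (F : Type) (_ : Field F) (_ : Fintype F), Odd (Fintype.card F) ∧ 3 < Fintype.card F ∧
        Nonempty (L ≃* SpecialLinearGroup (Fin 2) F)) ∨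
      IsNonsplitDoubleCover L ↥(alternatingGroup (Fin 7)))

def JobA7 : Prop := ∀ (p : ℕ) [Fact p.Prime] {H V : Type u} [Group H] [Finite H]
  [AddCommGroup V] [Module (ZMod p) V] [Finite V] (ρ : Representation (ZMod p) H V), Tr ρ →
  p ≠ 2 → ∀ (L : Subgroup H) [L.Normal],
  ¬ IsNonsplitDoubleCover L ↥(alternatingGroup (Fin 7))

def JobSLb : Prop := ∀ (r : ℕ) [Fact r.Prime] (F : Type) [Field F] [Fintype F],
  Odd (Fintype.card F) → r ≠ 2 → ¬ r ∣ Fintype.card F → ∀ {L : Type u} [Group L] [Finite L],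
  Nonempty (L ≃* SpecialLinearGroup (Fin 2) F) → r ∣ Nat.card L → ∀ P : Sylow r L,
  IsCyclic P ∧ (∀ y ∈ (P : Subgroup L), y ≠ 1 → ∀ Q : Sylow r L, y ∈ (Q : Subgroup L) → Q = P) ∧
  ∃ t, (t + 1 = Fintype.card F ∨ t = Fintype.card F + 1) ∧ Nat.card P ∣ t ∧
    Nat.card (normalizer ((P : Subgroup L) : Set L)) = 2 * t

def JobCrossAr : Prop := ∀ p l s N d n : ℕ, p.Prime → p ≠ 2 → 5 ≤ l → Odd l → ¬ p ∣ s →
  ((l = p * s + 1 ∧ 2 * N = l * (l + 1)) ∨ (l + 1 = p * s ∧ 2 * N = l * (l - 1))) →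
  0 < d → 2 * d ≤ n → n ≤ p * d → p ^ n - 1 = N * (p ^ d - 1) → 2 * s ∣ p ^ d - 1 →
  p = 3 ∧ ((l = 5 ∧ n = 4) ∨ (l = 13 ∧ n = 6))

def JobCross : Prop := ∀ (p : ℕ) [Fact p.Prime] {H V : Type u} [Group H] [Finite H]
  [AddCommGroup V] [Module (ZMod p) V] [Finite V] (ρ : Representation (ZMod p) H V), Tr ρ →
  p ≠ 2 → ∀ (L : Subgroup H) [L.Normal] (F : Type) [Field F] [Fintype F],
  Odd (Fintype.card F) → 3 < Fintype.card F → Nonempty (L ≃* SpecialLinearGroup (Fin 2) F) →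
  ¬ p ∣ Fintype.card F → p ∣ Nat.card L →
  p = 3 ∧ ((Fintype.card F = 5 ∧ Nat.card V = 3 ^ 4) ∨ (Fintype.card F = 13 ∧ Nat.card V = 3 ^ 6))

def JobAut : Prop := ∀ {H : Type u} [Group H] [Finite H] (L : Subgroup H) [L.Normal]
  (F : Type) [Field F] [Fintype F], (Fintype.card F).Prime → 3 < Fintype.card F →
  Nonempty (L ≃* SpecialLinearGroup (Fin 2) F) →
  (centralizer (L : Set H)).index ∣ Fintype.card F * (Fintype.card F ^ 2 - 1)

def JobCM : Prop := ∀ (p : ℕ) [Fact p.Prime] {H V : Type u} [Group H] [Finite H]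
  [AddCommGroup V] [Module (ZMod p) V] [Finite V] (ρ : Representation (ZMod p) H V), Fr ρ →
  p ≠ 2 → ∀ (L : Subgroup H) (F : Type) [Field F] [Fintype F], Odd (Fintype.card F) →
  Nonempty (L ≃* SpecialLinearGroup (Fin 2) F) →
  (∀ t : H, t * t = 1 → t ∈ L) ∧ ¬ 4 ∣ Nat.card (centralizer (L : Set H)) ∧
    ∀ r : ℕ, r.Prime → r ≠ p → r ≠ 2 → r ∣ Nat.card L → ¬ r ∣ Nat.card (centralizer (L : Set H))

def JobC3 : Prop := ∀ {H V : Type u} [Group H] [Finite H]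
  [AddCommGroup V] [Module (ZMod 3) V] [Finite V] (ρ : Representation (ZMod 3) H V), Tr ρ →
  ∀ (L : Subgroup H) [L.Normal] (F : Type) [Field F] [Fintype F],
  Nonempty (L ≃* SpecialLinearGroup (Fin 2) F) →
  (Fintype.card F = 5 → Nat.card V = 3 ^ 4 → C2 H) ∧
    (Fintype.card F = 13 → Nat.card V = 3 ^ 6 →
      Nonempty (H ≃* SpecialLinearGroup (Fin 2) (ZMod 13)))

def JobFrA : Prop := ∀ (p : ℕ) [Fact p.Prime] {H V : Type u} [Group H] [Finite H]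
  [AddCommGroup V] [Module (ZMod p) V] [Finite V] (ρ : Representation (ZMod p) H V), Tr ρ →
  ∀ (L : Subgroup H) [L.Normal], L ≠ ⊥ → commutator L = ⊤ → ¬ p ∣ Nat.card L →
  Nonempty (L ≃* SpecialLinearGroup (Fin 2) (ZMod 5)) ∧ Nat.card V = p ^ 2

def JobFrB : Prop := ∀ (p : ℕ) [Fact p.Prime] {H V : Type u} [Group H] [Finite H]
  [AddCommGroup V] [Module (ZMod p) V] [Finite V] (ρ : Representation (ZMod p) H V), Fr ρ →
  Nat.card V = p ^ 2 → ∀ L : Subgroup H, (∃ a ∈ L, ∃ b ∈ L, a * b ≠ b * a) →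
  IsCyclic (centralizer (L : Set H)) ∧ Nat.card (centralizer (L : Set H)) ∣ p - 1

def JobFrC : Prop := ∀ (p : ℕ) [Fact p.Prime] {H V : Type u} [Group H] [Finite H]
  [AddCommGroup V] [Module (ZMod p) V] [Finite V] (ρ : Representation (ZMod p) H V), Tr ρ →
  ∀ (L : Subgroup H) [L.Normal], Nonempty (L ≃* SpecialLinearGroup (Fin 2) (ZMod 5)) →
  ¬ p ∣ 120 → Nat.card V = p ^ 2 → C4 p H

/-! ### The prime `2` -/

def JobInv : Prop := ∀ {H V : Type u} [Group H] [Finite H]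
  [AddCommGroup V] [Module (ZMod 2) V] [Finite V] (ρ : Representation (ZMod 2) H V), Fr ρ →
  pCore 2 H = ⊥ → Inv ρ

def JobS : Prop := ∀ {H V : Type u} [Group H] [Finite H]
  [AddCommGroup V] [Module (ZMod 2) V] [Finite V] (ρ : Representation (ZMod 2) H V), Tr ρ →
  ¬ Group.IsSolvable H → ∃ S : Subgroup H, S.Normal ∧ IsSimpleGroup S ∧ ¬ IsMulCommutative S

def JobAr : Prop := ∀ {H V : Type u} [Group H] [Finite H]
  [AddCommGroup V] [Module (ZMod 2) V] [Finite V] (ρ : Representation (ZMod 2) H V), Tr ρ →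
  ∀ (S : Subgroup H) [S.Normal], 2 ∣ Nat.card S → ∀ n, Nat.card V = 2 ^ n → Ar (Nat.card S) n

def JobSz : Prop := ∀ {H V : Type u} [Group H] [Finite H]
  [AddCommGroup V] [Module (ZMod 2) V] [Finite V] (ρ : Representation (ZMod 2) H V), Tr ρ →
  Inv ρ → ∀ (S : Subgroup H) [S.Normal], ¬ IsSuzuki S

def JobArL : Prop := ∀ (F : Type) [Field F] [Fintype F] [CharP F 2] (k n : ℕ), 3 ≤ k →
  Ar (Nat.card (ProjectiveSpecialLinearGroup (Fin k) F)) n →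
  Nat.card (ProjectiveSpecialLinearGroup (Fin k) F) = 168

def JobArU : Prop := ∀ (F : Type) [Field F] [Fintype F] (q n : ℕ), Fintype.card F = q ^ 2 →
  Even q → 4 ≤ q → ¬ Ar (Nat.card (PSU 3 F q)) n

def JobArS : Prop := (∀ k n : ℕ, 6 ≤ k → k ≤ 9 → ¬ Ar (Nat.card (alternatingGroup (Fin k))) n) ∧
  (∀ N n : ℕ, N = 443520 ∨ N = 10200960 ∨ N = 244823040 ∨ N = 4030387200 → ¬ Ar N n) ∧
  ∀ {H V : Type u} [Group H] [Finite H] [IsSimpleGroup H] [AddCommGroup V] [Module (ZMod 2) V]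
    [Finite V] (ρ : Representation (ZMod 2) H V), Fr ρ → Nat.card H ≠ 168

def JobTr : Prop := ∀ {H V : Type u} [Group H] [AddCommGroup V] [Module (ZMod 2) V]
  (ρ : Representation (ZMod 2) H V) (x y : H), ρ x * ρ x + ρ x + 1 = 0 → ρ y * ρ y + ρ y + 1 = 0 →
  ∀ g ∈ closure ({x, y} : Set H), ∀ g' ∈ closure ({x, y} : Set H),
    (ρ g + ρ g⁻¹) * ρ g' = ρ g' * (ρ g + ρ g⁻¹)

def JobX : Prop := ∀ {H V : Type u} [Group H] [Finite H]
  [AddCommGroup V] [Module (ZMod 2) V] [Finite V] (ρ : Representation (ZMod 2) H V), Fr ρ →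
  Inv ρ → ∀ x y : H, orderOf x = 3 → orderOf y = 3 → x ≠ y → (∃ k, (x⁻¹ * y) ^ 2 ^ k = 1) →
  ∃ u, Star ρ u x

def JobStarB : Prop := ∀ {H V : Type u} [Group H] [Finite H]
  [AddCommGroup V] [Module (ZMod 2) V] [Finite V] (ρ : Representation (ZMod 2) H V), Fr ρ →
  (∀ x y : H, orderOf x = 3 → orderOf y = 3 → (∃ k, (x⁻¹ * y) ^ 2 ^ k = 1) → x = y) →
  ∀ x y : H, orderOf x = 3 → orderOf y = 3 → y ∉ zpowers x → ∃ u h, Star ρ u h

def JobW1 : Prop := ∀ {H V : Type u} [Group H] [Finite H]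
  [AddCommGroup V] [Module (ZMod 2) V] [Finite V] (ρ : Representation (ZMod 2) H V), Fr ρ →
  Inv ρ → ∀ u w : H, u * u = 1 → u ≠ 1 → w * w = 1 → w ≠ 1 →
  Nat.card (AA ρ w) = Nat.card (AA ρ u) → AA ρ u ≠ AA ρ w → ∀ a ∈ AA ρ u, a ≠ 1 →
  (∀ b ∈ AA ρ w, a * b = b * a) → ∀ a' ∈ AA ρ u, ∀ b ∈ AA ρ w, a' * b = b * a'

def JobW2 : Prop := ∀ {H V : Type u} [Group H] [Finite H]
  [AddCommGroup V] [Module (ZMod 2) V] [Finite V] (ρ : Representation (ZMod 2) H V), Fr ρ →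
  Inv ρ → ∀ u h w k : H, Cfg ρ u h w k → Bij ρ u h w

def JobW3a : Prop := ∀ {H V : Type u} [Group H] [Finite H]
  [AddCommGroup V] [Module (ZMod 2) V] [Finite V] (ρ : Representation (ZMod 2) H V), Fr ρ →
  Inv ρ → ∀ u h w k : H, Cfg ρ u h w k → Bij ρ u h w → Prd ρ u h w

def JobW3b : Prop := ∀ {H V : Type u} [Group H] [Finite H]
  [AddCommGroup V] [Module (ZMod 2) V] [Finite V] (ρ : Representation (ZMod 2) H V), Fr ρ →
  Inv ρ → ∀ u h w k : H, Cfg ρ u h w k → Prd ρ u h w → Prd ρ w k u →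
  ∃ j : ℕ, ¬ orderOf k ∣ j ∧ Agree ρ u h w (k ^ j)

def JobW3c : Prop := ∀ {H V : Type u} [Group H] [Finite H]
  [AddCommGroup V] [Module (ZMod 2) V] [Finite V] (ρ : Representation (ZMod 2) H V), Fr ρ →
  Inv ρ → ∀ u h w k : H, Cfg ρ u h w k → Bij ρ u h w → Bij ρ w k u → Prd ρ u h w →
  Prd ρ w k u → Agree ρ u h w k →
  ∃ a ∈ AA ρ u, ∃ b ∈ AA ρ w, a ≠ 1 ∧ h * (a * b) = a * b * h ∧ k * (a * b) = a * b * k

def JobW3d : Prop := ∀ {H V : Type u} [Group H] [Finite H]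
  [AddCommGroup V] [Module (ZMod 2) V] [Finite V] (ρ : Representation (ZMod 2) H V), Fr ρ →
  Inv ρ → ∀ u h w k : H, Cfg ρ u h w k → Bij ρ u h w → Bij ρ w k u → Prd ρ u h w →
  Prd ρ w k u → Agree ρ u h w k →
  (∃ a ∈ AA ρ u, ∃ b ∈ AA ρ w, a ≠ 1 ∧ h * (a * b) = a * b * h ∧ k * (a * b) = a * b * k) →
  ∀ a ∈ AA ρ u, ∀ b ∈ AA ρ w, (h * (a * b) = a * b * h → k * (a * b) = a * b * k) ∧
    h * (h * (a * b) * h⁻¹ * (k * (a * b) * k⁻¹)) = h * (a * b) * h⁻¹ * (k * (a * b) * k⁻¹) * h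

def JobW4 : Prop := ∀ {H V : Type u} [Group H] [Finite H]
  [AddCommGroup V] [Module (ZMod 2) V] [Finite V] (ρ : Representation (ZMod 2) H V), Fr ρ →
  Inv ρ → ∀ u h w k : H, Cfg ρ u h w k → Bij ρ u h w → Bij ρ w k u → Prd ρ u h w →
  Prd ρ w k u → Agree ρ u h w k →
  (∀ a ∈ AA ρ u, ∀ b ∈ AA ρ w, (h * (a * b) = a * b * h → k * (a * b) = a * b * k) ∧
    h * (h * (a * b) * h⁻¹ * (k * (a * b) * k⁻¹)) = h * (a * b) * h⁻¹ * (k * (a * b) * k⁻¹) * h) →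
  ∃ b ∈ AA ρ w, Star ρ b k ∧ ∀ i : ℕ, ∀ f, f = h ^ i * u * (h ^ i)⁻¹ * (k ^ i * b * (k ^ i)⁻¹) →
    h * f = f * h ∧ k * f = f * k

/-- The ring-theoretic data of the last step. -/
structure Lin {V : Type u} [AddCommGroup V] [Module (ZMod 2) V]
    (h h' k k' ν φ₀ φ₁ φ₂ : Module.End (ZMod 2) V) : Prop where
  hh : h * h' = 1
  hh' : h' * h = 1
  kk : k * k' = 1
  kk' : k' * k = 1
  νν : ν * ν = 0
  star : h * ν * h = ν
  c0 : h * φ₀ = φ₀ * h ∧ k * φ₀ = φ₀ * k ∧ ν * φ₀ = φ₀ * ν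
  c1 : h * φ₁ = φ₁ * h ∧ k * φ₁ = φ₁ * k ∧ ν * φ₁ = φ₁ * ν
  c2 : h * φ₂ = φ₂ * h ∧ k * φ₂ = φ₂ * k ∧ ν * φ₂ = φ₂ * ν
  z : φ₀ * φ₀ = 0 ∧ φ₀ * φ₁ = 0 ∧ φ₁ * φ₀ = 0 ∧ φ₀ * φ₂ = 0 ∧ φ₂ * φ₀ = 0
  n1 : ν * φ₁ = h ^ 2 * ν * φ₀
  n2 : ν * φ₂ = h ^ 4 * ν * φ₀
  b1 : k * (ν + φ₀ + ν * φ₀) = h ^ 2 * ν + φ₁ + h ^ 2 * ν * φ₁
  b1' : (h ^ 2 * ν + φ₁ + h ^ 2 * ν * φ₁) * k = ν + φ₀ + ν * φ₀
  b2 : k * (h ^ 2 * ν + φ₁ + h ^ 2 * ν * φ₁) = h ^ 4 * ν + φ₂ + h ^ 4 * ν * φ₂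
  ex0 : LinearMap.ker φ₀ = LinearMap.range φ₀
  ex1 : LinearMap.ker (φ₀ + φ₁) ≤ LinearMap.ker φ₀
  i2 : Function.Injective (h ^ 2 + 1 : Module.End (ZMod 2) V)
  i4 : Function.Injective (h ^ 4 + 1 : Module.End (ZMod 2) V)

def JobW5a : Prop := ∀ {V : Type u} [AddCommGroup V] [Module (ZMod 2) V] [Finite V]
  (h h' k k' ν φ₀ φ₁ φ₂ : Module.End (ZMod 2) V), Lin h h' k k' ν φ₀ φ₁ φ₂ →
  ∀ z, ν z = 0 → φ₀ z = 0 → ∃ v, z = ν (φ₀ v)

def JobW5b : Prop := ∀ {V : Type u} [AddCommGroup V] [Module (ZMod 2) V] [Finite V]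
  (h h' k k' ν φ₀ φ₁ φ₂ : Module.End (ZMod 2) V), Lin h h' k k' ν φ₀ φ₁ φ₂ →
  (∀ z, ν z = 0 → φ₀ z = 0 → ∃ v, z = ν (φ₀ v)) → ν * φ₀ = 0

def JobW6 : Prop := ∀ {H V : Type u} [Group H] [Finite H]
  [AddCommGroup V] [Module (ZMod 2) V] [Finite V] (ρ : Representation (ZMod 2) H V), Fr ρ →
  Inv ρ → ∀ u h b k : H, Cfg ρ u h b k →
  (∀ i : ℕ, ∀ f, f = h ^ i * u * (h ^ i)⁻¹ * (k ^ i * b * (k ^ i)⁻¹) →
    h * f = f * h ∧ k * f = f * k) →
  Lin (ρ h) (ρ h⁻¹) (ρ (k * k)) (ρ (k * k)⁻¹) (ρ u - 1) (ρ (u * b) - 1)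
    (ρ (h * u * h⁻¹ * (k * b * k⁻¹)) - 1)
    (ρ (h ^ 2 * u * (h ^ 2)⁻¹ * (k ^ 2 * b * (k ^ 2)⁻¹)) - 1)

end H34.GG
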