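/- Basic lemmas for the steps of `GGSpec` (blueprint `GG.md`). -/
import Cfsg.Agent.H34.GGSpec

set_option autoImplicit false

namespace H34.GG

open Subgroup Cfsg

section gen
variable {p : ℕ} {H V : Type*} [Group H] [AddCommGroup V] [Module (ZMod p) V]
  {ρ : Representation (ZMod p) H V}

theorem Fr.sub (h : Fr ρ) (K : Subgroup H) :
    Fr (p := p) (ρ.comp K.subtype : Representation (ZMod p) K V) where
  inj := h.inj.comp Subtype.val_injective
  nt := h.nt
  pel := fun g v hv hg => by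
    obtain ⟨k, hk⟩ := h.pel g v hv hg
    exact ⟨k, Subtype.ext (by simpa using hk)⟩

theorem Fr.inj_sub_one (h : Fr ρ) {g : H} (hc : (orderOf g).Coprime p) (hg : g ≠ 1) :
    Function.Injective (ρ g - 1 : Module.End (ZMod p) V) := by
  rw [injective_iff_map_eq_zero]
  intro v hv
  by_contra hv0
  have h1 : ρ g v = v := by simpa [sub_eq_zero] using hv
  obtain ⟨k, hk⟩ := h.pel g v hv0 h1
  have h2 := orderOf_dvd_of_pow_eq_one hk
  exact hg (orderOf_eq_one_iff.1 (Nat.Coprime.eq_one_of_dvd (hc.pow_right k) h2))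

theorem Fr.isPGroup (h : Fr ρ) {R : Subgroup H} {v : V} (hv : v ≠ 0) (hR : ∀ g ∈ R, ρ g v = v) :
    IsPGroup p R := fun g => by
  obtain ⟨k, hk⟩ := h.pel g v hv (hR g g.2)
  exact ⟨k, Subtype.ext (by simpa using hk)⟩

theorem mem_fx {S : Subgroup H} {v : V} : v ∈ fx ρ S ↔ ∀ g ∈ S, ρ g v = v := Iff.rfl

theorem rho_mul_inv (ρ : Representation (ZMod p) H V) (g : H) : ρ g * ρ g⁻¹ = 1 := by
  rw [← map_mul, mul_inv_cancel, map_one]

theorem rho_inv_mul (ρ : Representation (ZMod p) H V) (g : H) : ρ g⁻¹ * ρ g = 1 := by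
  rw [← map_mul, inv_mul_cancel, map_one]

theorem eq_zero_of_inj {f g : Module.End (ZMod p) V} (hf : Function.Injective f)
    (h : f * g = 0) : g = 0 := by
  ext v
  apply hf
  have := congrArg (fun x : Module.End (ZMod p) V => x v) h
  simpa using this

theorem rho_conj_sub (ρ : Representation (ZMod p) H V) (g a : H) :
    ρ (g * a * g⁻¹) - 1 = ρ g * (ρ a - 1) * ρ g⁻¹ := by
  rw [mul_sub, sub_mul, mul_one, rho_mul_inv, map_mul, map_mul]

end gen

section ring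
variable {R : Type*} [Ring R]

theorem eps_ring (h2 : ∀ x : R, x + x = 0) {a a' n t : R} (e1 : a * a' = 1) (e2 : a' * a = 1)
    (nn : n * n = 0) (ht : t = a * n + n * a') (ta : t * a = a * t) (tn : t * n = n * t)
    (hc : n * (a * n * a') = a * n * a' * n) :
    a * (n + a * n * a' + n * (a * n * a')) * a = n + a * n * a' + n * (a * n * a') := by
  have neg : ∀ x y : R, x + y = 0 → x = y := fun x y h => by
    have := congrArg (· + y) h
    simpa [add_assoc, h2] using this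
  have f1 : a * n = t + n * a' := by rw [ht, add_assoc, h2, add_zero]
  have f2 : n * a' = t + a * n := by rw [ht, add_right_comm, h2, zero_add]
  have g1 : n * (a * n * a') = t * (n * a') := by
    rw [f1, add_mul, mul_add, ← mul_assoc n t, ← tn, ← mul_assoc n (n * a'), ← mul_assoc n n, nn]
    simp [mul_assoc]
  have g2 : a * n * a' * n = t * (a * n) := by
    rw [mul_assoc a n a', f2, mul_add, add_mul, ← ta, mul_assoc a (a * n), mul_assoc a n n, nn]
    simp [mul_assoc]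
  have tt : t * t = 0 := by
    have : t * t = t * (a * n) + t * (n * a') := by rw [← mul_add, ← ht]
    rw [this, ← g1, ← g2, hc, h2]
  have k1 : a * n * a = t * a + n := by rw [f1, add_mul, mul_assoc n, e2, mul_one]
  have k2 : a * (a * n * a') * a = t * a + a * n * a' := by
    have : a * (a * n * a') * a = a * (a * n * a) * a' := by
      rw [mul_assoc a (a * n * a'), mul_assoc (a * n) a' a, e2, mul_assoc a (a * n * a),
        mul_assoc (a * n) a a', e1]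
    rw [this, k1, mul_add, add_mul, ← mul_assoc a t, ← ta, mul_assoc (t * a), e1, mul_one]
  have k3 : a * (n * (a * n * a')) * a = n * (a * n * a') := by
    rw [hc, g2, ← mul_assoc a t, ← ta, mul_assoc, mul_assoc, k1, mul_add, mul_add,
      ← mul_assoc a t, ← ta, ← mul_assoc t, ← mul_assoc t, tt]
    simp
  rw [mul_add, mul_add, add_mul, add_mul, k1, k2, k3]
  have : t * a + n + (t * a + a * n * a') = (t * a + t * a) + (n + a * n * a') := by abel
  rw [this, h2, zero_add]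

end ring

section two
variable {H V : Type*} [Group H] [AddCommGroup V] [Module (ZMod 2) V]
  {ρ : Representation (ZMod 2) H V}

theorem two_eq_v (v : V) : v + v = 0 := by
  rw [← two_smul (ZMod 2) v, show (2 : ZMod 2) = 0 from rfl, zero_smul]

theorem two_eq (f : Module.End (ZMod 2) V) : f + f = 0 := by
  ext v; exact two_eq_v (f v)

theorem sub_eq_add2 (f g : Module.End (ZMod 2) V) : f - g = f + g := by
  rw [sub_eq_iff_eq_add, add_assoc, two_eq, add_zero]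

theorem eq_of_add2 {f g : Module.End (ZMod 2) V} (h : f + g = 0) : f = g := by
  rw [← sub_eq_add2, sub_eq_zero] at h; exact h

theorem Inv.sub (h : Inv ρ) (K : Subgroup H) :
    Inv (ρ.comp K.subtype : Representation (ZMod 2) K V) := fun t ht h1 =>
  h t (by simpa using congrArg Subtype.val ht) fun e => h1 (Subtype.ext e)

theorem Fr.quad (h : Fr ρ) {x : H} (hx : orderOf x = 3) : ρ x * ρ x + ρ x + 1 = 0 := by
  have h1 : x ≠ 1 := by rintro rfl; simp at hx
  refine eq_zero_of_inj (h.inj_sub_one (by rw [hx]; norm_num) h1) ?_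
  have h3 : ρ x * ρ x * ρ x = 1 := by
    rw [← map_mul, ← map_mul, ← pow_three', ← hx, pow_orderOf_eq_one, map_one]
  have : (ρ x - 1) * (ρ x * ρ x + ρ x + 1) = ρ x * ρ x * ρ x - 1 := by noncomm_ring
  rw [this, h3, sub_self]

theorem sq_sub_one {t : H} (ht : t * t = 1) : (ρ t - 1) * (ρ t - 1) = 0 := by
  have : (ρ t - 1) * (ρ t - 1) = ρ t * ρ t + 1 - (ρ t + ρ t) := by noncomm_ring
  rw [this, ← map_mul, ht, map_one, two_eq, two_eq, sub_zero]

theorem mul_sub_one (a b : H) :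
    ρ (a * b) - 1 = (ρ a - 1) + (ρ b - 1) + (ρ a - 1) * (ρ b - 1) := by
  rw [map_mul]; noncomm_ring

theorem comm_sub_one {a b : H} (h : a * b = b * a) :
    (ρ a - 1) * (ρ b - 1) = (ρ b - 1) * (ρ a - 1) := by
  have : ρ a * ρ b = ρ b * ρ a := by rw [← map_mul, h, map_mul]
  have e : ∀ x y : Module.End (ZMod 2) V, (x - 1) * (y - 1) = x * y - x - y + 1 := by
    intro x y; noncomm_ring
  rw [e, e, this]; abel

theorem mem_AA {u g : H} : g ∈ AA ρ u ↔ ∀ v, ρ u v = v → ρ g v = v := Iff.rfl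

theorem self_mem_AA (u : H) : u ∈ AA ρ u := fun _ h => h

theorem mem_ker_sub {t : H} {v : V} : v ∈ LinearMap.ker (ρ t - 1) ↔ ρ t v = v := by
  simp [sub_eq_zero]

theorem AA_conj {u x : H} (g : H) : g * x * g⁻¹ ∈ AA ρ (g * u * g⁻¹) ↔ x ∈ AA ρ u := by
  have key : ∀ (y : H) (v : V), ρ (g * y * g⁻¹) (ρ g v) = ρ g v ↔ ρ y v = v := by
    intro y v
    rw [← Module.End.mul_apply, ← map_mul, inv_mul_cancel_right, map_mul, Module.End.mul_apply]
    constructor
    · intro h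
      have := congrArg (ρ g⁻¹) h
      simpa [← Module.End.mul_apply, ← map_mul] using this
    · intro h; rw [h]
  constructor
  · intro h v hv
    exact (key x v).1 (h _ ((key u v).2 hv))
  · intro h v hv
    have e : v = ρ g (ρ g⁻¹ v) := by rw [← Module.End.mul_apply, rho_mul_inv]; rfl
    rw [e] at hv ⊢
    exact (key x _).2 (h _ ((key u _).1 hv))

theorem AA_map (u g : H) : (AA ρ u).map (MulAut.conj g).toMonoidHom = AA ρ (g * u * g⁻¹) := by
  ext x
  constructor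
  · rintro ⟨y, hy, rfl⟩
    exact (AA_conj g).2 hy
  · intro hx
    refine ⟨g⁻¹ * x * g, (AA_conj g).1 ?_, by simp [mul_assoc]⟩
    simpa [mul_assoc] using hx

theorem card_AA_conj (u g : H) : Nat.card (AA ρ (g * u * g⁻¹)) = Nat.card (AA ρ u) := by
  rw [← AA_map]
  exact card_map_of_injective (MulAut.conj g).injective

theorem eps {h q : H} (hq : q * q = 1) (hc : q * (h * q * h⁻¹) = h * q * h⁻¹ * q)
    (h1 : (ρ h * (ρ q - 1) + (ρ q - 1) * ρ h⁻¹) * ρ h = ρ h * (ρ h * (ρ q - 1) + (ρ q - 1) * ρ h⁻¹))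
    (h2 : (ρ h * (ρ q - 1) + (ρ q - 1) * ρ h⁻¹) * (ρ q - 1) =
      (ρ q - 1) * (ρ h * (ρ q - 1) + (ρ q - 1) * ρ h⁻¹)) :
    ρ h * (ρ (q * (h * q * h⁻¹)) - 1) * ρ h = ρ (q * (h * q * h⁻¹)) - 1 := by
  rw [mul_sub_one, rho_conj_sub]
  refine eps_ring two_eq (rho_mul_inv ρ h) (rho_inv_mul ρ h) (sq_sub_one hq) rfl h1 h2 ?_
  rw [← rho_conj_sub]
  exact comm_sub_one hc

variable [Finite V]

theorem Inv.ker_eq (hI : Inv ρ) {t s : H} (ht : t * t = 1) (ht1 : t ≠ 1) (hs : s * s = 1)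
    (hs1 : s ≠ 1) (hle : ∀ v, ρ t v = v → ρ s v = v) (v : V) : ρ s v = v ↔ ρ t v = v := by
  have : Module.Finite (ZMod 2) V := Module.Finite.of_finite
  have a1 := LinearMap.finrank_range_add_finrank_ker (ρ t - 1)
  have a2 := LinearMap.finrank_range_add_finrank_ker (ρ s - 1)
  rw [← hI t ht ht1] at a1
  rw [← hI s hs hs1] at a2
  have : LinearMap.ker (ρ t - 1) = LinearMap.ker (ρ s - 1) :=
    Submodule.eq_of_le_of_finrank_eq (fun v hv => mem_ker_sub.2 (hle v (mem_ker_sub.1 hv)))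
      (by omega)
  rw [← mem_ker_sub, ← mem_ker_sub, this]

omit [Finite V] in
theorem Inv.exists_fix (hF : Fr ρ) {u : H} (hu : u * u = 1) : ∃ v : V, v ≠ 0 ∧ ρ u v = v := by
  obtain ⟨v, hv⟩ := hF.nt
  by_cases h : (ρ u - 1) v = 0
  · exact ⟨v, hv, mem_ker_sub.1 h⟩
  · refine ⟨_, h, mem_ker_sub.1 ?_⟩
    rw [LinearMap.mem_ker, ← Module.End.mul_apply, sq_sub_one hu]; rfl

omit [Finite V] in
theorem Inv.range (hI : Inv ρ) {t : H} (ht : t * t = 1) (ht1 : t ≠ 1) {v : V} (hv : ρ t v = v) :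
    ∃ w, v = (ρ t - 1) w := by
  have := mem_ker_sub.2 hv
  rw [hI t ht ht1] at this
  obtain ⟨w, hw⟩ := this
  exact ⟨w, hw.symm⟩

omit [Finite V] in
theorem fix_sub_one {t : H} (ht : t * t = 1) (w : V) : ρ t ((ρ t - 1) w) = (ρ t - 1) w := by
  refine mem_ker_sub.1 ?_
  rw [LinearMap.mem_ker, ← Module.End.mul_apply, sq_sub_one ht]; rfl

variable (hF : Fr ρ) (hI : Inv ρ) {u : H} (hu : u * u = 1) (hu1 : u ≠ 1)
include hF hI hu hu1

theorem AA_sq {a : H} (ha : a ∈ AA ρ u) : a * a = 1 := by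
  obtain ⟨v, hv, hv'⟩ := Inv.exists_fix hF hu
  obtain ⟨k, hk⟩ := hF.pel a v hv (ha v hv')
  induction k generalizing a with
  | zero => simp at hk; simp [hk]
  | succ k ih =>
    have h4 : a * a * (a * a) = 1 :=
      ih (mul_mem ha ha) (by rw [← pow_two, ← pow_mul, ← pow_succ', hk])
    by_contra h2
    have hk := hI.ker_eq hu hu1 h4 h2 (mul_mem ha ha)
    have e : ρ (a * a) - 1 = (ρ a - 1) * (ρ a - 1) := by rw [mul_sub_one, two_eq, zero_add]
    have z1 : ∀ w, ρ (a * a) ((ρ a - 1) w) = (ρ a - 1) w := by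
      intro w
      refine mem_ker_sub.1 ?_
      rw [LinearMap.mem_ker, ← Module.End.mul_apply, e, mul_assoc, ← e, Module.End.mul_apply]
      exact mem_ker_sub.2 (ha _ ((hk _).1 (fix_sub_one h4 w)))
    apply h2
    apply hF.inj
    rw [map_one, ← sub_eq_zero, e]
    ext w
    exact mem_ker_sub.2 (ha _ ((hk _).1 (z1 w)))

theorem AA_ker {a : H} (ha : a ∈ AA ρ u) (ha1 : a ≠ 1) (v : V) : ρ a v = v ↔ ρ u v = v :=
  hI.ker_eq hu hu1 (AA_sq hF hI hu hu1 ha) ha1 ha v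

theorem AA_eq {a : H} (ha : a ∈ AA ρ u) (ha1 : a ≠ 1) : AA ρ a = AA ρ u := by
  ext g
  simp only [mem_AA, AA_ker hF hI hu hu1 ha ha1]

theorem AA_fix {a : H} (ha : a ∈ AA ρ u) (w : V) : ρ u ((ρ a - 1) w) = (ρ a - 1) w := by
  by_cases h1 : a = 1
  · simp [h1]
  · exact (AA_ker hF hI hu hu1 ha h1 _).1 (fix_sub_one (AA_sq hF hI hu hu1 ha) w)

theorem AA_range {a : H} (ha : a ∈ AA ρ u) (w : V) : ∃ w', (ρ a - 1) w = (ρ u - 1) w' :=
  hI.range hu hu1 (AA_fix hF hI hu hu1 ha w)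

theorem AA_mul {a a' : H} (ha : a ∈ AA ρ u) (ha' : a' ∈ AA ρ u) : (ρ a - 1) * (ρ a' - 1) = 0 := by
  ext w
  exact mem_ker_sub.2 (ha _ (AA_fix hF hI hu hu1 ha' w))

theorem AA_add {a a' : H} (ha : a ∈ AA ρ u) (ha' : a' ∈ AA ρ u) :
    ρ (a * a') - 1 = (ρ a - 1) + (ρ a' - 1) := by
  rw [mul_sub_one, AA_mul hF hI hu hu1 ha ha', add_zero]

theorem AA_inv {a : H} (ha : a ∈ AA ρ u) : a⁻¹ = a :=
  inv_eq_of_mul_eq_one_right (AA_sq hF hI hu hu1 ha)

theorem AA_comm {a a' : H} (ha : a ∈ AA ρ u) (ha' : a' ∈ AA ρ u) : a * a' = a' * a := by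
  rw [← AA_inv hF hI hu hu1 (mul_mem ha ha'), mul_inv_rev, AA_inv hF hI hu hu1 ha,
    AA_inv hF hI hu hu1 ha']

/-- An element commuting with some `a ∈ A#` normalises `A`. -/
theorem AA_norm {a g x : H} (ha : a ∈ AA ρ u) (ha1 : a ≠ 1) (hg : g * a = a * g)
    (hx : x ∈ AA ρ u) : g * x * g⁻¹ ∈ AA ρ u := by
  rw [← AA_eq hF hI hu hu1 ha ha1] at hx ⊢
  have := (AA_conj (ρ := ρ) g).2 hx
  rwa [hg, mul_inv_cancel_right] at this

variable {w : H} (hw : w * w = 1) (hw1 : w ≠ 1) (hne : AA ρ u ≠ AA ρ w)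
include hw hw1 hne

theorem AA_inf {a : H} (ha : a ∈ AA ρ u) (hb : a ∈ AA ρ w) : a = 1 := by
  by_contra h
  exact hne ((AA_eq hF hI hu hu1 ha h).symm.trans (AA_eq hF hI hw hw1 hb h))

theorem AA_nd {a b : H} (ha : a ∈ AA ρ u) (hb : b ∈ AA ρ w) (ha1 : a ≠ 1) (hb1 : b ≠ 1) :
    (ρ a - 1) * (ρ b - 1) ≠ 0 := by
  intro h
  refine ha1 (AA_inf hF hI hu hu1 hw hw1 hne ha ?_)
  rw [← AA_eq hF hI hw hw1 hb hb1]
  intro v hv
  obtain ⟨y, rfl⟩ := hI.range (AA_sq hF hI hw hw1 hb) hb1 hv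
  refine mem_ker_sub.1 ?_
  rw [LinearMap.mem_ker, ← Module.End.mul_apply, h]; rfl

end two

section star
variable {H V : Type*} [Group H] [AddCommGroup V] [Module (ZMod 2) V]
  {ρ : Representation (ZMod 2) H V} {u h w k : H}

theorem Star.mul_eq (s : Star ρ u h) : ρ h * (ρ u - 1) = (ρ u - 1) * ρ h⁻¹ := by
  conv_rhs => rw [← s.eq, mul_assoc, rho_mul_inv, mul_one]

theorem Star.mul_eq' (s : Star ρ u h) : ρ h⁻¹ * (ρ u - 1) = (ρ u - 1) * ρ h := by
  conv_lhs => rw [← s.eq, ← mul_assoc, ← mul_assoc, rho_inv_mul, one_mul]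

theorem Star.eq_pow (s : Star ρ u h) (j : ℕ) : ρ (h ^ j) * (ρ u - 1) * ρ (h ^ j) = ρ u - 1 := by
  induction j with
  | zero => simp
  | succ j ih =>
    conv_rhs => rw [← s.eq, ← ih]
    rw [map_pow, map_pow]
    conv_lhs => rw [pow_succ' (ρ h) j]
    rw [mul_assoc, mul_assoc, ← pow_succ', pow_succ]
    simp only [mul_assoc]

theorem Star.pow (s : Star ρ u h) {j : ℕ} (hj : ¬ orderOf h ∣ j) : Star ρ u (h ^ j) := by
  have e : orderOf (h ^ j) = orderOf h :=
    ((Nat.Prime.coprime_iff_not_dvd s.pr).2 hj).orderOf_pow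
  exact ⟨s.sq, s.ne, e ▸ s.pr, e ▸ s.odd, s.eq_pow j⟩

theorem Star.conj (s : Star ρ u h) (g : H) : Star ρ (g * u * g⁻¹) (g * h * g⁻¹) := by
  have e : orderOf (g * h * g⁻¹) = orderOf h := (MulAut.conj g).orderOf_eq h
  refine ⟨by simp [mul_assoc, ← mul_assoc u u, s.sq], fun c => s.ne (by simpa using c),
    e ▸ s.pr, e ▸ s.odd, ?_⟩
  rw [rho_conj_sub]
  conv_rhs => rw [← s.eq]
  simp only [map_mul, mul_assoc]
  rw [← mul_assoc (ρ g⁻¹) (ρ g), ← mul_assoc (ρ g⁻¹) (ρ g), rho_inv_mul, one_mul, one_mul]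

theorem Star.conj_eq (s : Star ρ u h) : ρ (h * u * h⁻¹) - 1 = ρ h ^ 2 * (ρ u - 1) := by
  rw [rho_conj_sub, mul_assoc, ← s.mul_eq, pow_two, mul_assoc]

theorem Star.conj_pow_eq (s : Star ρ u h) (j : ℕ) :
    ρ (h ^ j * u * (h ^ j)⁻¹) - 1 = ρ h ^ (2 * j) * (ρ u - 1) := by
  have e : ρ (h ^ j) * (ρ u - 1) = (ρ u - 1) * ρ (h ^ j)⁻¹ := by
    conv_rhs => rw [← s.eq_pow j, mul_assoc, rho_mul_inv, mul_one]
  rw [rho_conj_sub, mul_assoc, ← e, ← mul_assoc, map_pow, ← pow_add, two_mul]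

theorem Star.fix (s : Star ρ u h) {v : V} (hv : ρ u v = v) : ρ u (ρ h v) = ρ h v := by
  refine mem_ker_sub.1 ?_
  rw [LinearMap.mem_ker, ← Module.End.mul_apply, ← s.mul_eq', Module.End.mul_apply,
    LinearMap.mem_ker.1 (mem_ker_sub.2 hv), map_zero]

theorem Star.fix' (s : Star ρ u h) {v : V} (hv : ρ u v = v) : ρ u (ρ h⁻¹ v) = ρ h⁻¹ v := by
  refine mem_ker_sub.1 ?_
  rw [LinearMap.mem_ker, ← Module.End.mul_apply, ← s.mul_eq, Module.End.mul_apply,
    LinearMap.mem_ker.1 (mem_ker_sub.2 hv), map_zero]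

theorem Star.norm (s : Star ρ u h) {a : H} (ha : a ∈ AA ρ u) : h * a * h⁻¹ ∈ AA ρ u := by
  intro v hv
  rw [map_mul, map_mul, Module.End.mul_apply, Module.End.mul_apply, ha _ (s.fix' hv),
    ← Module.End.mul_apply, rho_mul_inv]
  rfl

theorem Star.norm' (s : Star ρ u h) {a : H} (ha : a ∈ AA ρ u) : h⁻¹ * a * h ∈ AA ρ u := by
  intro v hv
  rw [map_mul, map_mul, Module.End.mul_apply, Module.End.mul_apply, ha _ (s.fix hv),
    ← Module.End.mul_apply, rho_inv_mul]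
  rfl

theorem Star.oddOrd (s : Star ρ u h) : Odd (orderOf h) := s.pr.odd_of_ne_two s.odd

/-- `h ^ j - 1` is injective unless the order of `h` divides `j`. -/
theorem Star.inj (s : Star ρ u h) (hF : Fr ρ) {j : ℕ} (hj : ¬ orderOf h ∣ j) :
    Function.Injective (ρ h ^ j + 1 : Module.End (ZMod 2) V) := by
  rw [← sub_eq_add2, ← map_pow]
  refine hF.inj_sub_one ?_ fun c => hj (orderOf_dvd_of_pow_eq_one c)
  rw [((Nat.Prime.coprime_iff_not_dvd s.pr).2 hj).orderOf_pow]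
  exact (Nat.coprime_primes s.pr Nat.prime_two).2 s.odd

theorem Star.not_dvd_two_pow (s : Star ρ u h) (j : ℕ) : ¬ orderOf h ∣ 2 ^ j := fun c =>
  s.odd ((Nat.prime_dvd_prime_iff_eq s.pr Nat.prime_two).1 (s.pr.dvd_of_dvd_pow c))

theorem Star.not_comm (s : Star ρ u h) (hF : Fr ρ) : h * u ≠ u * h := by
  intro c
  have e := s.conj_eq
  rw [c, mul_inv_cancel_right] at e
  have : (ρ h ^ 2 + 1) * (ρ u - 1) = 0 := by rw [add_mul, ← e, one_mul, two_eq]
  have z := eq_zero_of_inj (s.inj hF (j := 2) (by simpa using s.not_dvd_two_pow 1)) this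
  exact s.ne (hF.inj (by rw [map_one, ← sub_eq_zero, z]))

/-- `h` is a power of `h ^ 2`. -/
theorem Star.eq_sq_pow (s : Star ρ u h) : ∃ m, h = (h ^ 2) ^ m := by
  obtain ⟨m, hm⟩ := s.oddOrd
  exact ⟨m + 1, by rw [← pow_mul, show 2 * (m + 1) = orderOf h + 1 by omega, pow_succ,
    pow_orderOf_eq_one, one_mul]⟩

/-- An element centralising `u` and `h u h⁻¹` commutes with `h` on the fixed space of `u`. -/
theorem Star.comm_U (s : Star ρ u h) (hI : Inv ρ) {g : H} (h1 : g * u = u * g)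
    (h2 : g * (h * u * h⁻¹) = h * u * h⁻¹ * g) {v : V} (hv : ρ u v = v) :
    ρ g (ρ h v) = ρ h (ρ g v) := by
  have c : ∀ {x : H}, g * x = x * g → ρ g * (ρ x - 1) = (ρ x - 1) * ρ g := fun {x} hx => by
    rw [mul_sub, sub_mul, ← map_mul, hx, map_mul, mul_one, one_mul]
  have e : ∀ v, ρ u v = v → ρ g (ρ (h ^ 2) v) = ρ (h ^ 2) (ρ g v) := by
    intro v hv
    obtain ⟨y, rfl⟩ := hI.range s.sq s.ne hv
    have := c h2
    rw [s.conj_eq, mul_assoc (ρ h ^ 2), ← c h1, ← map_pow] at this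
    exact congrArg (fun f : Module.End (ZMod 2) V => f y) this
  have f : ∀ m, ∀ v, ρ u v = v → ρ u (ρ ((h ^ 2) ^ m) v) = ρ ((h ^ 2) ^ m) v ∧
      ρ g (ρ ((h ^ 2) ^ m) v) = ρ ((h ^ 2) ^ m) (ρ g v) := by
    intro m
    induction m with
    | zero => intro v hv; simpa using hv
    | succ m ih =>
      intro v hv
      obtain ⟨i1, i2⟩ := ih v hv
      rw [pow_succ', map_mul, Module.End.mul_apply, Module.End.mul_apply, e _ i1, i2]
      refine ⟨?_, rfl⟩
      rw [pow_two h, map_mul, Module.End.mul_apply]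
      exact s.fix (s.fix (by rw [← pow_two]; exact i1))
  obtain ⟨m, hm⟩ := s.eq_sq_pow
  have := (f m v hv).2
  rwa [← hm] at this

theorem Star.comm_mem (s : Star ρ u h) (hI : Inv ρ) {g : H} (h1 : g * u = u * g)
    (h2 : g * (h * u * h⁻¹) = h * u * h⁻¹ * g) : h * g * h⁻¹ * g⁻¹ ∈ AA ρ u := by
  intro v hv
  have a1 : ρ u (ρ g⁻¹ v) = ρ g⁻¹ v := by
    have : u * g⁻¹ = g⁻¹ * u := by
      rw [eq_inv_mul_iff_mul_eq, ← mul_assoc, h1, mul_inv_cancel_right]
    rw [← Module.End.mul_apply, ← map_mul, this, map_mul, Module.End.mul_apply, hv]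
  rw [map_mul, map_mul, map_mul, Module.End.mul_apply, Module.End.mul_apply,
    Module.End.mul_apply, ← s.comm_U hI h1 h2 (s.fix' a1), ← Module.End.mul_apply (ρ h),
    rho_mul_inv, Module.End.one_apply, ← Module.End.mul_apply, rho_mul_inv, Module.End.one_apply]

theorem Cfg.symm (c : Cfg ρ u h w k) : Cfg ρ w k u h :=
  ⟨c.s2, c.s1, c.ord.symm, c.card.symm, fun a ha b hb => (c.comm b hb a ha).symm, c.ne.symm⟩

theorem Cfg.pow (c : Cfg ρ u h w k) {j : ℕ} (hj : ¬ orderOf k ∣ j) : Cfg ρ u h w (k ^ j) :=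
  ⟨c.s1, c.s2.pow hj, (((Nat.Prime.coprime_iff_not_dvd c.s2.pr).2 hj).orderOf_pow).trans c.ord,
    c.card, c.comm, c.ne⟩

end star

end H34.GG
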