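import Cfsg.Agent.H73.GSSpec
import Cfsg.Agent.H1.CoprimeGen

/-! Slot NA of chapter GS (S3275). -/

set_option autoImplicit false

namespace H34.GSNA

open Subgroup Cfsg H98 H48.DP H57.DPC H48.DP2 H98.DP0C H73.GS
open scoped Pointwise

universe u

variable {G : Type u} [Group G]

theorem ea_pg {A : Subgroup G} (h : IsElementaryAbelian 3 A) : IsPGroup 3 A :=
  isPGroup_iff_forall.2 fun x hx => ⟨1, by simpa using h.2 x hx⟩

theorem ea_zp {a : G} (h : a ^ 3 = 1) : IsElementaryAbelian 3 (zpowers a) := by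
  refine ⟨inferInstance, ?_⟩
  rintro _ ⟨n, rfl⟩
  change (a ^ n) ^ 3 = 1
  rw [← zpow_natCast, ← zpow_mul, mul_comm, zpow_mul, zpow_natCast, h, one_zpow]

theorem ea_comm {A : Subgroup G} (h : IsElementaryAbelian 3 A) {x y : G} (hx : x ∈ A)
    (hy : y ∈ A) : Commute x y :=
  congrArg Subtype.val (h.1.1.1 ⟨x, hx⟩ ⟨y, hy⟩)

theorem ea_sup {A B : Subgroup G} (hA : IsElementaryAbelian 3 A) (hB : IsElementaryAbelian 3 B)
    (h : A ≤ Ce B) : IsElementaryAbelian 3 (A ⊔ B) := by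
  have hn : A ≤ No B := h.trans (centralizer_le_normalizer _)
  have c : ∀ a ∈ A, ∀ b ∈ B, Commute a b := fun a ha b hb =>
    (mem_centralizer_iff.1 (h ha) b hb).symm
  refine ⟨⟨⟨fun x y => Subtype.ext ?_⟩⟩, fun x hx => ?_⟩
  · obtain ⟨a, ha, b, hb, e⟩ := (mem_sup_left_norm hn).1 x.2
    obtain ⟨a', ha', b', hb', e'⟩ := (mem_sup_left_norm hn).1 y.2
    change (x : G) * y = y * x
    rw [e, e']
    exact (((ea_comm hA ha ha').mul_right (c a ha b' hb')).mul_left
      (((c a' ha' b hb).symm).mul_right (ea_comm hB hb hb'))).eq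
  · obtain ⟨a, ha, b, hb, rfl⟩ := (mem_sup_left_norm hn).1 hx
    rw [(c a ha b hb).mul_pow, hA.2 a ha, hB.2 b hb, one_mul]

theorem card_step [Finite G] {A B : Subgroup G} (hB : IsPGroup 3 B) (h : A ≤ B) {x : G}
    (hx : x ∈ B) (hx' : x ∉ A) : 3 * Nat.card A ≤ Nat.card B := by
  have : Fact (Nat.Prime 3) := ⟨Nat.prime_three⟩
  obtain ⟨i, hi⟩ := (hB.to_le h).exists_card_eq
  obtain ⟨j, hj⟩ := hB.exists_card_eq
  have h1 : Nat.card A ≤ Nat.card B := card_le_of_le h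
  have h2 : Nat.card A ≠ Nat.card B := fun e => hx' (eq_of_le_of_card_ge h e.ge ▸ hx)
  rw [hi, hj] at h1 h2 ⊢
  have h3 : i < j := (Nat.pow_lt_pow_iff_right (by norm_num)).1 (lt_of_le_of_ne h1 h2)
  rw [← pow_succ']
  exact Nat.pow_le_pow_right (by norm_num) h3

theorem zp_cen {a b : G} (h : Commute a b) : zpowers a ≤ Ce (zpowers b) := by
  rw [zpowers_le, mem_centralizer_iff]
  rintro _ ⟨n, rfl⟩
  exact (h.zpow_right n).eq.symm

theorem ng (tg : TG.{u}) : NG.{u} := by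
  intro G _ _ M Q Y a b hU aM bM a3 b3 hab hb ga gb hY aY bY
  have : Fact (Nat.Prime 3) := ⟨Nat.prime_three⟩
  have ha3 : a ^ 3 = 1 := a3 ▸ pow_orderOf_eq_one a
  have hb3 : b ^ 3 = 1 := b3 ▸ pow_orderOf_eq_one b
  have hA := ea_sup (ea_zp ha3) (ea_zp hb3) (zp_cen hab)
  have := hA.1
  have h9 : 9 ≤ Nat.card ↥(zpowers a ⊔ zpowers b) := by
    have := card_step (ea_pg hA) le_sup_left (mem_sup_right (mem_zpowers b)) hb
    rwa [Nat.card_zpowers, a3] at this
  have hnc : ¬ IsCyclic ↥(zpowers a ⊔ zpowers b) := by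
    intro hc
    obtain ⟨g, hg⟩ := hc.exists_ofOrder_eq_natCard
    have h1 : orderOf g ∣ 3 := orderOf_dvd_of_pow_eq_one (Subtype.ext (by simpa using hA.2 g g.2))
    have := Nat.le_of_dvd (by norm_num) h1
    omega
  refine H1.le_of_noncyclic_centralizer_le hnc (sup_le (zpowers_le.2 aY) (zpowers_le.2 bY))
    (IsPGroup.coprime_card_of_ne 3 2 (by norm_num) _ _ (ea_pg hA) hY) M fun c hc c1 => ?_
  have c3 : orderOf c = 3 := orderOf_eq_prime (hA.2 c hc) c1
  exact inf_le_right.trans (cen_le hU c3 (tg G M Q a b c hU aM bM a3 b3 hab hb ga gb hc c1)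
    (sup_le (zpowers_le.2 aM) (zpowers_le.2 bM) hc))

theorem big_cen [Finite G] {D U : Subgroup G} {u : G} (hD : IsPGroup 3 D) (h27 : 27 ≤ Nat.card D)
    (hU : Nat.card U ≤ 9) (hu : u ∈ U) (u1 : u ≠ 1) (hn : D ≤ No U) :
    9 ≤ Nat.card ↥(D ⊓ C1 u) := by
  have : Fact (Nat.Prime 3) := ⟨Nat.prime_three⟩
  let _ : MulAction D G := MulAction.compHom G ((MulAut.conj (G := G)).comp D.subtype)
  have hs : ∀ (d : D) (x : G), d • x = (d : G) * x * (d : G)⁻¹ := fun _ _ => rfl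
  have h1 : MulAction.stabilizer D u = (C1 u).subgroupOf D := by
    ext d
    rw [MulAction.mem_stabilizer_iff, hs, mem_subgroupOf, mem_centralizer_singleton_iff,
      mul_inv_eq_iff_eq_mul]
  have h2 : MulAction.orbit D u ⊆ (U : Set G) \ {1} := by
    rintro _ ⟨d, rfl⟩
    refine ⟨conj_mem_of_mem_normalizer (hn d.2) hu, fun e => u1 ?_⟩
    have e' : (d : G) * u * (d : G)⁻¹ = 1 := e
    calc u = (d : G)⁻¹ * ((d : G) * u * (d : G)⁻¹) * d := by group
      _ = 1 := by rw [e']; group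
  have h3 : (MulAction.orbit D u).ncard ≤ 8 := by
    refine (Set.ncard_le_ncard h2).trans ?_
    rw [Set.ncard_sdiff_singleton_of_mem (by exact U.one_mem)]
    have : (U : Set G).ncard = Nat.card U := rfl
    omega
  rw [← MulAction.index_stabilizer, h1] at h3
  obtain ⟨k, hk⟩ := hD.index ((C1 u).subgroupOf D)
  have hk1 : k ≤ 1 := by
    by_contra c
    have : 3 ^ 2 ≤ 3 ^ k := Nat.pow_le_pow_right (by norm_num) (by omega)
    omega
  have h4 : ((C1 u).subgroupOf D).index ≤ 3 := by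
    rw [hk]; exact (Nat.pow_le_pow_right (by norm_num) hk1).trans (by norm_num)
  have h5 := ((C1 u).subgroupOf D).card_mul_index
  have h6 : Nat.card ((C1 u).subgroupOf D) = Nat.card ↥(D ⊓ C1 u) := by
    rw [← inf_subgroupOf_left]
    exact Nat.card_congr (subgroupOfEquivOfLe inf_le_left).toEquiv
  rw [h6] at h5
  by_contra c
  have : Nat.card ↥(D ⊓ C1 u) * ((C1 u).subgroupOf D).index ≤ 8 * 3 :=
    Nat.mul_le_mul (by omega) h4
  omega

theorem ag : AG.{u} := by
  intro G _ _ M Q D y z u h DM hD hex h27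
  have : Fact (Nat.Prime 3) := ⟨Nat.prime_three⟩
  obtain ⟨P, PM, -, -, -, Pz, PU, -⟩ := h.syl
  obtain ⟨g, -, hg⟩ := (isSyl_sylow_of_le P PM).exists_cj_le hD DM
  have hz3 : z ^ 3 = 1 := h.z3 ▸ pow_orderOf_eq_one z
  have hu3 : u ^ 3 = 1 := h.u3 ▸ pow_orderOf_eq_one u
  have czu : Commute z u := (Bd.comm h).2.symm
  have hU := ea_sup (ea_zp hz3) (ea_zp hu3) (zp_cen czu)
  have z1 : z ≠ 1 := fun e => by simpa [e] using h.z3
  have u1 : u ≠ 1 := fun e => by simpa [e] using h.u3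
  have uz : u ∉ zpowers z := by
    rintro ⟨n, hn⟩
    have c : Commute u y := by
      rw [← hn]; exact (Commute.zpow_right (Bd.comm h).1 n).symm
    have := h.uy
    rw [c.eq, mul_inv_cancel_right] at this
    exact z1 (by simpa using this.symm)
  have h9 : 9 ≤ Nat.card ↥(zpowers z ⊔ zpowers u) := by
    have := card_step (ea_pg hU) le_sup_left (mem_sup_right (mem_zpowers u)) uz
    rwa [Nat.card_zpowers, h.z3] at this
  have h9' : Nat.card ↥(zpowers z ⊔ zpowers u) ≤ 9 := by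
    have e := coe_mul_of_left_le_normalizer_right (zpowers z) (zpowers u)
      ((zp_cen czu).trans (centralizer_le_normalizer _))
    have h1 : Nat.card ↥(zpowers z ⊔ zpowers u) =
        Nat.card ↥((zpowers z : Set G) * (zpowers u : Set G)) := by rw [← e]; rfl
    have h2 := Set.natCard_mul_le (s := (zpowers z : Set G)) (t := (zpowers u : Set G))
    have h3 : Nat.card ↥(zpowers z : Set G) = 3 := h.z3 ▸ Nat.card_zpowers z
    have h4 : Nat.card ↥(zpowers u : Set G) = 3 := h.u3 ▸ Nat.card_zpowers u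
    rw [h3, h4] at h2
    omega
  set E := cj g D ⊓ C1 u with hE
  have hD' : IsPGroup 3 (cj g D) := isPGroup_cj g hD
  have hE9 : 9 ≤ Nat.card E := big_cen hD' (by rwa [card_cj]) h9'
    (mem_sup_right (mem_zpowers u)) u1 (hg.trans PU)
  have hE3 : ∀ e ∈ E, e ^ 3 = 1 := fun e he => by
    have := hex _ (mem_cj.1 he.1)
    calc e ^ 3 = g * (g⁻¹ * e * g) ^ 3 * g⁻¹ := by simp only [pow_succ, pow_zero]; group
      _ = 1 := by rw [this]; group
  have hgood : ∀ e ∈ E, Good e := fun e he => by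
    by_cases heU : e ∈ zpowers z ⊔ zpowers u
    · obtain ⟨B, -, h1, h2⟩ := h.uU
      exact ⟨B, h1, h2 heU⟩
    · have hc : zpowers e ≤ Ce (zpowers z ⊔ zpowers u) := by
        rw [Ce, centralizer_sup]
        exact le_inf (zp_cen (mem_centralizer_singleton_iff.1 (Pz (hg he.1))))
          (zp_cen (mem_centralizer_singleton_iff.1 he.2))
      have hB := ea_sup (ea_zp (hE3 e he)) hU hc
      have := card_step (ea_pg hB) le_sup_right (mem_sup_left (mem_zpowers e)) heU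
      exact ⟨_, ⟨hB, by omega⟩, mem_sup_left (mem_zpowers e)⟩
  have hEp : IsPGroup 3 E := hD'.to_le inf_le_left
  have : Nontrivial E := Finite.one_lt_card_iff_nontrivial.1 (by omega)
  obtain ⟨⟨a, ha⟩, a1⟩ := (nontrivial_iff_exists_ne_one _).1 hEp.center_nontrivial |>.imp
    fun x (hx : x ∈ center E ∧ x ≠ 1) => hx
  have a1' : a ≠ 1 := fun e => a1.2 (Subtype.ext e)
  have a3 : orderOf a = 3 := orderOf_eq_prime (hE3 a ha) a1'
  obtain ⟨b, hb, hba⟩ : ∃ b ∈ E, b ∉ zpowers a := by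
    by_contra c
    push Not at c
    have := card_le_of_le (show E ≤ zpowers a from c)
    rw [Nat.card_zpowers, a3] at this
    omega
  have b1 : b ≠ 1 := fun e => hba (e ▸ one_mem _)
  have b3 : orderOf b = 3 := orderOf_eq_prime (hE3 b hb) b1
  have cab : Commute a b := (congrArg Subtype.val (mem_center_iff.1 a1.1 ⟨b, hb⟩)).symm
  have ho : ∀ x : G, orderOf (g⁻¹ * x * g⁻¹⁻¹) = orderOf x := fun x =>
    (SemiconjBy.orderOf_eq g⁻¹ (by simp [SemiconjBy])).symm
  refine ⟨g⁻¹ * a * g⁻¹⁻¹, by rw [inv_inv]; exact mem_cj.1 ha.1, g⁻¹ * b * g⁻¹⁻¹,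
    by rw [inv_inv]; exact mem_cj.1 hb.1, by rw [ho, a3], by rw [ho, b3], ?_, ?_,
    good_cj (hgood a ha) _, good_cj (hgood b hb) _⟩
  · change _ * _ = _ * _
    calc _ = g⁻¹ * (a * b) * g := by group
      _ = _ := by rw [cab.eq]; group
  · rintro ⟨n, hn⟩
    refine hba ⟨n, ?_⟩
    have e : (g⁻¹ * a * g⁻¹⁻¹) ^ n = g⁻¹ * b * g⁻¹⁻¹ := hn
    rw [conj_zpow] at e
    change a ^ n = b
    exact mul_left_cancel (mul_right_cancel e)

theorem job : JobNA.{u} := ⟨ng, ag⟩

end H34.GSNA
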