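import Cfsg.Agent.H7.HKT

/-! HKS tower, chapter III, job P1c. -/

set_option autoImplicit false
set_option linter.unusedSectionVars false

namespace H34.HkP

open MulAction Cfsg Subgroup H89.K H65 H7.HKS H7.HKT

universe u

variable {G Ω : Type u} [Group G] [Finite G] [MulAction G Ω] {U : Ω → Subgroup G} {a b : Ω}
  {z t v u w w' k : G}

/-- The involution `t` is the only involution of its kernel. -/
theorem kh_inv (h : C4 U) (hab : a ≠ b) (ht : Iv t a b) (hk : k ∈ Kh Ω {t}) (k2 : k * k = 1) :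
    k = 1 ∨ k = t := by
  refine h.nof hab ht k k2 (kh_comm hk) ?_
  have e : Fx Ω {k, t} = Fx Ω {t} := by
    ext c
    rw [mem_Fx2, mem_Fx]
    exact ⟨fun e => e.2, fun e => ⟨(mem_Kh.1 hk).1 c e, e⟩⟩
  have := (H72.HKS.kit1.fx h.toRg hab (sub1 ht.1)).2.1
  have := (one_lt_card_iff_ne_bot _).2 (h.fx3 hab ht)
  rw [e]; omega

theorem fx2 (h : C4 U) (hab : a ≠ b) (ht : Iv t a b) (w2 : w * w = 1) (e : w * t = t * w)
    (w1 : w ≠ 1) (wt : w ≠ t) : (Fx Ω (insert w {t})).ncard ≤ 2 := by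
  by_contra c
  exact (h.nof hab ht w w2 e (by omega)).elim w1 wt

/-- Two involutions of `C(t)` other than `t` in one coset of `L_t` are conjugate. -/
theorem lcw (h : C4 U) (hab : a ≠ b) (ht : Iv t a b) (w2 : w * w = 1) (w2' : w' * w' = 1)
    (e : w * t = t * w) (hl : w⁻¹ * w' ∈ LX U {t}) (w1 : w ≠ 1) (wt : w ≠ t) (w1' : w' ≠ 1)
    (wt' : w' ≠ t) : ∃ g ∈ LX U {t}, g * w * g⁻¹ = w' := by
  have e0 : w * (w⁻¹ * w') = w' := by simp
  have e' : w' * t = t * w' := by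
    rw [← e0, mul_assoc w, lx_comm h.toRg hab ht.1 hl, ← mul_assoc, e, mul_assoc]
  have := H3.HK2.kit2.lc h.toRg hab (sub1 ht.1) (h.tl hab ht).1 w (mem_C.2 e) _ hl w2
    (by rwa [e0]) (fx2 h hab ht w2 e w1 wt) (by rw [e0]; exact fx2 h hab ht w2' e' w1' wt')
  rwa [e0] at this

theorem sw_ne (hab : a ≠ b) (hw : Sw w a b) (ht : t ∈ St G a b) : w ≠ t := fun e =>
  hab ((st_iff.1 ht).1.symm.trans (e ▸ hw.1))

theorem sw_mul (hw : Sw w a b) (ht : t ∈ St G a b) : Sw (w * t) a b :=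
  ⟨by rw [mul_smul, (st_iff.1 ht).1, hw.1], by rw [mul_smul, (st_iff.1 ht).2, hw.2]⟩

theorem sw_of_mul (hw : Sw (w * t) a b) (ht : t ∈ St G a b) : Sw w a b := by
  simpa using sw_mul hw (inv_mem ht)

/-- The element `h(i)` of `L_t` for `q ≡ 1 (mod 4)`. -/
theorem ex_h0 (h : C4 U) (hab : a ≠ b) (ht : Iv t a b) (m4 : Nat.card (U a) % 4 = 1) :
    ∃ h0 ∈ LX U {t}, h0 ∈ St G a b ∧ h0 ∉ Kh Ω {t} ∧
      (∀ l ∈ LX U {t}, Sw l a b → l * l = h0 * h0) ∧
      (SLt U t → h0 * h0 = t) ∧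
      (¬ SLt U t → h0 * h0 = 1 ∧ ∀ l ∈ LX U {t}, orderOf l = 2 → ∃ g ∈ LX U {t}, g * l * g⁻¹ = h0) ∧
      (∀ v, Fr t v a b → v * h0 = h0 * v ∧ h0⁻¹ * v ∈ Kh Ω {t}) ∧
      (∀ u, u * u = 1 → Sw u a b → u * t = t * u → u * h0 * u = h0⁻¹) ∧
      ∃ n ∈ LX U {t}, Sw n a b ∧ ∀ v, Fr t v a b → v * n * v = n⁻¹ := by
  obtain ⟨⟨F, _, _, x, y, D⟩, c4⟩ := h.tl hab ht
  rw [m4, card_F h.toRg hab D] at c4
  obtain ⟨i, hi⟩ := ex_i c4
  have i0 : i ≠ 0 := fun e => by simp [e] at hi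
  have e := lx_eq h.toRg hab (sub1 ht.1) D
  have hh : sl2h x y i * sl2h x y i = sl2h x y (-1) := by rw [D.rel.h_mul' i0 i0, hi]
  obtain ⟨-, -, -, -, -, b6, -, -, -, b10, -⟩ :=
    H3.HK2.kit2.bas h.toRg.sr hab inf_le_left inf_le_left D
  have nk : sl2h x y i ∉ Kh Ω {t} := fun hk => by
    have e1 := D.rel.h_mul_x i0 1
    rw [kl h.toRg hab ht.1 hk (cu_le_lx (mem_Fx.2 ht.1.1) (x_mem D 1)), mul_left_inj, pow_two,
      hi, mul_one] at e1
    apply two_ne h.toRg hab D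
    have := D.inj e1
    linear_combination this
  have neg : ∀ v, Fr t v a b → ∀ c, v * x c * v⁻¹ = x (-c) := fun v hv c => by
    rw [iv_inv hv.2.1, h.neg hab hv _ (x_mem D c), x_inv D]
  refine ⟨sl2h x y i, h_lx h.toRg hab (sub1 ht.1) D i, h_st h.toRg hab D i0, nk,
    fun l hl s => ?_, fun s => ?_, fun s => ?_, fun v hv => ⟨?_, ?_⟩, fun u u2 s e => ?_,
    sl2n x y 1, n_lx h.toRg hab (sub1 ht.1) D 1, D.sw 1 one_ne_zero, fun v hv => ?_⟩
  · obtain ⟨c, c0, rfl⟩ := b10 l (e ▸ hl) s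
    rw [b6 c c0, hh]
  · rw [hh, ((h.sl hab ht D).resolve_right fun e => e.1 s).2]
  · have z1 := ((h.sl hab ht D).resolve_left fun e => s e.1).2
    refine ⟨hh.trans z1, fun l hl o => ?_⟩
    have := ((H3.HK2.kit2.grp h.toRg.sr hab inf_le_left inf_le_left D).2.1 z1).2 l (e ▸ hl) _
      (h_mem D i) o (orderOf_eq_prime (by rw [pow_two, hh, z1]) fun e => nk (e ▸ one_mem _))
    rwa [← e] at this
  · exact (neg_act h.toRg hab D hv.2.1.1 (mem_N.2 hv.2.2.2.symm) (neg v hv)).2.2 i i0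
  · obtain ⟨k, hk, e⟩ := hk_dec h.toRg hab ht.1 D hi hv.2.1.1 hv.2.2.2.symm fun u hu => by
      rw [iv_inv hv.2.1, h.neg hab hv u hu]
    rw [e]; simpa using hk
  · obtain ⟨μ, -, -, s2, -⟩ := H3.HK2.kit2.swp h.toRg hab (sub1 ht.1) D u (mem_N.2 e) s
      (fun c _ => by rw [← mul_smul, u2, one_smul])
      (fx2 h hab ht u2 e (sw_ne hab s (one_mem _)) (sw_ne hab s ht.1))
    have := s2 i i0
    rw [inv_eq_of_mul_eq_one_right u2] at this
    rw [this, eq_inv_iff_mul_eq_one, D.rel.h_mul' (inv_ne_zero i0) i0, inv_mul_cancel₀ i0,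
      D.rel.h_one]
  · have := (neg_act h.toRg hab D hv.2.1.1 (mem_N.2 hv.2.2.2.symm) (neg v hv)).2.1 1 one_ne_zero
    rwa [iv_inv hv.2.1, D.rel.n_neg] at this

/-- An involution interchanging `a`, `b` that is inner on `L_t`, `t` not of type SL. -/
theorem star1 (h : C4 U) (hab : a ≠ b) (hf : Fr z t a b) (m4 : Nat.card (U a) % 4 = 1)
    (nt : ¬ SLt U t) (nj : ¬ IsConj z (z * t)) (u2 : u * u = 1) (s : Sw u a b)
    (e : u * t = t * u) (hi : Inn U {t} u) : IsConj z u ↔ ¬ IsConj z (u * t) := by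
  have ht := hf.2.1
  obtain ⟨h0, h1, h2, h3, h4, -, h6, h7, -⟩ := ex_h0 h hab ht m4
  obtain ⟨h5, h6⟩ := h6 nt
  obtain ⟨l, hl, k, hk, rfl⟩ := inn_dec h.toRg hab ht.1 e hi
  have sl := sw_of_mul s (kh_st ht.1 hk)
  have l2 : l * l = 1 := (h4 l hl sl).trans h5
  have k2 : k * k = 1 := by
    rw [mul_assoc, ← mul_assoc k, kl h.toRg hab ht.1 hk hl, mul_assoc, ← mul_assoc, l2,
      one_mul] at u2
    exact u2
  obtain ⟨g, hg, eg⟩ := h6 l hl (orderOf_eq_prime (by rw [pow_two, l2]) (sw_ne hab sl (one_mem _)))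
  have c1 : IsConj l h0 := isConj_iff.2 ⟨g, eg⟩
  have c2 : IsConj (l * t) (h0 * t) := isConj_iff.2 ⟨g, by
    rw [← eg, mul_assoc _ g⁻¹, lx_comm h.toRg hab ht.1 (inv_mem hg)]; group⟩
  have key : IsConj z l ↔ ¬ IsConj z (l * t) := by
    rcases h.noE8 a b z t h0 hab hf h2 h5 (h7 z (fr_symm hf)).1.symm
      (lx_comm h.toRg hab ht.1 h1) with e | e | e | e
    · exact absurd (e ▸ one_mem _) h3
    · rw [e] at c1 c2
      exact iff_of_true c1.symm fun c => nj (c.trans c2)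
    · exact absurd (e ▸ self_kh) h3
    · rw [e] at c1 c2
      rw [mul_assoc, iv_sq ht, mul_one] at c2
      exact iff_of_false (fun c => nj (c.trans c1)) (not_not.2 c2.symm)
  rcases kh_inv h hab ht hk k2 with rfl | rfl
  · simpa using key
  · rw [mul_assoc, k2, mul_one, key, not_not]

/-- `h(i) k` is an involution of the two-point stabiliser. -/
theorem fr_hk (h : C4 U) (hab : a ≠ b) (hz : Iv z a b) {h0 : G} (h1 : h0 ∈ LX U {z})
    (h2 : h0 ∈ St G a b) (h3 : h0 ∉ Kh Ω {z}) (h4 : h0 * h0 = z) (hk : k ∈ Kh Ω {z})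
    (k2 : k * k = z) : Fr z (h0 * k) a b := by
  have c := kl h.toRg hab hz.1 hk h1
  refine ⟨hz, iv_mk (mul_mem h2 (kh_st hz.1 hk)) ?_ fun e => h3 ?_, fun e => h3 ?_, ?_⟩
  · rw [mul_assoc, ← mul_assoc k, c, mul_assoc, ← mul_assoc, h4, k2, iv_sq hz]
  · rw [eq_inv_of_mul_eq_one_left e]; exact inv_mem hk
  · rw [eq_mul_inv_of_mul_eq e.symm]; exact mul_mem self_kh (inv_mem hk)
  · rw [← mul_assoc, ← lx_comm h.toRg hab hz.1 h1, mul_assoc, ← kh_comm hk, mul_assoc]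

/-- The lemma (*). -/
theorem star (h : C4 U) (hab : a ≠ b) (hz : Iv z a b) (sz : SLt U z)
    (m4 : Nat.card (U a) % 4 = 1) {h0 : G} (h1 : h0 ∈ LX U {z})
    (h2 : h0 ∈ St G a b) (h3 : h0 ∉ Kh Ω {z}) (h4 : h0 * h0 = z) (hk : k ∈ Kh Ω {z})
    (k2 : k * k = z) (n1 : ¬ SLt U (h0 * k)) (n2 : ¬ SLt U (z * (h0 * k))) (u2 : u * u = 1)
    (s : Sw u a b) (e : u * z = z * u) (i1 : u * h0 * u = h0⁻¹) (i2 : u * k * u = k⁻¹)
    (ni : ¬ Inn U {z} u) : IsConj z u ↔ ¬ IsConj z (u * k) := by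
  have hf := fr_hk h hab hz h1 h2 h3 h4 hk k2
  have c := kl h.toRg hab hz.1 hk h1
  have nJ : ∀ w, ¬ SLt U w → ¬ IsConj z w := fun w hw c => by
    obtain ⟨g, rfl⟩ := isConj_iff.1 c
    exact hw (h.slJ g z sz)
  have ui : u⁻¹ = u := inv_eq_of_mul_eq_one_right u2
  have ev : u * (h0 * k) = h0 * k * u := by
    have : (h0 * k)⁻¹ = h0 * k := iv_inv hf.2.1
    calc u * (h0 * k) = u * h0 * u * (u * k * u) * u := by
          simp only [mul_assoc, u2, mul_one]; rw [← mul_assoc u u, u2, one_mul]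
      _ = (h0 * k)⁻¹ * u := by rw [i1, i2, ← c, mul_inv_rev]
      _ = _ := by rw [this]
  have ezv : u * (z * (h0 * k)) = z * (h0 * k) * u := by
    rw [← mul_assoc, e, mul_assoc, ev, mul_assoc z]
  have uk : u * k * (u * k) = 1 := by rw [← mul_assoc, i2, inv_mul_cancel]
  have sk := sw_mul s (kh_st hz.1 hk)
  have ek : u * k * z = z * (u * k) := by rw [mul_assoc, kh_comm hk, ← mul_assoc, e, mul_assoc]
  have fin : ∀ t, Iv t a b → u * t = t * u → k⁻¹ * t ∈ LX U {z} →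
      (IsConj z (u * t) ↔ IsConj z (u * k)) := fun t ht et hl => by
    have st := sw_mul s ht.1
    obtain ⟨g, -, eg⟩ := lcw (w := u * k) (w' := u * t) h hab hz uk
      (by rw [mul_assoc, ← mul_assoc t, ← et, mul_assoc, iv_sq ht, mul_one, u2]) ek
      (by simpa [mul_assoc] using hl) (sw_ne hab sk (one_mem _)) (sw_ne hab sk hz.1)
      (sw_ne hab st (one_mem _)) (sw_ne hab st hz.1)
    have c : IsConj (u * k) (u * t) := isConj_iff.2 ⟨g, eg⟩
    exact ⟨fun e => e.trans c.symm, fun e => e.trans c⟩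
  have inc := h.inc hab hf u2 s e ev
  by_cases iv : Inn U {h0 * k} u
  · rw [← fin _ hf.2.1 ev (by rw [← c]; simpa using h1)]
    exact star1 h hab hf m4 n1 (nJ _ n2) u2 s ev iv
  · rw [← fin _ (fr_iv hf) ezv (by
      rw [← c, ← mul_assoc z, ← kh_comm hk, mul_assoc k, inv_mul_cancel_left]
      exact mul_mem sz h1)]
    refine star1 h hab (fr_mul hf) m4 n2 ?_ u2 s ezv (inc.1 (iff_of_false ni iv))
    rw [← mul_assoc, iv_sq hz, one_mul]
    exact nJ _ n1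

/-- `2`-elements commuting with an element of order four in a group with one involution. -/
theorem two_elt {K : Subgroup G} (z2 : z * z = 1) (hK : ∀ g ∈ K, g * g = 1 → g = 1 ∨ g = z)
    (hk : k ∈ K) (k2 : k * k = z) (e : ℕ) : ∀ m ∈ K, m * k = k * m → m ^ 2 ^ e = 1 →
      m * m = 1 ∨ m = k ∨ m = k⁻¹ ∨ ∃ c ∈ zpowers m, k = c * c := by
  induction e with
  | zero => intro m _ _ e; left; simp_all
  | succ e ih =>
    intro m hm c e1
    rcases ih (m * m) (mul_mem hm hm) (by rw [mul_assoc, c, ← mul_assoc, c, mul_assoc])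
      (by rw [← pow_two, ← pow_mul, ← pow_succ', e1]) with e | e | e | ⟨d, hd, e⟩
    · rcases hK _ (mul_mem hm hm) e with e | e
      · exact Or.inl e
      · rcases hK _ (mul_mem hm hk) (by
          rw [mul_assoc, ← mul_assoc k, ← c, mul_assoc, ← mul_assoc, e, k2, z2]) with e | e
        · exact Or.inr (Or.inr (Or.inl (eq_inv_of_mul_eq_one_left e)))
        · exact Or.inr (Or.inl (mul_right_cancel (e.trans k2.symm)))
    · exact Or.inr (Or.inr (Or.inr ⟨m, mem_zpowers m, e.symm⟩))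
    · exact Or.inr (Or.inr (Or.inr ⟨m⁻¹, inv_mem (mem_zpowers m), by
        rw [← mul_inv_rev, e, inv_inv]⟩))
    · exact Or.inr (Or.inr (Or.inr ⟨d, zpowers_le.2 (mul_mem (mem_zpowers m) (mem_zpowers m)) hd, e⟩))

theorem ex_odd (g : G) : ∃ j e : ℕ, (g ^ (2 * j + 1)) ^ 2 ^ e = 1 := by
  obtain ⟨e, o, ⟨j, rfl⟩, eo⟩ := Nat.exists_eq_two_pow_mul_odd (orderOf_pos g).ne'
  exact ⟨j, e, by rw [← pow_mul, mul_comm, ← eo, pow_orderOf_eq_one]⟩

theorem inv_zp {m c : G} (t2 : t * t = 1) (e : t * m * t = m⁻¹) (hc : c ∈ zpowers m) :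
    t * c * t = c⁻¹ := by
  obtain ⟨i, rfl⟩ := mem_zpowers_iff.1 hc
  have ti : t⁻¹ = t := inv_eq_of_mul_eq_one_right t2
  calc t * m ^ i * t = (t * m * t⁻¹) ^ i := by rw [conj_zpow, ti]
    _ = _ := by rw [ti, e, inv_zpow]

theorem conj_inv' {c : G} (t2 : t * t = 1) (e : t * c * t = c⁻¹) (x : G) :
    c⁻¹ * (t * x) * c = t * (c * x * c) := by
  rw [← e]; simp only [mul_assoc]; rw [← mul_assoc t t, t2, one_mul]

/-- The pure group theory: an involution `t` acting on a group `K` with one involution. -/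
theorem ex_k2 {K : Subgroup G} {k' : G} (z2 : z * z = 1) (z1 : z ≠ 1)
    (hK : ∀ g ∈ K, g * g = 1 → g = 1 ∨ g = z) (hc : ∀ g ∈ K, g * z = z * g) (hk : k ∈ K)
    (k2 : k * k = z) (hk' : k' ∈ K) (ik : k' * k * k'⁻¹ = k⁻¹) (t2 : t * t = 1)
    (nt : ∀ g ∈ K, t * g * t ∈ K) (i : t * k * t = k⁻¹) (nc : ¬ IsConj t (t * k)) :
    ∃ g ∈ K, g * g = z ∧ g * k * g⁻¹ = k⁻¹ ∧ t * g * t = g⁻¹ := by
  have ti : t⁻¹ = t := inv_eq_of_mul_eq_one_right t2
  have tt : ∀ x, t * (t * x) = x := fun x => by rw [← mul_assoc, t2, one_mul]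
  have kk : k ≠ k⁻¹ := fun e => z1 (by rw [← k2]; nth_rw 1 [e]; simp)
  have ik' : k' * k⁻¹ * k'⁻¹ = k := by rw [← conj_inv, ik, inv_inv]
  have i' : t * k⁻¹ * t = k := inv_zp t2 i (inv_mem (mem_zpowers k)) |>.trans (inv_inv k)
  -- `k' t k'⁻¹ = t m`
  set m := t * k' * t * k'⁻¹ with hm
  have mK : m ∈ K := mul_mem (nt _ hk') (inv_mem hk')
  have mi : t * m * t = m⁻¹ := by simp [hm, mul_assoc, ti, tt]
  have mk : m * k = k * m := by
    have e1 : k'⁻¹ * k = k⁻¹ * k'⁻¹ := by rw [inv_mul_eq_iff_eq_mul, ← mul_assoc, ik']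
    have e2 : t * k⁻¹ = k * t := mul_inv_eq_iff_eq_mul.1 (by rw [ti]; exact i')
    have e3 : k' * k = k⁻¹ * k' := by rw [← ik]; group
    rw [hm, mul_assoc, e1, ← mul_assoc, mul_assoc _ t, e2, ← mul_assoc, mul_assoc t, e3,
      ← mul_assoc, e2]
    simp only [mul_assoc]
  obtain ⟨j, e, he⟩ := ex_odd m
  have cm : m ^ j ∈ zpowers m := pow_mem (mem_zpowers m) j
  have ck : Commute m k := mk
  have g1 : (m ^ j)⁻¹ * k' * t * ((m ^ j)⁻¹ * k')⁻¹ = t * m ^ (2 * j + 1) := by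
    have := conj_inv' t2 (inv_zp t2 mi cm) m
    rw [show m ^ j * m * m ^ j = m ^ (2 * j + 1) by group] at this
    rw [← this, hm]; simp [mul_assoc, tt]
  have g2 : (m ^ j)⁻¹ * k' * k * ((m ^ j)⁻¹ * k')⁻¹ = k⁻¹ := by
    rw [mul_inv_rev, inv_inv, mul_assoc _ k', mul_assoc, ← mul_assoc (k' * k), ik, ← mul_assoc,
      (ck.pow_left j).inv_inv.eq, inv_mul_cancel_right]
  have gK : (m ^ j)⁻¹ * k' ∈ K := mul_mem (inv_mem (pow_mem mK j)) hk'
  generalize (m ^ j)⁻¹ * k' = g at g1 g2 gK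
  have pm : m ^ (2 * j + 1) ∈ zpowers m := pow_mem (mem_zpowers m) _
  have pK : m ^ (2 * j + 1) ∈ K := pow_mem mK _
  have pk := (ck.pow_left (2 * j + 1)).eq
  have pi := inv_zp t2 mi pm
  generalize m ^ (2 * j + 1) = p at g1 he pK pk pi
  have tp : IsConj t (t * p) := isConj_iff.2 ⟨g, g1⟩
  have p2 : p * p = 1 := by
    rcases two_elt z2 hK hk k2 e p pK pk he with e | e | e | ⟨c, hc, e⟩
    · exact e
    · exact absurd (e ▸ tp) nc
    · refine absurd (tp.trans (isConj_iff.2 ⟨k⁻¹, ?_⟩)) nc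
      rw [inv_inv, conj_inv' t2 i, e]; simp
    · refine absurd (isConj_iff.2 ⟨c⁻¹, ?_⟩) nc
      simpa [e] using conj_inv' t2 (inv_zp t2 pi hc) 1
  have gp : g * p = p * g := by
    rcases hK p pK p2 with rfl | rfl
    · simp
    · exact hc g gK
  -- odd powers of `g`
  have odd : ∀ n : ℕ, g ^ (2 * n + 1) * k * (g ^ (2 * n + 1))⁻¹ = k⁻¹ ∧
      g ^ (2 * n + 1) * t * (g ^ (2 * n + 1))⁻¹ = t * p := by
    have c1 : Commute (g ^ 2) k := by
      have : g * k⁻¹ * g⁻¹ = k := by rw [← conj_inv, g2, inv_inv]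
      refine mul_inv_eq_iff_eq_mul.1 ?_
      calc g ^ 2 * k * (g ^ 2)⁻¹ = g * (g * k * g⁻¹) * g⁻¹ := by rw [pow_two]; group
        _ = k := by rw [g2, this]
    have c2 : Commute (g ^ 2) t := by
      refine mul_inv_eq_iff_eq_mul.1 ?_
      calc g ^ 2 * t * (g ^ 2)⁻¹ = g * (g * t * g⁻¹) * g⁻¹ := by rw [pow_two]; group
        _ = g * (t * p) * g⁻¹ := by rw [g1]
        _ = g * t * g⁻¹ * (g * p * g⁻¹) := by group
        _ = t := by rw [g1, gp, mul_inv_cancel_right, mul_assoc, p2, mul_one]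
    intro n
    rw [pow_succ', pow_mul, mul_inv_rev, mul_assoc g, mul_assoc g _ t, (c1.pow_left n).eq,
      (c2.pow_left n).eq]
    exact ⟨by rw [← g2]; group, by rw [← g1]; group⟩
  obtain ⟨n, e', he'⟩ := ex_odd g
  obtain ⟨f1, f2⟩ := odd n
  have fK : g ^ (2 * n + 1) ∈ K := pow_mem gK _
  generalize g ^ (2 * n + 1) = f at f1 f2 fK he'
  have nf : ¬ Commute f k := fun c => kk (by rw [← f1, c.eq, mul_inv_cancel_right])
  have ff : f * f = z := by
    have c0 : Commute f (f * f) := (Commute.refl f).mul_right (Commute.refl f)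
    rcases two_elt z2 hK hk k2 e' (f * f) (mul_mem fK fK) (by
      have : f * k⁻¹ * f⁻¹ = k := by rw [← conj_inv, f1, inv_inv]
      refine mul_inv_eq_iff_eq_mul.1 ?_
      calc f * f * k * (f * f)⁻¹ = f * (f * k * f⁻¹) * f⁻¹ := by group
        _ = k := by rw [f1, this]) (by rw [(Commute.refl f).mul_pow, he', mul_one])
      with e | e | e | ⟨c, hc', e⟩
    · refine (hK _ (mul_mem fK fK) e).resolve_left fun e => nf ?_
      rcases hK f fK e with rfl | rfl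
      · simp
      · exact (hc k hk).symm
    · exact absurd (e ▸ c0) nf
    · exact absurd (by rw [e] at c0; simpa using c0.inv_right) nf
    · obtain ⟨i, rfl⟩ := mem_zpowers_iff.1 hc'
      exact absurd (e ▸ (c0.zpow_right i).mul_right (c0.zpow_right i)) nf
  have fi : f⁻¹ = z * f := by rw [inv_eq_iff_mul_eq_one, ← mul_assoc, hc f fK, mul_assoc, ff, z2]
  have tf : t * f * t = p * f := by
    rw [mul_inv_eq_iff_eq_mul] at f2
    rw [mul_assoc, f2, mul_assoc, tt]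
  have fk : f * k = k⁻¹ * f := mul_inv_eq_iff_eq_mul.1 f1
  rcases hK p pK p2 with rfl | rfl
  · refine ⟨k * f, mul_mem hk fK, ?_, ?_, ?_⟩
    · rw [mul_assoc, ← mul_assoc f, fk, mul_assoc, ff, mul_inv_cancel_left]
    · rw [mul_inv_rev, mul_assoc k, mul_assoc k, ← mul_assoc (f * k), f1]; group
    · calc t * (k * f) * t = t * k * t * (t * f * t) := by simp [mul_assoc, tt]
        _ = _ := by
          rw [i, tf, one_mul, ← fk, mul_inv_rev, fi, ← hc f fK, ← k2]; group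
  · exact ⟨f, fK, ff, f1, tf.trans fi.symm⟩

theorem jobP1c : JobP1c.{u} := by
  intro G Ω _ _ _ U a b z h hab hz sz m4 ⟨k, hk, k', hk', k2, _, ik⟩ H
  obtain ⟨h0, h1, h2, h3, h4, h5, -, -, h8, -⟩ := ex_h0 h hab hz m4
  replace h5 := h5 sz
  have F : ∀ k ∈ Kh Ω {z}, k * k = z → Fr z (h0 * k) a b := fun k hk k2 =>
    fr_hk h hab hz h1 h2 h3 h5 hk k2
  have nJ : ∀ w, Fr z w a b → ¬ IsConj z w := fun w hw c => by
    obtain ⟨g, rfl⟩ := isConj_iff.1 c
    exact H _ hw (h.slJ g z sz)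
  have S : ∀ k ∈ Kh Ω {z}, k * k = z → ∀ u, u * u = 1 → Sw u a b → u * z = z * u →
      u * k * u = k⁻¹ → ¬ Inn U {z} u → (IsConj z u ↔ ¬ IsConj z (u * k)) :=
    fun k hk k2 u u2 s e i ni => star h hab hz sz m4 h1 h2 h3 h5 hk k2 (H _ (F k hk k2))
      (H _ (fr_mul (F k hk k2))) u2 s e (h8 u u2 s e) i ni
  have hf := F k hk k2
  -- the involution `t`
  obtain ⟨t, t2, ts, tz, tv, tJ⟩ : ∃ t, t * t = 1 ∧ Sw t a b ∧ t * z = z * t ∧
      t * (h0 * k) = h0 * k * t ∧ IsConj z t := by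
    obtain ⟨g0, -, -, -, g4, -, g6, -, -, n, n1, n2, n3⟩ := ex_h0 h hab hf.2.1 m4
    have nn : n * n = 1 := (g4 n n1 n2).trans (g6 (H _ hf)).1
    have nv := lx_comm h.toRg hab hf.2.1.1 n1
    have nz : n * z = z * n := by
      have := n3 z (fr_symm hf)
      rw [inv_eq_of_mul_eq_one_right nn] at this
      nth_rw 1 [← this]
      rw [mul_assoc, iv_sq hz, mul_one]
    by_cases c : IsConj z n
    · exact ⟨n, nn, n2, nz, nv, c⟩
    · refine ⟨n * (h0 * k), ?_, sw_mul n2 hf.2.1.1, ?_, ?_, ?_⟩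
      · rw [mul_assoc, ← mul_assoc (h0 * k), ← nv, mul_assoc, iv_sq hf.2.1, mul_one, nn]
      · rw [mul_assoc, ← hf.2.2.2, ← mul_assoc, nz, mul_assoc]
      · rw [← mul_assoc (h0 * k), ← nv]
      · exact not_not.1 fun c' => c ((star1 h hab hf m4 (H _ hf) (nJ _ (fr_mul hf)) nn n2 nv
          ⟨n, n1, fun _ _ => rfl⟩).2 c')
  have tt : ∀ x, t * (t * x) = x := fun x => by rw [← mul_assoc, t2, one_mul]
  have ni : ¬ Inn U {z} t := fun hi => by
    obtain ⟨l, hl, k1, hk1, rfl⟩ := inn_dec h.toRg hab hz.1 tz hi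
    have l2 := (h4 l hl (sw_of_mul ts (kh_st hz.1 hk1))).trans h5
    have c := kl h.toRg hab hz.1 hk1 hl
    have k12 : k1 * k1 = z := by
      have := t2
      rw [mul_assoc, ← mul_assoc k1, c, mul_assoc, ← mul_assoc, l2] at this
      rw [eq_inv_of_mul_eq_one_right this, iv_inv hz]
    have f1 := F k1 hk1 k12
    obtain ⟨g, -, eg⟩ := lcw h hab hz t2 (iv_sq f1.2.1) tz (by
      rw [← kl h.toRg hab hz.1 hk1 h1, ← c, mul_inv_rev, mul_assoc, inv_mul_cancel_left]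
      exact mul_mem (inv_mem hl) h1) (sw_ne hab ts (one_mem _)) (sw_ne hab ts hz.1)
      (iv_ne f1.2.1) f1.2.2.1.symm
    exact nJ _ f1 (tJ.trans (isConj_iff.2 ⟨g, eg⟩))
  have tk : t * k * t = k⁻¹ := by
    have e1 := h8 t t2 ts tz
    calc t * k * t = (t * h0 * t)⁻¹ * (t * (h0 * k) * t) := by
          simp [mul_assoc, inv_eq_of_mul_eq_one_right t2, tt]
      _ = k⁻¹ := by
          rw [e1, tv, inv_inv, mul_assoc (h0 * k), t2, mul_one, ← mul_assoc, h5, eq_inv_iff_mul_eq_one,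
            mul_assoc, k2, iv_sq hz]
  have n1 := (S k hk k2 t t2 ts tz tk ni).1 tJ
  obtain ⟨g, gK, g2, gk, tg⟩ := ex_k2 (K := Kh Ω {z}) (iv_sq hz) (iv_ne hz)
    (fun g hg => kh_inv h hab hz hg) (fun g hg => kh_comm hg) hk k2 hk' ik t2
    (fun g hg => by simpa [inv_eq_of_mul_eq_one_right t2] using kh_conj' tz hg) tk
    fun c => n1 (tJ.trans c)
  have n2 := (S g gK g2 t t2 ts tz tg ni).1 tJ
  have gk' : g * k = k⁻¹ * g := mul_inv_eq_iff_eq_mul.1 gk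
  have ki : k⁻¹ = k * k * k := by rw [k2, inv_eq_iff_mul_eq_one, ← mul_assoc, kh_comm hk,
    mul_assoc, k2, iv_sq hz]
  have gi : g⁻¹ = z * g := by rw [inv_eq_iff_mul_eq_one, ← mul_assoc, kh_comm gK,
    mul_assoc, g2, iv_sq hz]
  have n3 := (S (k * g) (mul_mem hk gK)
    (by rw [mul_assoc, ← mul_assoc g, gk', mul_assoc, g2, mul_inv_cancel_left]) (t * k)
    (by rw [← mul_assoc, tk, inv_mul_cancel]) (sw_mul ts (kh_st hz.1 hk))
    (by rw [mul_assoc, kh_comm hk, ← mul_assoc, tz, mul_assoc]) ?_ ?_).not.1 n1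
  · refine n2 ((not_not.1 n3).trans (isConj_iff.2 ⟨g⁻¹, ?_⟩))
    rw [inv_inv, mul_assoc t, conj_inv' t2 tg, ← mul_assoc k, k2, ← gi]; simp
  · calc t * k * (k * g) * (t * k) = t * z * g * t * k := by rw [← k2]; group
      _ = z * (t * g * t) * k := by rw [tz]; group
      _ = g * k := by rw [tg, gi, ← mul_assoc z, iv_sq hz, one_mul]
      _ = _ := by
        rw [mul_inv_rev, gi, ← kh_comm gK, mul_assoc, ← k2, mul_inv_cancel_right]
  · rintro ⟨l, hl, e⟩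
    exact ni ⟨l, hl, fun c hc => by rw [← e c hc, mul_smul, (mem_Kh.1 hk).1 c (mem_Fx.1 hc)]⟩

end H34.HkP
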