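import Cfsg.Agent.H82.HPSpec
import Cfsg.Agent.H57.SLGen

/-! HP tower: the model plane of `L₃(F)`, basic calculus with transvections, and job MD. -/

set_option autoImplicit false

namespace H34.Hp

open Cfsg Subgroup H98 H82.HR H82.HP Matrix

variable {F : Type} [Field F] {v v' w w' x α β φ φ' : Fin 3 → F} {g h : SL3 F}

abbrev PS (F : Type) [Field F] := ProjectiveSpecialLinearGroup (Fin 3) F

abbrev pr : SL3 F →* PS F := QuotientGroup.mk' _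

/-- the point `v` -/
abbrev Pv (v : Fin 3 → F) : Subgroup (PS F) := (cP v).map pr

/-- the line `φ` -/
abbrev Lf (φ : Fin 3 → F) : Subgroup (PS F) := (cL φ).map pr

theorem act_add' (g : SL3 F) (x y : Fin 3 → F) : act g (x + y) = act g x + act g y := mulVec_add _ _ _

theorem act_sub (g : SL3 F) (x y : Fin 3 → F) : act g (x - y) = act g x - act g y := mulVec_sub _ _ _

theorem act_smul (g : SL3 F) (c : F) (x : Fin 3 → F) : act g (c • x) = c • act g x :=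
  mulVec_smul _ _ _

theorem act_zero (g : SL3 F) : act g (0 : Fin 3 → F) = 0 := mulVec_zero _

theorem act_inv_act (g : SL3 F) (x : Fin 3 → F) : act g⁻¹ (act g x) = x := by
  rw [← act_mul, inv_mul_cancel, act_one]

theorem act_act_inv (g : SL3 F) (x : Fin 3 → F) : act g (act g⁻¹ x) = x := by
  rw [← act_mul, mul_inv_cancel, act_one]

theorem act_ne (g : SL3 F) (hx : x ≠ 0) : act g x ≠ 0 := fun e =>
  hx (by rw [← act_inv_act g x, e, act_zero])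

theorem act_ext (e : ∀ x, act g x = act h x) : g = h :=
  Subtype.ext (Matrix.toLin'.injective (LinearMap.ext e))

theorem pr_eq : pr g = pr h ↔ ∃ c : F, c ^ 3 = 1 ∧ ∀ x, act g x = c • act h x := by
  rw [eq_comm, QuotientGroup.mk'_apply, QuotientGroup.mk'_apply, QuotientGroup.eq,
    Matrix.SpecialLinearGroup.mem_center_iff]
  refine exists_congr fun c => and_congr (by simp) ⟨fun e x => ?_, fun e => ?_⟩
  · have : act (h⁻¹ * g) x = c • x := by simp [act, ← e]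
    rw [← act_smul, ← this, ← act_mul, mul_inv_cancel_left]
  · refine Matrix.toLin'.injective (LinearMap.ext fun x => ?_)
    change _ = act (h⁻¹ * g) x
    rw [act_mul, e, act_smul, act_inv_act]; simp

theorem eq_of_pr (e : pr g = pr h) (hx : x ≠ 0) (e1 : act g x = act h x) : g = h := by
  obtain ⟨c, -, e⟩ := pr_eq.1 e
  have : c = 1 := smul_left_injective F (act_ne h hx) (by simp [← e, e1])
  exact act_ext (by simpa [this] using e)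

theorem dot_invT (g : SL3 F) (φ x : Fin 3 → F) : act (invT g) φ ⬝ᵥ act g x = φ ⬝ᵥ x := by
  change ((g⁻¹ : SL3 F) : Matrix (Fin 3) (Fin 3) F)ᵀ *ᵥ φ ⬝ᵥ _ = _
  rw [mulVec_transpose, ← dotProduct_mulVec]
  exact congrArg _ (act_inv_act g x)

theorem dot_invT' (g : SL3 F) (φ x : Fin 3 → F) : act (invT g) φ ⬝ᵥ x = φ ⬝ᵥ act g⁻¹ x := by
  rw [← dot_invT g φ, act_act_inv]

open Classical in
/-- the transvection `x ↦ x + φ(x) w` -/
noncomputable def tv (w φ : Fin 3 → F) : SL3 F :=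
  if h : φ ⬝ᵥ w = 0 then ⟨1 + vecMulVec w φ, by
    simp only [dotProduct, Fin.sum_univ_three] at h
    simp [det_fin_three, vecMulVec_apply]
    linear_combination h⟩ else 1

theorem act_tv (h : φ ⬝ᵥ w = 0) (x : Fin 3 → F) : act (tv w φ) x = x + (φ ⬝ᵥ x) • w := by
  simp [tv, h, act, add_mulVec, vecMulVec_mulVec]

theorem dot_ext (e : ∀ x, φ ⬝ᵥ x = φ' ⬝ᵥ x) : φ = φ' := dotProduct_eq _ _ e

theorem invT_invT (g : SL3 F) : invT (invT g) = g :=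
  act_ext fun x => dot_ext fun y => by
    rw [dot_invT', ← map_inv, dotProduct_comm, dot_invT', inv_inv, dotProduct_comm]

theorem dot_comm (h : φ ⬝ᵥ w = 0) : w ⬝ᵥ φ = 0 := (dotProduct_comm _ _).trans h

theorem invT_tv (h : φ ⬝ᵥ w = 0) : invT (tv w φ) = tv φ (-w) := by
  have h' : (-w) ⬝ᵥ φ = 0 := by simp [dot_comm h]
  refine act_ext fun x => dot_ext fun y => ?_
  obtain ⟨y, rfl⟩ : ∃ z, y = act (tv w φ) z := ⟨_, (act_act_inv _ y).symm⟩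
  rw [dot_invT, act_tv h', act_tv h]
  simp [h, dotProduct_comm w x]
  ring

theorem tv_mul_left (h : α ⬝ᵥ v = 0) (h' : β ⬝ᵥ v = 0) : tv v α * tv v β = tv v (α + β) :=
  act_ext fun x => by
    simp [act_mul, act_tv h, act_tv h', act_tv (show (α + β) ⬝ᵥ v = 0 by simp [h, h']), h]
    module

theorem tv_mul_right (h : φ ⬝ᵥ w = 0) (h' : φ ⬝ᵥ w' = 0) : tv w φ * tv w' φ = tv (w + w') φ :=
  act_ext fun x => by
    simp [act_mul, act_tv h, act_tv h', act_tv (show φ ⬝ᵥ (w + w') = 0 by simp [h, h']), h']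
    module

theorem tv_zero_right (v : Fin 3 → F) : tv v 0 = 1 :=
  act_ext fun x => by simp [act_tv (zero_dotProduct v), act_one]

theorem tv_zero_left (φ : Fin 3 → F) : tv 0 φ = 1 :=
  act_ext fun x => by simp [act_tv (dotProduct_zero φ), act_one]

theorem tv_smul (h : φ ⬝ᵥ w = 0) (c : F) : tv (c • w) φ = tv w (c • φ) :=
  act_ext fun x => by
    rw [act_tv (by simp [h]), act_tv (by simp [h])]; simp [smul_smul, mul_comm]

theorem conj_tv (g : SL3 F) (h : φ ⬝ᵥ w = 0) :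
    g * tv w φ * g⁻¹ = tv (act g w) (act (invT g) φ) :=
  act_ext fun x => by
    rw [act_tv (by rw [dot_invT, h]), act_mul, act_mul, act_tv h, act_add, act_act_inv, dot_invT']

theorem tv_inj_right (hv : v ≠ 0) (h : α ⬝ᵥ v = 0) (h' : β ⬝ᵥ v = 0) (e : tv v α = tv v β) :
    α = β := dot_ext fun x => by
  have := congrArg (act · x) e
  simp only [act_tv h, act_tv h', add_right_inj] at this
  exact smul_left_injective F hv this

theorem mem_cP (hv : v ≠ 0) : g ∈ cP v ↔ ∃ α, α ⬝ᵥ v = 0 ∧ g = tv v α := by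
  refine ⟨fun ⟨h1, h2⟩ => ?_, ?_⟩
  · choose c hc using h2
    have e : ∀ x, act g x = x + ((fun i => c (Pi.single i 1)) ⬝ᵥ x) • v := fun x => by
      have : x = x 0 • Pi.single 0 1 + x 1 • Pi.single 1 1 + x 2 • Pi.single 2 1 := by
        ext i; fin_cases i <;> simp
      conv_lhs => rw [this]
      simp only [act_add', act_smul]
      simp only [hc, dotProduct, Fin.sum_univ_three]
      linear_combination (norm := module) -this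
    have e0 : (fun i => c (Pi.single i 1)) ⬝ᵥ v = 0 := by simpa [h1, hv] using e v
    exact ⟨_, e0, act_ext fun x => by rw [e, act_tv e0]⟩
  · rintro ⟨α, h, rfl⟩
    exact ⟨by simp [act_tv h, h], fun x => ⟨_, act_tv h x⟩⟩

theorem mem_cL (hφ : φ ≠ 0) : g ∈ cL φ ↔ ∃ w, φ ⬝ᵥ w = 0 ∧ g = tv w φ := by
  rw [cL, mem_comap, mem_cP hφ]
  refine ⟨fun ⟨α, h, e⟩ => ⟨-α, by simp [dot_comm h], ?_⟩, ?_⟩
  · rw [← invT_invT g, e, invT_tv h, ← neg_one_smul F φ, ← neg_one_smul F α,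
      tv_smul (dotProduct_comm α φ ▸ h)]
  · rintro ⟨w, h, rfl⟩
    exact ⟨-w, by simp [dot_comm h], invT_tv h⟩

theorem mem_Pv (hv : v ≠ 0) {z : PS F} : z ∈ Pv v ↔ ∃ α, α ⬝ᵥ v = 0 ∧ z = pr (tv v α) :=
  ⟨fun ⟨_, hg, e⟩ => let ⟨α, h, e'⟩ := (mem_cP hv).1 hg; ⟨α, h, e' ▸ e.symm⟩,
    fun ⟨α, h, e⟩ => ⟨_, (mem_cP hv).2 ⟨α, h, rfl⟩, e.symm⟩⟩

theorem mem_Lf (hφ : φ ≠ 0) {z : PS F} : z ∈ Lf φ ↔ ∃ w, φ ⬝ᵥ w = 0 ∧ z = pr (tv w φ) :=
  ⟨fun ⟨_, hg, e⟩ => let ⟨α, h, e'⟩ := (mem_cL hφ).1 hg; ⟨α, h, e' ▸ e.symm⟩,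
    fun ⟨α, h, e⟩ => ⟨_, (mem_cL hφ).2 ⟨α, h, rfl⟩, e.symm⟩⟩

theorem par_of_cross (hv : v ≠ 0) (h : v ⨯₃ w = 0) : ∃ c : F, w = c • v := by
  by_contra! H
  exact crossProduct_ne_zero_iff_linearIndependent.2
    ((LinearIndependent.pair_iff' hv).2 fun c => (H c).symm) h

theorem par_cross (hn : v ⨯₃ w ≠ 0) (h : φ ⬝ᵥ v = 0) (h' : φ ⬝ᵥ w = 0) :
    ∃ c : F, φ = c • v ⨯₃ w := par_of_cross hn (by
  rw [← cross_anticomm, cross_cross_eq_smul_sub_smul', h', dotProduct_comm, h]; simp)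

theorem ex_perp (α φ : Fin 3 → F) : ∃ x, x ≠ 0 ∧ α ⬝ᵥ x = 0 ∧ φ ⬝ᵥ x = 0 := by
  have k : ∀ α β : Fin 3 → F, α ⨯₃ β ≠ 0 → ∃ x, x ≠ 0 ∧ α ⬝ᵥ x = 0 ∧ β ⬝ᵥ x = 0 := fun α β h =>
    ⟨_, h, dot_self_cross _ _, dot_cross_self _ _⟩
  have k1 : ∀ α : Fin 3 → F, ∃ x, x ≠ 0 ∧ α ⬝ᵥ x = 0 := fun α => by
    by_cases h : α ⨯₃ ![1, 0, 0] = 0
    · refine ⟨![0, 1, 0], by simp, ?_⟩
      simpa [cross_apply, dotProduct, Fin.sum_univ_three] using congrFun h 2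
    · exact (k _ _ h).imp fun x e => ⟨e.1, e.2.1⟩
  by_cases h : α ⨯₃ φ = 0
  · rcases eq_or_ne α 0 with rfl | h0
    · exact (k1 φ).imp fun x e => ⟨e.1, by simp, e.2⟩
    · obtain ⟨c, rfl⟩ := par_of_cross h0 h
      exact (k1 α).imp fun x e => ⟨e.1, e.2, by simp [e.2]⟩
  · exact k _ _ h

theorem ex_dot (hv : v ≠ 0) : ∃ φ, φ ⬝ᵥ v = 1 := by
  obtain ⟨i, hi⟩ := Function.ne_iff.1 hv
  exact ⟨Pi.single i (v i)⁻¹, by simp [inv_mul_cancel₀ hi]⟩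

theorem pr_tv_inj (h : α ⬝ᵥ v = 0) (h' : φ ⬝ᵥ w = 0) (e : pr (tv v α) = pr (tv w φ)) :
    tv v α = tv w φ := by
  obtain ⟨x, x0, e1, e2⟩ := ex_perp α φ
  exact eq_of_pr e x0 (by simp [act_tv h, act_tv h', e1, e2])

theorem par_of_tv (hv : v ≠ 0) (h : α ⬝ᵥ v = 0) (h' : φ ⬝ᵥ w = 0) (e : tv v α = tv w φ) :
    ∃ c : F, α = c • φ := by
  obtain ⟨ψ, e1⟩ := ex_dot hv
  refine ⟨ψ ⬝ᵥ w, dot_ext fun x => ?_⟩
  have := congrArg (fun g => ψ ⬝ᵥ act g x) e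
  simpa [act_tv h, act_tv h', e1, mul_comm] using this

theorem par_of_tv' (hα : α ≠ 0) (h : α ⬝ᵥ v = 0) (h' : φ ⬝ᵥ w = 0) (e : tv v α = tv w φ) :
    ∃ c : F, v = c • w := by
  obtain ⟨x, e1⟩ := ex_dot hα
  have := congrArg (act · x) e
  simp only [act_tv h, act_tv h', dotProduct_comm α, e1, add_right_inj, one_smul] at this
  exact ⟨_, this⟩

theorem mem_inf (hv : v ≠ 0) (hφ : φ ≠ 0) {z : PS F} :
    z ∈ Pv v ⊓ Lf φ ↔ ∃ c : F, c * (φ ⬝ᵥ v) = 0 ∧ z = pr (tv v (c • φ)) := by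
  rw [Subgroup.mem_inf, mem_Pv hv, mem_Lf hφ]
  constructor
  · rintro ⟨⟨α, h, rfl⟩, w, h', e⟩
    obtain ⟨c, rfl⟩ := par_of_tv hv h h' (pr_tv_inj h h' e)
    exact ⟨c, by simpa using h, rfl⟩
  · rintro ⟨c, h, rfl⟩
    refine ⟨⟨_, by simpa using h, rfl⟩, c • v, by simpa using h, ?_⟩
    rcases mul_eq_zero.1 h with rfl | h
    · simp [tv_zero_left, tv_zero_right]
    · rw [tv_smul h]

theorem pr_tv_ne (hv : v ≠ 0) (hα : α ≠ 0) (h : α ⬝ᵥ v = 0) : pr (tv v α) ≠ 1 := fun e =>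
  hα (tv_inj_right hv h (by simp) (pr_tv_inj h (by simp) (by rw [e, tv_zero_right, map_one])))

theorem inc_iff (hv : v ≠ 0) (hφ : φ ≠ 0) : Inc (Pv v) (Lf φ) ↔ φ ⬝ᵥ v = 0 := by
  rw [Inc, ne_bot_iff_exists_ne_one]
  refine ⟨fun ⟨⟨z, hz⟩, z1⟩ => ?_, fun h => ⟨⟨_, (mem_inf hv hφ).2 ⟨1, by simp [h], rfl⟩⟩,
    fun e => pr_tv_ne hv hφ h (by simpa using e)⟩⟩
  obtain ⟨c, h, rfl⟩ := (mem_inf hv hφ).1 hz
  refine (mul_eq_zero.1 h).resolve_left ?_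
  rintro rfl
  simp [tv_zero_right] at z1

theorem Pv_smul (hv : v ≠ 0) {c : F} (hc : c ≠ 0) : Pv (c • v) = Pv v := by
  ext z
  rw [mem_Pv hv, mem_Pv (smul_ne_zero hc hv)]
  refine ⟨fun ⟨α, h, e⟩ => ?_, fun ⟨α, h, e⟩ => ⟨c⁻¹ • α, by simp [h], ?_⟩⟩
  · have h' : α ⬝ᵥ v = 0 := by simpa [hc] using h
    exact ⟨c • α, by simp [h'], by rw [e, tv_smul h']⟩
  · rw [e, tv_smul (by simp [h]), smul_inv_smul₀ hc]

theorem Lf_smul (hφ : φ ≠ 0) {c : F} (hc : c ≠ 0) : Lf (c • φ) = Lf φ := by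
  ext z
  rw [mem_Lf hφ, mem_Lf (smul_ne_zero hc hφ)]
  refine ⟨fun ⟨w, h, e⟩ => ?_, fun ⟨w, h, e⟩ => ⟨c⁻¹ • w, by simp [h], ?_⟩⟩
  · have h' : φ ⬝ᵥ w = 0 := by simpa [hc] using h
    exact ⟨c • w, by simp [h'], by rw [e, tv_smul h']⟩
  · rw [e, ← tv_smul (by simp [h]), smul_inv_smul₀ hc]

theorem Pv_eq_iff (hv : v ≠ 0) (hw : w ≠ 0) : Pv v = Pv w ↔ ∃ c : F, v = c • w := by
  refine ⟨fun e => ?_, ?_⟩
  · obtain ⟨α, a0, h, -⟩ := ex_perp v v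
    rw [dotProduct_comm] at h
    obtain ⟨β, h', e'⟩ := (mem_Pv hw).1 (e ▸ (mem_Pv hv).2 ⟨α, h, rfl⟩)
    exact par_of_tv' a0 h h' (pr_tv_inj h h' e')
  · rintro ⟨c, rfl⟩
    exact Pv_smul hw (left_ne_zero_of_smul hv)

theorem Lf_eq_iff (hφ : φ ≠ 0) (hφ' : φ' ≠ 0) : Lf φ = Lf φ' ↔ ∃ c : F, φ = c • φ' := by
  refine ⟨fun e => ?_, ?_⟩
  · obtain ⟨w, a0, h, -⟩ := ex_perp φ φ
    obtain ⟨β, h', e'⟩ := (mem_Lf hφ').1 (e ▸ (mem_Lf hφ).2 ⟨w, h, rfl⟩)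
    exact par_of_tv a0 h h' (pr_tv_inj h h' e')
  · rintro ⟨c, rfl⟩
    exact Lf_smul hφ' (left_ne_zero_of_smul hφ)

theorem cj_Pv (hv : v ≠ 0) (g : SL3 F) : cj (pr g) (Pv v) = Pv (act g v) := by
  ext z
  rw [mem_cj, mem_Pv hv, mem_Pv (act_ne g hv)]
  refine ⟨fun ⟨α, h, e⟩ => ⟨act (invT g) α, by rw [dot_invT, h], ?_⟩, fun ⟨α, h, e⟩ =>
    ⟨act (invT g⁻¹) α, by rw [dot_invT', inv_inv, h], ?_⟩⟩
  · rw [← conj_tv g h, map_mul, map_mul, map_inv, ← e]; group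
  · have := conj_tv g⁻¹ h
    rw [act_inv_act] at this
    rw [← this, e]; simp

theorem cj_Lf (hφ : φ ≠ 0) (g : SL3 F) : cj (pr g) (Lf φ) = Lf (act (invT g) φ) := by
  ext z
  rw [mem_cj, mem_Lf hφ, mem_Lf (act_ne _ hφ)]
  refine ⟨fun ⟨w, h, e⟩ => ⟨act g w, by rw [dot_invT, h], ?_⟩, fun ⟨w, h, e⟩ =>
    ⟨act g⁻¹ w, by rw [← dot_invT', h], ?_⟩⟩
  · rw [← conj_tv g h, map_mul, map_mul, map_inv, ← e]; group
  · have := conj_tv g⁻¹ h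
    rw [map_inv, act_inv_act] at this
    rw [← this, e]; simp

theorem mem_nor_Pv (hv : v ≠ 0) : pr g ∈ nor (Pv v) ↔ ∃ c : F, act g v = c • v := by
  rw [← cj_eq_self_iff, cj_Pv hv, Pv_eq_iff (act_ne g hv) hv]

theorem pr_surj (z : PS F) : ∃ g, pr g = z := QuotientGroup.mk'_surjective _ z

theorem invT_center (hg : g ∈ center (SL3 F)) : invT g ∈ center (SL3 F) :=
  mem_center_iff.2 fun h => by rw [← invT_invT h, ← map_mul, ← map_mul, mem_center_iff.1 hg]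

/-- the graph automorphism -/
def sg : PS F →* PS F := QuotientGroup.map _ _ invT fun _ => invT_center

theorem sg_pr (g : SL3 F) : sg (pr g) = pr (invT g) := rfl

theorem sg_sg (z : PS F) : sg (sg z) = z := by
  obtain ⟨g, rfl⟩ := pr_surj z
  rw [sg_pr, sg_pr, invT_invT]

theorem map_sg_Pv (v : Fin 3 → F) : (Pv v).map sg = Lf v := by
  ext z
  constructor
  · rintro ⟨_, ⟨g, hg, rfl⟩, rfl⟩
    exact ⟨invT g, by simpa [cL, invT_invT] using hg, rfl⟩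
  · rintro ⟨g, hg, rfl⟩
    exact ⟨_, ⟨_, hg, rfl⟩, by rw [sg_pr, invT_invT]⟩

theorem map_sg_Lf (v : Fin 3 → F) : (Lf v).map sg = Pv v := by
  rw [← map_sg_Pv, Subgroup.map_map, show (sg : PS F →* PS F).comp sg = MonoidHom.id _ from
    MonoidHom.ext sg_sg, Subgroup.map_id]

theorem jobMD : JobMD := by
  intro F _ _
  refine ⟨H57.psl_isSimpleGroup_of_three_le (by simp),
    sg.toMulEquiv sg (MonoidHom.ext sg_sg) (MonoidHom.ext sg_sg), ?_, ?_⟩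
  · ext E
    constructor
    · rintro ⟨_, ⟨v, hv, rfl⟩, rfl⟩
      exact ⟨v, hv, map_sg_Pv v⟩
    · rintro ⟨v, hv, rfl⟩
      exact ⟨_, ⟨v, hv, rfl⟩, map_sg_Pv v⟩
  · ext E
    constructor
    · rintro ⟨_, ⟨v, hv, rfl⟩, rfl⟩
      exact ⟨v, hv, map_sg_Lf v⟩
    · rintro ⟨v, hv, rfl⟩
      exact ⟨_, ⟨v, hv, rfl⟩, map_sg_Lf v⟩

end H34.Hp
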