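import Cfsg.Agent.H34.HpM
import Cfsg.Agent.H64.LieOrder
import Cfsg.Agent.H46.Prod
import Cfsg.Agent.H51.KLKit

/-! HP tower: job MA. -/

set_option autoImplicit false

namespace H34.Hp

open Cfsg Subgroup H98 H82.HR H82.HP Matrix

variable {F : Type} [Field F] {v w φ : Fin 3 → F}

theorem card_ker [Fintype F] (hv : v ≠ 0) :
    {α : Fin 3 → F | α ⬝ᵥ v = 0}.ncard = Fintype.card F ^ 2 := by
  have h := Module.Dual.finrank_ker_add_one_of_ne_zero (f := dotProductBilin F F v) fun e => by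
    obtain ⟨φ, e1⟩ := ex_dot hv
    simpa [(dotProduct_comm v φ).trans e1] using DFunLike.congr_fun e φ
  have h2 := H51.KL.ncard_sub (LinearMap.ker (dotProductBilin F F v))
  rw [show Module.finrank F (LinearMap.ker (dotProductBilin F F v)) = 2 by simpa using h,
    Nat.card_eq_fintype_card] at h2
  rw [← h2]
  congr 1
  ext α
  simp [dotProduct_comm]

theorem ncard_pts [Fintype F] {S : Set (Fin 3 → F)} (h0 : ∀ v ∈ S, v ≠ 0)
    (hS : ∀ v ∈ S, ∀ c : F, c ≠ 0 → c • v ∈ S) :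
    S.ncard = (Pv '' S).ncard * (Fintype.card F - 1) := by
  rw [← H51.KL.dcount S (Pv '' S) (fun v p => p = Pv v) (m := 1) (fun v hv => by
    rw [Set.ncard_eq_one]
    exact ⟨Pv v, Set.eq_singleton_iff_unique_mem.2 ⟨⟨⟨v, hv, rfl⟩, rfl⟩, fun _ h => h.2⟩⟩), mul_one]
  rintro _ ⟨v, hv, rfl⟩
  have : ({0}ᶜ : Set F).ncard = Fintype.card F - 1 := by
    rw [Set.ncard_compl, Nat.card_eq_fintype_card, Set.ncard_singleton]
  rw [← this]
  refine Eq.symm (Set.ncard_congr (fun c _ => c • v) (fun c hc => ⟨hS v hv c hc,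
    (Pv_smul (h0 v hv) hc).symm⟩) (fun _ _ _ _ e => smul_left_injective F (h0 v hv) e)
    fun w hw => ?_)
  obtain ⟨c, rfl⟩ := (Pv_eq_iff (h0 w hw.1) (h0 v hv)).1 hw.2.symm
  exact ⟨c, left_ne_zero_of_smul (h0 _ hw.1), rfl⟩

theorem card_Pv [Fintype F] (hv : v ≠ 0) : Nat.card (Pv v) = Fintype.card F ^ 2 := by
  rw [← card_ker hv]
  exact (Set.ncard_congr (t := (Pv v : Set (PS F))) (fun α _ => pr (tv v α))
    (fun α h => (mem_Pv hv).2 ⟨α, h, rfl⟩)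
    (fun _ _ h h' e => tv_inj_right hv h h' (pr_tv_inj h h' e)) fun z hz =>
      let ⟨α, h, e⟩ := (mem_Pv hv).1 hz; ⟨α, h, e.symm⟩).symm

theorem card_Lf [Fintype F] (hφ : φ ≠ 0) : Nat.card (Lf φ) = Fintype.card F ^ 2 := by
  rw [← map_sg_Pv, card_map_of_injective (Function.LeftInverse.injective sg_sg), card_Pv hφ]

theorem card_inf [Fintype F] (hv : v ≠ 0) (hφ : φ ≠ 0) (h : φ ⬝ᵥ v = 0) :
    Nat.card ↥(Pv v ⊓ Lf φ) = Fintype.card F := by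
  have k : ∀ c : F, (c • φ) ⬝ᵥ v = 0 := fun c => by simp [h]
  rw [← Nat.card_eq_fintype_card, ← Set.ncard_univ F]
  exact (Set.ncard_congr (t := (Pv v ⊓ Lf φ : Subgroup (PS F))) (fun c _ => pr (tv v (c • φ)))
    (fun c _ => (mem_inf hv hφ).2 ⟨c, by simp [h], rfl⟩)
    (fun c d _ _ e => smul_left_injective F hφ
      (tv_inj_right hv (k c) (k d) (pr_tv_inj (k c) (k d) e))) fun z hz =>
      let ⟨α, _, e⟩ := (mem_inf hv hφ).1 hz; ⟨α, trivial, e.symm⟩).symm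

theorem sq_Pv (h2 : (2 : F) = 0) (hv : v ≠ 0) {z : PS F} (hz : z ∈ Pv v) : z * z = 1 := by
  obtain ⟨α, h, rfl⟩ := (mem_Pv hv).1 hz
  rw [← map_mul, tv_mul_left h h, ← two_smul F, h2, zero_smul, tv_zero_right, map_one]

theorem sq_Lf (h2 : (2 : F) = 0) (hφ : φ ≠ 0) {z : PS F} (hz : z ∈ Lf φ) : z * z = 1 := by
  obtain ⟨α, h, rfl⟩ := (mem_Lf hφ).1 hz
  rw [← map_mul, tv_mul_right h h, ← two_smul F, h2, zero_smul, tv_zero_left, map_one]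

theorem fix_Lf (hv : v ≠ 0) (hφ : φ ≠ 0) (h : φ ⬝ᵥ v = 0) : Lf φ ≤ nor (Pv v) := fun z hz => by
  obtain ⟨w, h', rfl⟩ := (mem_Lf hφ).1 hz
  exact (mem_nor_Pv hv).2 ⟨1, by simp [act_tv h', h]⟩

theorem ncomm (hv : v ≠ 0) (hφ : φ ≠ 0) (h : φ ⬝ᵥ v = 0) {x y : PS F} (hx : x ∈ Pv v)
    (hy : y ∈ Lf φ) (e : x * y = y * x) : x ∈ Lf φ ∨ y ∈ Pv v := by
  obtain ⟨α, h1, rfl⟩ := (mem_Pv hv).1 hx
  obtain ⟨w, h2, rfl⟩ := (mem_Lf hφ).1 hy
  rw [← map_mul, ← map_mul] at e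
  obtain ⟨u, hu⟩ := ex_dot hφ
  have e1 := congrArg (act · u) (eq_of_pr e hv (by simp [act_mul, act_tv h1, act_tv h2, h, h1]))
  rw [dotProduct_comm] at hu
  simp only [act_mul, act_tv h1, act_tv h2, dotProduct_add, dotProduct_smul, hu, h, smul_eq_mul,
    one_smul, mul_zero, add_zero] at e1
  have e2 : α ⬝ᵥ w = 0 := (smul_eq_zero.1 (by linear_combination (norm := module) e1)).resolve_right hv
  by_cases c : v ⨯₃ w = 0
  · obtain ⟨d, rfl⟩ := par_of_cross hv c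
    exact Or.inr ((mem_Pv hv).2 ⟨d • φ, by simp [h], by rw [tv_smul h]⟩)
  · obtain ⟨c1, e3⟩ := par_cross c h1 e2
    obtain ⟨c2, e4⟩ := par_cross c h h2
    have c0 : c2 ≠ 0 := left_ne_zero_of_smul (e4 ▸ hφ)
    refine Or.inl ((mem_Lf hφ).2 ⟨(c1 / c2) • v, by simp [h], ?_⟩)
    rw [tv_smul h, e3, e4, smul_smul, div_mul_cancel₀ _ c0]

theorem jobMA : JobMA := by
  intro F _ _ m m1 hq
  have h2 : (2 : F) = 0 := by
    have := FiniteField.cast_card_eq_zero F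
    rw [hq, Nat.cast_pow] at this
    exact_mod_cast pow_eq_zero_iff (by omega) |>.1 this
  obtain ⟨k, hk⟩ : ∃ k, 2 ^ m = 2 * k + 2 := by
    obtain ⟨m, rfl⟩ : ∃ n, m = n + 1 := ⟨m - 1, by omega⟩
    exact ⟨2 ^ m - 1, by have := Nat.one_le_two_pow (n := m); omega⟩
  rw [← hq] at hk ⊢
  refine ⟨fun _ _ => le_top, ?_, ?_, ?_, ?_, ?_, ?_, ?_, ?_, ?_, ?_, ?_, ?_, ?_, ?_⟩
  · rintro _ ⟨v, hv, rfl⟩ z hz
    exact sq_Pv h2 hv hz
  · rintro _ ⟨v, hv, rfl⟩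
    exact card_Pv hv
  · rintro z - _ ⟨v, hv, rfl⟩
    obtain ⟨g, rfl⟩ := pr_surj z
    exact ⟨_, act_ne g hv, cj_Pv hv g⟩
  · rintro _ ⟨v, hv, rfl⟩ ⟨φ, hφ, e⟩
    have e' : Pv v = Lf φ := e
    have h := (inc_iff hv hφ).1 (by
      rw [Inc, ← e', inf_idem, ← one_lt_card_iff_ne_bot, card_Pv hv, hk]; nlinarith)
    have := card_inf hv hφ h
    rw [← e', inf_idem, card_Pv hv, hk] at this
    nlinarith
  · rintro _ ⟨v, hv, rfl⟩ _ ⟨w, hw, rfl⟩ ne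
    have c : w ⨯₃ v ≠ 0 := fun c => ne ((Pv_eq_iff hv hw).2 (par_of_cross hw c))
    refine ⟨Lf (w ⨯₃ v), ⟨⟨_, c, rfl⟩, (inc_iff hv c).2 (dot_comm (dot_cross_self _ _)),
      (inc_iff hw c).2 (dot_comm (dot_self_cross _ _))⟩, ?_⟩
    rintro _ ⟨⟨φ, hφ, rfl⟩, i1, i2⟩
    exact (Lf_eq_iff hφ c).2 (par_cross c ((inc_iff hw hφ).1 i2) ((inc_iff hv hφ).1 i1))
  · have := ncard_pts (S := ({0}ᶜ : Set (Fin 3 → F))) (fun _ h => h) fun v hv c hc =>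
      smul_ne_zero hc hv
    rw [Set.ncard_compl, Set.ncard_singleton, Nat.card_fun, Nat.card_eq_fintype_card,
      show Pv '' {0}ᶜ = PP F from Set.ext fun _ => exists_congr fun _ => and_congr Iff.rfl eq_comm,
      hk] at this
    refine Nat.eq_of_mul_eq_mul_right (show 0 < 2 * k + 2 - 1 by omega) (this.symm.trans ?_)
    rw [hk, show 2 * k + 2 - 1 = 2 * k + 1 by omega]
    simp only [Nat.card_eq_fintype_card, Fintype.card_fin]
    exact Nat.sub_eq_of_eq_add (by ring)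
  · rintro _ ⟨φ, hφ, rfl⟩
    have := ncard_pts (S := {α : Fin 3 → F | α ⬝ᵥ φ = 0} \ {0}) (fun _ h => h.2) fun v hv c hc =>
      ⟨by simp [show v ⬝ᵥ φ = 0 from hv.1], smul_ne_zero hc hv.2⟩
    rw [Set.ncard_sdiff_singleton_of_mem (by simp), card_ker hφ,
      show Pv '' ({α : Fin 3 → F | α ⬝ᵥ φ = 0} \ {0}) = {p | p ∈ PP F ∧ Inc p (Lf φ)} from Set.ext fun p =>
        ⟨fun ⟨v, hv, e⟩ => e ▸ ⟨⟨v, hv.2, rfl⟩, (inc_iff hv.2 hφ).2 (dot_comm hv.1)⟩,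
          fun ⟨⟨v, hv, e⟩, i⟩ => ⟨v, ⟨dot_comm ((inc_iff hv hφ).1 (by rwa [e] at i)), hv⟩, e.symm⟩⟩,
      hk] at this
    refine Nat.eq_of_mul_eq_mul_right (show 0 < 2 * k + 2 - 1 by omega) (this.symm.trans ?_)
    rw [hk, show 2 * k + 2 - 1 = 2 * k + 1 by omega]
    exact Nat.sub_eq_of_eq_add (by ring)
  · rintro _ ⟨v, hv, rfl⟩ _ ⟨φ, hφ, rfl⟩ i
    exact card_inf hv hφ ((inc_iff hv hφ).1 i)
  · rintro _ ⟨v, hv, rfl⟩ z hz
    obtain ⟨α, h, rfl⟩ := (mem_Pv hv).1 hz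
    rcases eq_or_ne α 0 with rfl | a0
    · obtain ⟨φ, hφ, h', -⟩ := ex_perp v v
      exact ⟨_, ⟨φ, hφ, rfl⟩, (inc_iff hv hφ).2 (dot_comm h'), by simp [tv_zero_right]⟩
    · exact ⟨_, ⟨α, a0, rfl⟩, (inc_iff hv a0).2 h, (mem_Lf a0).2 ⟨v, h, rfl⟩⟩
  · rintro _ ⟨φ, hφ, rfl⟩ _ ⟨v, hv, rfl⟩ i
    exact fix_Lf hv hφ ((inc_iff hv hφ).1 i)
  · rintro _ ⟨φ, hφ, rfl⟩ _ ⟨v, hv, rfl⟩ _ ⟨v', hv', rfl⟩ i i'
    replace i := mt (inc_iff hv hφ).2 i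
    replace i' := mt (inc_iff hv' hφ).2 i'
    have h : φ ⬝ᵥ ((φ ⬝ᵥ v')⁻¹ • v' - (φ ⬝ᵥ v)⁻¹ • v) = 0 := by simp [i, i']
    refine ⟨_, ⟨(mem_Lf hφ).2 ⟨_, h, rfl⟩, (cj_Pv hv _).trans
      ((Pv_eq_iff (act_ne _ hv) hv').2 ⟨φ ⬝ᵥ v / φ ⬝ᵥ v', ?_⟩)⟩, ?_⟩
    · rw [act_tv h]
      match_scalars <;> field_simp
      ring
    · rintro z ⟨hz, e⟩
      obtain ⟨w, h', rfl⟩ := (mem_Lf hφ).1 hz
      obtain ⟨c, e1⟩ := (Pv_eq_iff (act_ne _ hv) hv').1 ((cj_Pv hv _).symm.trans e)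
      rw [act_tv h'] at e1
      have e2 := congrArg (φ ⬝ᵥ ·) e1
      simp only [dotProduct_add, dotProduct_smul, h', smul_eq_mul, mul_zero, add_zero] at e2
      congr 2
      refine smul_right_injective _ i ?_
      simp only [eq_sub_of_add_eq' e1]
      match_scalars <;> field_simp
      exact e2.symm
  · rintro _ ⟨v, hv, rfl⟩ _ ⟨φ, hφ, rfl⟩ i
    replace i := (inc_iff hv hφ).1 i
    have c := H46.card_sup_mul_card_inf (fix_Lf hv hφ i)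
    rw [card_inf hv hφ i, card_Pv hv, card_Lf hφ] at c
    have c1 : Nat.card ↥(Pv v ⊔ Lf φ) = Fintype.card F ^ 3 :=
      Nat.eq_of_mul_eq_mul_right Fintype.card_pos (c.trans (by ring))
    refine isSyl_of_not_dvd_relIndex le_top (.of_card (n := m * 3) (by rw [c1, hq, pow_mul])) ?_
    have o := H64.card_psl (F := F) rfl 1
    simp only [Finset.sum_range_succ, Finset.prod_range_succ, Finset.range_zero, Finset.sum_empty,
      Finset.prod_empty] at o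
    rw [← card_mul_index (Pv v ⊔ Lf φ), c1, mul_left_comm] at o
    rw [relIndex_top_right]
    intro d
    have := (Nat.eq_of_mul_eq_mul_left (pow_pos Fintype.card_pos 3) o) ▸ d.mul_left _
    rw [hk, one_mul, Nat.Prime.dvd_mul Nat.prime_two] at this
    have k1 : ∀ n, ¬ 2 ∣ (2 * k + 2) ^ (n + 1) - 1 := fun n => by
      have : 2 ∣ (2 * k + 2) ^ (n + 1) := dvd_pow (by omega) (by omega)
      have : 0 < (2 * k + 2) ^ (n + 1) := by positivity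
      omega
    exact this.elim (k1 _) (k1 _)
  · rintro _ ⟨v, hv, rfl⟩ _ ⟨φ, hφ, rfl⟩ i z hz z2
    replace i := (inc_iff hv hφ).1 i
    obtain ⟨x, hx, y, hy, rfl⟩ := (mem_sup_right_norm (fix_Lf hv hφ i)).1 hz
    refine (ncomm hv hφ i hx hy ?_).symm.imp (mul_mem hx) fun h => mul_mem h hy
    rw [eq_inv_of_mul_eq_one_left z2, _root_.mul_inv_rev, inv_eq_of_mul_eq_one_right (sq_Pv h2 hv hx),
      inv_eq_of_mul_eq_one_right (sq_Lf h2 hφ hy)]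
  · rintro _ ⟨v, hv, rfl⟩ _ ⟨φ, hφ, rfl⟩ i x hx y hy e
    exact ncomm hv hφ ((inc_iff hv hφ).1 i) hx hy e

end H34.Hp
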