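import Cfsg.Agent.H34.PiKer
import Cfsg.Agent.H41.Columns
import Cfsg.Agent.H41.RealBlock
import Cfsg.Agent.H38.CoverS
import Cfsg.Agent.H40.Zeros
import Cfsg.Agent.H32.Gallagher

/-!
# Isomorphic principal blocks (Alperin, Dade)

If `N` is normal of index prime to `p` and `G = N C_G(P)`, restriction is a bijection between the
principal blocks.
-/

set_option autoImplicit false
set_option linter.unusedSectionVars false

open scoped MonoidAlgebra
open MonoidAlgebra

namespace H34

open Cfsg H28 H35 H36 H39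

variable {M : Ideal AlgInt} [M.IsMaximal] {p : ℕ}

theorem det_ne_zero_of_red {ι : Type*} [Fintype ι] [DecidableEq ι] {A : Matrix ι ι ℂ}
    (hA : ∀ i j, A i j ∈ S M) (h : (A.map (red M)).det ≠ 0) : A.det ≠ 0 := by
  intro h0
  let A' : Matrix ι ι (S M) := fun i j => ⟨A i j, hA i j⟩
  have h1 : A = (S M).subtype.mapMatrix A' := rfl
  have h2 : A.map (red M) = (res M).mapMatrix A' := by
    ext i j
    exact red_of_mem (hA i j)
  rw [h1, ← RingHom.map_det] at h0
  have h3 : A'.det = 0 := Subtype.ext h0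
  rw [h2, ← RingHom.map_det, h3, map_zero] at h
  exact h rfl

theorem eq_zero_of_eq_sum_P {ι : Type*} [Fintype ι] {r : ι → ι → ℂ}
    (hr : ∀ i j, MemLocalIdeal M (r i j)) {w : ι → ℂ} (hw : ∀ i, w i = ∑ j, r i j * w j) :
    w = 0 := by
  classical
  let A : Matrix ι ι ℂ := 1 - Matrix.of r
  have hA : ∀ i j, A i j ∈ S M := fun i j => by
    refine sub_mem ?_ (P_mem_S (hr i j))
    rw [Matrix.one_apply]
    split_ifs
    exacts [one_mem _, zero_mem _]
  have hred : A.map (red M) = 1 := by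
    ext i j
    have h1 : (1 : Matrix ι ι ℂ) i j ∈ S M := by
      rw [Matrix.one_apply]
      split_ifs
      exacts [one_mem _, zero_mem _]
    rw [Matrix.map_apply, show A i j = (1 : Matrix ι ι ℂ) i j - r i j from rfl,
      red_sub h1 (P_mem_S (hr i j)), red_eq_zero_of_P (hr i j), sub_zero, Matrix.one_apply,
      Matrix.one_apply]
    split_ifs <;> simp
  refine Matrix.eq_zero_of_mulVec_eq_zero (det_ne_zero_of_red hA (by rw [hred]; simp)) ?_
  ext i
  rw [Matrix.sub_mulVec, Matrix.one_mulVec, Pi.sub_apply, Pi.zero_apply, sub_eq_zero]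
  exact hw i

theorem eq_zero_of_sub_eq_sum_P {ι : Type*} [Fintype ι] {r : ι → ι → ℂ}
    (hr : ∀ i j, MemLocalIdeal M (r i j)) {w : ι → ℂ} {t : ℂ}
    (hw : ∀ i, w i - t = ∑ j, r i j * w j) {i₀ : ι} (h0 : w i₀ = 0) : t = 0 := by
  classical
  -- `w' i = w i - t` off `i₀`, `w' i₀ = t`
  let w' : ι → ℂ := fun i => if i = i₀ then t else w i - t
  have hww : ∀ j, w j = if j = i₀ then 0 else w' j + w' i₀ := fun j => by
    by_cases hj : j = i₀
    · rw [if_pos hj, hj, h0]
    · simp [w', hj]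
  let s : ι → ι → ℂ := fun i j => if j = i₀ then ∑ k, if k = i₀ then 0 else r i k else r i j
  have hs : ∀ i, ∑ j, r i j * w j = ∑ j, s i j * w' j := fun i => by
    have h1 : ∀ j, s i j * w' j = (if j = i₀ then 0 else r i j * w' j) +
        if j = i₀ then (∑ k, if k = i₀ then 0 else r i k) * w' i₀ else 0 := fun j => by
      by_cases hj : j = i₀
      · simp [s, hj]
      · simp [s, hj]
    simp_rw [h1]
    rw [Finset.sum_add_distrib, Finset.sum_ite_eq' Finset.univ i₀, if_pos (Finset.mem_univ _),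
      Finset.sum_mul, ← Finset.sum_add_distrib]
    refine Finset.sum_congr rfl fun j _ => ?_
    rw [hww j]
    split_ifs <;> ring
  have hsP : ∀ i j, MemLocalIdeal M (s i j) := fun i j => by
    by_cases hj : j = i₀
    · simp only [s, if_pos hj]
      refine P_sum _ _ fun k _ => ?_
      split_ifs
      exacts [P_zero, hr i k]
    · simp only [s, if_neg hj]
      exact hr i j
  have := eq_zero_of_eq_sum_P (M := M) (r := fun i j => if i = i₀ then -s i j else s i j)
    (w := w') (fun i j => by split_ifs; exacts [P_neg (hsP i j), hsP i j]) (fun i => by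
      by_cases hi : i = i₀
      · have := hw i₀
        rw [hs, h0, zero_sub] at this
        simp only [w', hi, if_true, neg_mul, Finset.sum_neg_distrib] at this ⊢
        rw [← this, neg_neg]
      · simp only [if_neg hi, ← hs, ← hw]
        simp [w', hi])
  simpa [w'] using congrFun this i₀

variable {G : Type*} [Group G] [Fintype G] {N : Subgroup G} [hN : N.Normal]

/-- The augmentation. -/
noncomputable abbrev aug (c : ℂ[G]) : ℂ := ev (fun _ => 1) c

theorem aug_mul (a b : ℂ[G]) : aug (a * b) = aug a * aug b := by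
  rw [aug, ev_mul, aug, aug, ev_eq_sum, ev_eq_sum, Finset.sum_mul_sum]
  simp

theorem mul_avg_top (c : ℂ[G]) : c * avg ℂ ⊤ = aug c • avg ℂ ⊤ := by
  refine ga_ext fun g => ?_
  rw [coeff_mul_sum, aug, ev_eq_sum]
  simp only [coeff_smul, Finsupp.smul_apply, smul_eq_mul, mul_one, Finset.sum_mul]
  exact Finset.sum_congr rfl fun h _ => by rw [coeff_avg_congr (h := g) (by simp)]

/-- A coset of `N` as a set. -/
def cos (N : Subgroup G) (x : G ⧸ N) : Set G := {g | (g : G ⧸ N) = x}

theorem supp_mul_cos {x y : G ⧸ N} {a b : ℂ[G]} (ha : Supp (cos N x) a) (hb : Supp (cos N y) b) :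
    Supp (cos N (x * y)) (a * b) := fun g hg => by
  rw [coeff_mul_sum]
  refine Finset.sum_eq_zero fun h _ => ?_
  by_cases h1 : h ∈ cos N x
  · rw [hb _ fun h2 => hg ?_, mul_zero]
    have h3 : ((h : G) : G ⧸ N) = x := h1
    have h4 : ((h⁻¹ * g : G) : G ⧸ N) = y := h2
    show ((g : G) : G ⧸ N) = x * y
    rw [← h3, ← h4, ← QuotientGroup.mk_mul, mul_inv_cancel_left]
  · rw [ha _ h1, zero_mul]

theorem cos_one : cos N 1 = N := Set.ext fun _ => QuotientGroup.eq_one_iff _

theorem inv_tc_cos {c : ℂ[G]} (hc : H36.Inv N c) (x : G ⧸ N) : H36.Inv N (tc (cos N x) c) :=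
  hc.tc fun k hk g hg => by
    have h1 : ((k : G) : G ⧸ N) = 1 := (QuotientGroup.eq_one_iff _).2 hk
    show ((k * g * k⁻¹ : G) : G ⧸ N) = x
    rw [QuotientGroup.mk_mul, QuotientGroup.mk_mul, QuotientGroup.mk_inv, h1, one_mul, _root_.inv_one,
      mul_one]
    exact hg

theorem sum_tc_cos [Fintype (G ⧸ N)] (c : ℂ[G]) : ∑ x, tc (cos N x) c = c := by
  classical
  refine ga_ext fun g => ?_
  rw [coeff_sum_apply, Finset.sum_eq_single (g : G ⧸ N)]
  · exact coeff_tc_of_mem _ rfl
  · exact fun x _ hx => coeff_tc_of_not_mem _ fun h => hx (Eq.symm h)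
  · simp

variable (N) in
/-- The average of the `N`-conjugates of `y`. -/
noncomputable def cav [Fintype N] (y : G) : ℂ[G] :=
  (Nat.card N : ℂ)⁻¹ • ∑ n : N, single (n * y * (n : G)⁻¹) (1 : ℂ)

variable [Fintype N]

theorem aug_cav (y : G) : aug (cav N y) = 1 := by
  simp only [cav, aug, map_smul, map_sum, ev_single, mul_one, Finset.sum_const, Finset.card_univ,
    nsmul_eq_mul, smul_eq_mul, Nat.card_eq_fintype_card]
  exact inv_mul_cancel₀ (Nat.cast_ne_zero.2 Fintype.card_ne_zero)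

theorem inv_cav (y : G) : H36.Inv N (cav N y) := by
  refine inv_iff_cj.2 fun k hk => ?_
  simp only [cav, map_smul, map_sum, cj_single]
  congr 1
  refine Fintype.sum_equiv (Equiv.mulLeft (⟨k, hk⟩ : N)) _ _ fun n => ?_
  simp [mul_assoc]

theorem coeff_cav (y g : G) :
    (cav N y).coeff g = (Nat.card {n : N // n * y * (n : G)⁻¹ = g} : ℂ) / Nat.card N := by
  classical
  simp only [cav, coeff_smul, Finsupp.smul_apply, smul_eq_mul, coeff_sum_apply, coeff_single,
    Finsupp.single_apply]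
  rw [Finset.sum_boole, div_eq_inv_mul, Nat.card_eq_fintype_card (α := {n : N // _}),
    Fintype.card_subtype]

theorem supp_cav (y : G) : Supp (cos N y) (cav N y) := fun g hg => by
  rw [coeff_cav]
  have : IsEmpty {n : N // n * y * (n : G)⁻¹ = g} := ⟨fun ⟨n, hn⟩ => hg (by
    have h1 : ((n : G) : G ⧸ N) = 1 := (QuotientGroup.eq_one_iff _).2 n.2
    show ((g : G) : G ⧸ N) = y
    rw [← hn, QuotientGroup.mk_mul, QuotientGroup.mk_mul, QuotientGroup.mk_inv, h1, one_mul,
      _root_.inv_one, mul_one])⟩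
  simp

theorem intC_cav (hM : IsPModular p M) {y : G}
    (hy : (Nat.card N).factorization p ≤
      (Nat.card ↥(N ⊓ Subgroup.centralizer {y})).factorization p) : IntC M (cav N y) := fun g => by
  rw [coeff_cav]
  by_cases h : ∃ n ∈ N, n * y * n⁻¹ = g
  · rw [H41.card_conj_in h]
    exact (natCast_div_natCast_mem_S_iff hM Nat.card_pos.ne' Nat.card_pos.ne').2 hy
  · have : IsEmpty {n : N // n * y * (n : G)⁻¹ = g} := ⟨fun ⟨n, hn⟩ => h ⟨n, n.2, hn⟩⟩
    simp [zero_mem]

/-- The idempotent of `θ` in `ℂ[G]`. -/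
noncomputable abbrev eN (θ : IrrCharacter N) : ℂ[G] := emb N.subtype (eChi θ.1)

theorem supp_eN (θ : IrrCharacter N) : Supp (N : Set G) (eN θ) := by
  have := supp_emb (φ := N.subtype) (eChi θ.1)
  rwa [Subgroup.range_subtype] at this

theorem exists_mul_eN {θ : IrrCharacter N} (hθ : θ ∈ principalBlock M N) {c : ℂ[G]}
    (hc : H36.Inv N c) (hs : Supp (cos N 1) c) (hi : IntC M c) :
    ∃ l ∈ S M, MemLocalIdeal M (l - aug c) ∧ c * eN θ = l • eN θ := by
  rw [cos_one] at hs
  have hz : H36.pull N.subtype c ∈ Z ℂ N := mem_Z_iff.2 fun g h => by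
    rw [H36.coeff_pull, H36.coeff_pull]
    exact hc h h.2 g
  have he : emb N.subtype (H36.pull N.subtype c) = c :=
    Supp.emb_pull N.subtype_injective (by rwa [Subgroup.range_subtype])
  have hi' : IntC M (H36.pull N.subtype c) := fun g => by rw [H36.coeff_pull]; exact hi _
  refine ⟨omega θ.1 (H36.pull N.subtype c), omega_mem_S θ.2 hz hi', ?_, ?_⟩
  · have := H38.P_omega_sub_of_sameBlock θ.2 isIrrCharacter_one (sameBlock_symm hθ) hz hi'
    rw [omega_apply (fun _ => (1 : ℂ)), div_one] at this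
    rw [aug, ← he, ← H38.push_eq_emb, H38.ev_push, H38.push_eq_emb, he]
    exact this
  · rw [← map_smul, ← mul_eChi hz θ, map_mul, he]

variable (M N) in
/-- A system of `N`-invariant integral elements of augmentation one, one in each coset. -/
structure CosSys (a : G ⧸ N → ℂ[G]) : Prop where
  inv : ∀ x, H36.Inv N (a x)
  supp : ∀ x, Supp (cos N x) (a x)
  int : ∀ x, IntC M (a x)
  aug : ∀ x, aug (a x) = 1

theorem CosSys.exists_mul_eN {a : G ⧸ N → ℂ[G]} (ha : CosSys M N a) {θ : IrrCharacter N}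
    (hθ : θ ∈ principalBlock M N) {c : ℂ[G]} (hc : H36.Inv N c) {x : G ⧸ N}
    (hs : Supp (cos N x) c) (hi : IntC M c) (h0 : H34.aug c = 0) :
    ∃ l, MemLocalIdeal M l ∧ c * eN θ = l • (a x * eN θ) := by
  obtain ⟨w, hwS, hw, hwe⟩ := H34.exists_mul_eN hθ ((ha.inv x⁻¹).mul (ha.inv x))
    (by simpa using supp_mul_cos (ha.supp x⁻¹) (ha.supp x)) ((ha.int _).mul (ha.int _))
  obtain ⟨l, hlS, hl, hle⟩ := H34.exists_mul_eN hθ (hc.mul (ha.inv x⁻¹))
    (by simpa using supp_mul_cos hs (ha.supp x⁻¹)) (hi.mul (ha.int _))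
  rw [aug_mul, ha.aug, ha.aug, one_mul] at hw
  rw [aug_mul, h0, zero_mul, sub_zero] at hl
  have hwP : ¬ MemLocalIdeal M w := fun h => P_not_one (by simpa using P_sub h hw)
  refine ⟨w⁻¹ * l, P_mul_left (inv_mem_S hwS hwP) hl, ?_⟩
  have hcm := ((ha.inv x).commute (supp_eN θ)).eq
  have : w • (c * eN θ) = l • (a x * eN θ) := by
    rw [← mul_smul_comm, ← hwe, hcm, ← smul_mul_assoc, ← hle]
    simp only [mul_assoc, hcm]
  rw [mul_smul, ← this, smul_smul, inv_mul_cancel₀ (ne_zero_of_not_P hwP), one_smul]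

theorem omega_avg {K : Subgroup G} [K.Normal] (χ : IrrCharacter G) [Decidable (K ≤ charKer χ.1)] :
    omega χ.1 (avg ℂ K) = if K ≤ charKer χ.1 then 1 else 0 := by
  classical
  have h1 : omega χ.1 (avg ℂ K) = classInner (fun x : K => χ.1 x) (fun _ => 1) / χ.1 1 := by
    rw [omega_apply, ev_eq_sum, classInner]
    congr 1
    rw [Finset.mul_sum]
    simp only [map_one, mul_one]
    rw [← Finset.sum_subtype (Finset.univ.filter fun x => x ∈ K) (by simp)
      (fun x => (Nat.card K : ℂ)⁻¹ * χ.1 x), Finset.sum_filter]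
    refine Finset.sum_congr rfl fun x _ => ?_
    split_ifs with hx
    · rw [coeff_avg_of_mem hx]
    · rw [coeff_avg_of_not_mem hx, zero_mul]
  rw [h1]
  split_ifs with h
  · rw [classInner_restrict_one_of_le_charKer h, div_self χ.2.apply_one_ne_zero]
  · rw [not_not.1 fun h0 => h (χ.2.le_charKer_of_classInner_ne_zero K h0), zero_div]

theorem avg_mem_Z (K : Subgroup G) [hK : K.Normal] : avg ℂ K ∈ Z ℂ G :=
  mem_Fx_top.1 (avg_mem_Fx le_top (by rw [Nor, Subgroup.normalizer_eq_top_iff.2 hK]))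

theorem fC_mul_avg {B : Set (IrrCharacter G)}
    (hB : ∀ χ, χ ∈ B ∧ N ≤ charKer χ.1 ↔ χ.1 = fun _ => 1) : fC B * avg ℂ N = avg ℂ ⊤ := by
  classical
  refine eq_of_omega (mul_mem (fC_mem_Z B) (avg_mem_Z N)) (avg_mem_Z ⊤) fun χ => ?_
  rw [omega_mul χ.2 (fC_mem_Z B), omega_fC, omega_avg, omega_avg, top_le_iff,
    χ.2.charKer_eq_top_iff, ← hB]
  by_cases h1 : χ ∈ B <;> by_cases h2 : N ≤ charKer χ.1 <;> simp [h1, h2]

theorem aug_tc_cos (c : ℂ[G]) (x : G ⧸ N) : aug (tc (cos N x) (c * avg ℂ N)) =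
    aug (tc (cos N x) c) := by
  classical
  have h1 : ∀ c : ℂ[G], aug (tc (cos N x) c) = ev (fun g => if g ∈ cos N x then 1 else 0) c :=
    fun c => by
      rw [aug, ev_eq_sum, ev_eq_sum]
      exact Finset.sum_congr rfl fun g _ => by rw [coeff_tc]; split_ifs <;> simp
  rw [h1, h1, ev_mul, ev_eq_sum]
  refine Finset.sum_congr rfl fun g _ => ?_
  have h2 : ∀ y, c.coeff g * (avg ℂ N).coeff y * (if g * y ∈ cos N x then (1 : ℂ) else 0) =
      c.coeff g * (if g ∈ cos N x then (1 : ℂ) else 0) * (avg ℂ N).coeff y := fun y => by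
    by_cases hy : y ∈ N
    · have : g * y ∈ cos N x ↔ g ∈ cos N x := by
        show ((g * y : G) : G ⧸ N) = x ↔ ((g : G) : G ⧸ N) = x
        rw [QuotientGroup.mk_mul, (QuotientGroup.eq_one_iff _).2 hy, mul_one]
      simp only [this]
      ring
    · rw [coeff_avg_of_not_mem hy]; simp
  simp_rw [h2]
  have h3 : ∑ y, (avg ℂ N).coeff y = 1 := by
    have := omega_avg (K := N) (⟨_, isIrrCharacter_one⟩ : IrrCharacter G)
    rw [if_pos (by rw [charKer_one]; exact le_top), omega_apply, ev_eq_sum] at this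
    simpa using this
  rw [← Finset.mul_sum, h3, mul_one]

theorem CosSys.exists_rel [Fintype (G ⧸ N)] {a : G ⧸ N → ℂ[G]} (ha : CosSys M N a)
    (hB : ∀ χ, χ ∈ principalBlock M G ∧ N ≤ charKer χ.1 ↔ χ.1 = fun _ => 1)
    {θ : IrrCharacter N} (hθ : θ ∈ principalBlock M N) :
    ∃ r : G ⧸ N → G ⧸ N → ℂ, (∀ x y, MemLocalIdeal M (r x y)) ∧ ∀ χ ∈ principalBlock M G, ∀ x,
      ev χ.1 (a x * eN θ) - ev χ.1 (eN θ) = ∑ y, r x y * ev χ.1 (a y * eN θ) := by
  classical
  have hI := intC_fC (isPBlock_principalBlock (M := M) (G := G))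
  have hZ := fC_mem_Z (principalBlock M G)
  have key : ∀ x y, ∃ l, MemLocalIdeal M l ∧
      tc (cos N y) ((a x - 1) * fC (principalBlock M G)) * eN θ = l • (a y * eN θ) := fun x y => by
    refine ha.exists_mul_eN hθ (inv_tc_cos (((ha.inv x).sub (H36.inv_one N)).mul
      ((mem_Fx_top.2 hZ).1.mono le_top)) y) (supp_tc _ _)
      (intC_tc _ (((ha.int x).sub intC_one).mul hI)) ?_
    have h0 : H34.aug (a x - 1) = 0 := by
      rw [H34.aug, map_sub, ev_one, sub_eq_zero]; exact ha.aug x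
    rw [← aug_tc_cos, mul_assoc, fC_mul_avg hB, mul_avg_top, h0]
    simp
  choose r hr hre using key
  refine ⟨r, hr, fun χ hχ x => ?_⟩
  have h1 := ev_fC_mul (principalBlock M G) χ ((a x - 1) * eN θ)
  rw [if_pos hχ, ← mul_assoc, comm_of_mem_Z hZ, ← sum_tc_cos (N := N) (_ * fC _), Finset.sum_mul,
    map_sum, sub_mul (a x) 1 (eN θ), one_mul, map_sub] at h1
  rw [← h1]
  exact Finset.sum_congr rfl fun y _ => by rw [hre, map_smul, smul_eq_mul]

end H34
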