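/- Transitive action on the nonidentity elements of a normal abelian `p`-subgroup with exactly two
characters over an invariant character of its centralizer. -/
import Cfsg.Agent.H34.K3A
import Cfsg.Agent.H90.Free
import Cfsg.Agent.H27.Zsigmondy
import Cfsg.Agent.H3.AutP

set_option autoImplicit false

namespace H34.K3

open Cfsg H28 H32 H38 Subgroup MulAction

theorem not_sq {k m a b c : ℕ} (hm : m % 4 = 3) (ha : a ≠ 0)
    (h : 2 ^ k * m * (a ^ 2 + b ^ 2) = c ^ 2) : False := by
  have h0 : m ≠ 0 := by omega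
  have h1 : a ^ 2 + b ^ 2 ≠ 0 := by positivity
  obtain ⟨x, y, h2⟩ := (Nat.eq_sq_add_sq_iff (n := m)).2 fun q hq h3 => by
    have hq := Nat.prime_of_mem_primeFactors hq
    have := Fact.mk hq
    have h4 : Even (padicValNat q (a ^ 2 + b ^ 2)) := by
      by_cases h : q ∣ a ^ 2 + b ^ 2
      · exact Nat.eq_sq_add_sq_iff.1 ⟨a, b, rfl⟩ q (Nat.mem_primeFactors.2 ⟨hq, h, h1⟩) h3
      · rw [padicValNat.eq_zero_of_not_dvd h]; exact Even.zero
    have h5 := congrArg (padicValNat q) h
    rw [padicValNat.mul (by positivity) h1, padicValNat.mul (by positivity) h0,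
      padicValNat.pow c, padicValNat.eq_zero_of_not_dvd fun h6 => by
        have := (Nat.prime_dvd_prime_iff_eq hq Nat.prime_two).1 (hq.dvd_of_dvd_pow h6)
        omega] at h5
    exact (Nat.even_add.1 ⟨padicValNat q c, by omega⟩).2 h4
  have h3 : ∀ z : ℕ, z ^ 2 % 4 = 0 ∨ z ^ 2 % 4 = 1 := fun z => by
    have : z % 4 = 0 ∨ z % 4 = 1 ∨ z % 4 = 2 ∨ z % 4 = 3 := by omega
    rcases this with h | h | h | h <;> simp [Nat.pow_mod, h]
  have := h3 x
  have := h3 y
  omega

theorem index_stab {E V : Type*} [Group E] [MulAction E V] [Finite V] {v o : V}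
    (h : ∀ w, w ∈ orbit E v ↔ w ≠ o) : (stabilizer E v).index = Nat.card V - 1 := by
  rw [index_stabilizer, show orbit E v = {o}ᶜ from Set.ext h, Set.ncard_compl, Set.ncard_singleton]

theorem card_eq_two {E : Type*} [Group E] [Finite E] (h : Nat.card (ConjClasses E) = 2) :
    Nat.card E = 2 := by
  obtain ⟨K, hK, hu⟩ := (Nat.card_eq_two_iff' (1 : ConjClasses E)).1 h
  obtain ⟨x, rfl⟩ := ConjClasses.mk_surjective K
  have h1 : ∀ y : E, ConjClasses.mk y ≠ 1 ↔ y ≠ 1 := fun y => not_congr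
    (ConjClasses.mk_eq_mk_iff_isConj.trans isConj_one_left)
  have h2 := index_stab (E := ConjAct E) (v := x) (o := 1) fun w => by
    rw [ConjAct.mem_orbit_conjAct, ← h1, ← ConjClasses.mk_eq_mk_iff_isConj]
    exact ⟨fun h => h ▸ hK, hu _⟩
  have h3 : Nat.card E - 1 ∣ Nat.card E := h2 ▸ index_dvd_card _
  have : Nontrivial E := ⟨⟨x, 1, (h1 x).1 hK⟩⟩
  have h4 : 1 < Nat.card E := Finite.one_lt_card
  obtain ⟨m, hm⟩ : ∃ m, Nat.card E = m + 1 := ⟨_, (Nat.sub_add_cancel h4.le).symm⟩
  rw [hm, Nat.add_sub_cancel, Nat.dvd_add_right dvd_rfl, Nat.dvd_one] at h3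
  omega

theorem extTo_of_cyclic {G Q : Type*} [Group G] [Finite G] [Group Q] (f : G →* Q) {N : Subgroup G}
    [hn : N.Normal] (hN : f.ker = N) {θ : N → ℂ} (hθ : IsIrrCharacter N θ) (hinv : inertia θ = ⊤)
    (U : Subgroup Q) [IsCyclic U] : ExtTo θ (U.comap f) := by
  have h : N ≤ U.comap f := hN ▸ ker_le_comap _ _
  let e := subgroupOfEquivOfLe h
  have hk : (f.subgroupComap U).ker = N.subgroupOf (U.comap f) :=
    Subgroup.ext fun x => by rw [← hN]; exact Subtype.ext_iff
  obtain ⟨χ, hχ, h1⟩ := exists_ext_of_cyclic (N := N.subgroupOf (U.comap f))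
    (isCyclic_of_injective (QuotientGroup.lift _ (f.subgroupComap U) hk.ge)
      ((QuotientGroup.injective_lift_iff _ _ _).2 hk.symm))
    (hθ.comp_surjective e.toMonoidHom e.surjective)
    fun g n => inertia_eq_top_iff.1 hinv g (e n)
  exact ⟨χ, hχ.isCharacter, fun n hn => h1 ⟨⟨n, hn⟩, n.2⟩⟩

theorem core {G : Type*} [Group G] [Finite G] {V : Subgroup G} [V.Normal] {p n : ℕ}
    [hp : Fact p.Prime] (hV : Nat.card V = p ^ n) (hn : n ≠ 0) (hab : V ≤ centralizer V)
    (htr : ∀ v ∈ V, ∀ w ∈ V, v ≠ 1 → w ≠ 1 → IsConj v w) [Fintype (centralizer (V : Set G))]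
    {θ : centralizer (V : Set G) → ℂ} (hθ : IsIrrCharacter _ θ) (hinv : inertia θ = ⊤)
    (h2 : Nat.card {χ : IrrCharacter G //
      classInner (fun n : centralizer (V : Set G) => χ.1 n) θ ≠ 0} = 2)
    {a b c d : ℕ} (ha : a ≠ 0) (h : (p ^ n - 1) * (a ^ 2 + b ^ 2) = c ^ 2)
    (h' : a ^ 2 + b ^ 2 = (centralizer (V : Set G)).index * d ^ 2) : p ^ n = 3 := by
  set E := (MulAut.conjNormal (H := V)).range
  let f := (MulAut.conjNormal (H := V)).rangeRestrict
  have hf : Function.Surjective f := MonoidHom.rangeRestrict_surjective _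
  have hk : f.ker = centralizer V := Subgroup.ext fun g => by
    rw [MonoidHom.ker_rangeRestrict, MonoidHom.mem_ker, mem_centralizer_iff]
    exact ⟨fun h v hv => (mul_inv_eq_iff_eq_mul.1
      (congrArg (fun φ : MulAut V => (φ ⟨v, hv⟩ : G)) h)).symm, fun h => MulEquiv.ext fun v =>
        Subtype.ext (mul_inv_eq_iff_eq_mul.2 (h v v.2).symm)⟩
  have hE : (centralizer (V : Set G)).index = Nat.card E := by
    rw [← hk, index_ker, MonoidHom.range_eq_top.2 hf, card_top]
  have h1 : 1 < p ^ n := Nat.one_lt_pow hn hp.out.one_lt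
  have : Nontrivial V := Finite.one_lt_card_iff_nontrivial.1 (hV ▸ h1)
  have ho : ∀ v : V, v ≠ 1 → (stabilizer E v).index = p ^ n - 1 := fun v hv => hV ▸
    index_stab (o := 1) fun w => ⟨by rintro ⟨g, rfl⟩; exact mt (map_eq_one_iff _ g.1.injective).1 hv, fun hw => by
      obtain ⟨g, hg⟩ := isConj_iff.1 (htr _ v.2 _ w.2 (fun h => hv (Subtype.ext h))
        fun h => hw (Subtype.ext h))
      exact ⟨f g, Subtype.ext hg⟩⟩
  obtain ⟨v, hv⟩ := exists_ne (1 : V)
  have hfr : (∀ v : V, v ≠ 1 → stabilizer E v = ⊥) → p ^ n = 3 := fun H => by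
    have hF : H90.Free E := H90.Free.of_fpf E.subtype fun g hg k hk =>
      by_contra fun h0 => hg ((H k h0).le hk)
    rw [card_over_eq_card_good f hf hk hθ hinv, Nat.card_congr (Equiv.subtypeUnivEquiv fun K => by
      obtain ⟨q, rfl⟩ := ConjClasses.mk_surjective K
      refine ⟨q, rfl, fun y hy => ?_⟩
      have : IsMulCommutative (closure {y, q}) := isMulCommutative_closure (by
        rintro _ (rfl | rfl) _ (rfl | rfl) <;> simp [hy.eq])
      have := hF.isCyclic_subgroup (closure {y, q})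
      exact extTo_of_cyclic f hk hθ hinv _)] at h2
    have := ho v hv
    rw [H v hv, index_bot, card_eq_two h2] at this
    omega
  by_cases hn1 : n = 1
  · refine hfr fun v hv => eq_bot_iff.2 fun g hg => Subtype.ext (MulEquiv.ext fun w => ?_)
    obtain ⟨k, rfl⟩ := mem_zpowers_of_prime_card (hV.trans (by rw [hn1, pow_one])) hv (g' := w)
    exact (map_zpow _ v k).trans (congrArg (· ^ k) hg)
  by_cases h6 : p = 2 ∧ n = 6
  · obtain ⟨rfl, rfl⟩ := h6
    exact (not_sq (k := 0) (m := 63) rfl ha h).elim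
  by_cases h9 : n = 2 ∧ ∃ m, p + 1 = 2 ^ m
  · obtain ⟨rfl, m, hm⟩ := h9
    have := hp.out.two_le
    obtain _ | _ | _ | m := m
    · omega
    · omega
    · obtain rfl : p = 3 := by omega
      obtain ⟨u, hu⟩ := exists_prime_orderOf_dvd_card' (G := V) 3 (by rw [hV]; norm_num)
      have h3 := H3.card_mulAut_of_elementary (fun x y : V => Subtype.ext (hab y.2 x x.2))
        (fun x => by
          by_cases hx : x = 1
          · rw [hx, one_pow]
          obtain ⟨g, hg⟩ := isConj_iff.1 (htr _ u.2 _ x.2 (fun h => by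
            rw [show u = 1 from Subtype.ext h, orderOf_one] at hu; omega) fun h => hx (Subtype.ext h))
          refine Subtype.ext ?_
          rw [coe_pow, ← hg, conj_pow, ← coe_pow, ← hu, pow_orderOf_eq_one]
          simp) hV
      refine hfr fun v hv => card_eq_one.1 ?_
      have h4 := E.card_subgroup_dvd_card
      rw [h', hE, ← (stabilizer E v).card_mul_index, ho v hv] at h
      rw [h3, ← (stabilizer E v).card_mul_index, ho v hv] at h4
      have h5 : Nat.card (stabilizer E v) ∣ 6 := (Nat.mul_dvd_mul_iff_right (c := 8) (by norm_num)).1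
        (by simpa [Finset.prod_range_succ] using h4)
      have hd : d ≠ 0 := by rintro rfl; simp [ha] at h'
      have h7 : IsSquare (Nat.card (stabilizer E v)) := by
        rw [← Rat.isSquare_natCast_iff]
        refine ⟨c / (8 * d), ?_⟩
        have := congrArg (Nat.cast (R := ℚ)) h
        push_cast at this
        field_simp
        linear_combination this
      obtain ⟨s, h7⟩ := h7
      rw [h7] at h5 ⊢
      have : s ≤ 2 := by nlinarith [Nat.le_of_dvd (by norm_num) h5]
      interval_cases s <;> omega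
    · refine (not_sq (k := m + 4) (m := 2 ^ (m + 2) - 1) (by rw [pow_add]; omega) ha
        ((congrArg (· * _) ?_).trans h)).elim
      obtain rfl : p = 2 ^ (m + 3) - 1 := Nat.eq_sub_of_add_eq hm
      obtain ⟨x, hx⟩ : ∃ x, 2 ^ m = x + 1 := ⟨_, (Nat.sub_add_cancel Nat.one_le_two_pow).symm⟩
      simp only [pow_add, hx]
      rw [show (x + 1) * 2 ^ 2 - 1 = 4 * x + 3 by omega,
        show (x + 1) * 2 ^ 3 - 1 = 8 * x + 7 by omega]
      exact Nat.eq_sub_of_add_eq (by ring)
  obtain ⟨r, hr, h3, h4⟩ := H27.zsigmondy p n hp.out.one_lt (by omega) h6 h9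
  have := Fact.mk hr
  have h5 : ¬ r ∣ p := fun h => hr.not_dvd_one ((Nat.dvd_sub_iff_right h1.le
    (dvd_pow h hn)).1 h3)
  have hr2 : r ≠ 2 := by
    rintro rfl
    exact h4 1 one_pos (by omega) (by rw [pow_one]; omega)
  obtain ⟨R⟩ : Nonempty (Sylow r E) := inferInstance
  have hR : H90.Free R := H90.Free.of_fpf (E.subtype.comp (Subgroup.subtype _)) fun g hg w hw => by
    let F := FixedPoints.subgroup (zpowers g.1) V
    obtain ⟨k, h7, h8⟩ := (Nat.dvd_prime_pow hp.out).1 (hV ▸ F.card_subgroup_dvd_card)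
    have h10 := (R.isPGroup'.to_le ((zpowers_le).2 g.2)).card_modEq_card_fixedPoints V
    change _ ≡ Nat.card F [MOD r] at h10
    obtain rfl | h11 := h7.eq_or_lt
    · exact (hg (Subtype.ext (Subtype.ext (MulEquiv.ext fun x => (eq_top_of_card_eq F
        (h8.trans hV.symm)).ge (mem_top x) ⟨_, mem_zpowers _⟩)))).elim
    rw [hV, h8] at h10
    have h12 := (Nat.modEq_iff_dvd' (Nat.pow_le_pow_right hp.out.pos h7)).1 h10.symm
    rw [← Nat.add_sub_cancel' h7, pow_add, ← Nat.mul_sub_one] at h12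
    have h13 := ((hr.dvd_mul.1 h12).resolve_left fun h => h5 (hr.dvd_of_dvd_pow h))
    obtain rfl : k = 0 := by_contra fun h => h4 _ (by omega) (by omega) h13
    refine (card_eq_one.1 h8).le (x := w) fun x => ?_
    exact (zpowers_le (H := stabilizer E w)).2 hw x.2
  have := (hR.isCyclic_or_quaternion R.isPGroup').resolve_right fun h => hr2 h.1
  have := three_le_over f hf hk hθ hinv hr2 R (h3.trans (ho v hv ▸ index_dvd_card _))
  omega

end H34.K3
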