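/- Blocks with three characters and a normal defect group. -/
import Cfsg.Agent.H34.K3B
import Cfsg.Agent.H34.EqDeg
import Cfsg.Agent.H38.Fong
import Cfsg.Agent.H38.Reyn
import Cfsg.Agent.H38.Harada
import Cfsg.Agent.H38.PrinCov
import Cfsg.Agent.H38.Quot

set_option autoImplicit false

open scoped ComplexConjugate

namespace H34.K3

open Cfsg H28 H32 H33 H35 H38 H39 Subgroup
open H36 hiding pull coeff_pull

universe u

variable {p : ℕ} {M : Ideal AlgInt} [M.IsMaximal]

theorem rank_one {G : Type*} [Group G] [Fintype G] (hM : IsPModular p M) {P : Subgroup G}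
    [P.Normal] (hP : IsPGroup p P) {B : Set (IrrCharacter G)} (hB : IsPBlock M B)
    {φ : IrrCharacter G} (h : ∀ χ ∈ B, P ≤ charKer χ.1 → χ = φ) : blockRank p B = 1 := by
  classical
  have := Fact.mk hM.1
  have := Fintype.ofFinite P
  let n : G → ℕ := fun g => (Finset.univ.filter fun v : P => IsPRegular p (v * g : G)).card
  refine blockRank_eq_one_of_smul hM.1 (block_nonempty hB)
    (φ := fun g => if IsPRegular p g then (Nat.card P : ℂ) / n g * φ.1 g else 0) fun ψ hψ =>
    ⟨if φ ∈ B ∧ P ≤ charKer φ.1 then classInner (pRegularPart p ψ.1) φ.1 else 0, funext fun g => ?_⟩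
  by_cases hg : IsPRegular p g
  swap
  · simp [pRegularPart, hg]
  have h1 := H41.blockPart_pReg_comm_of_coeff_mem hM (intC_fC hB) ψ.1
  rw [H41.blockPart_irr_of_mem hψ] at h1
  have h2 : ∑ v : P, pRegularPart p ψ.1 (v * g) = n g * ψ.1 g := by
    simp only [pRegularPart, ← Finset.sum_filter]
    rw [Finset.sum_congr rfl (g := fun _ => ψ.1 g) fun v hv => by
      obtain ⟨x, -, hx⟩ := exists_conj_of_pReg hP hg (Finset.mem_filter.1 hv).2
        (by simpa [mul_assoc] using ‹P.Normal›.conj_mem _ v.2 g⁻¹)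
      rw [← hx, ψ.2.isClassFunction], Finset.sum_const, nsmul_eq_mul]
  have h3 : (n g : ℂ) ≠ 0 := Nat.cast_ne_zero.2 (Finset.card_ne_zero.2 ⟨1, by simpa using hg⟩)
  rw [← h1] at h2
  simp only [H41.blockPart_apply] at h2
  rw [Finset.sum_comm, Finset.sum_eq_single φ (fun χ _ hχ => by
    by_cases hc : χ ∈ B
    · simp only [hc, if_true, ← Finset.mul_sum]
      rw [sum_coset_eq_zero χ.2 (mt (h χ hc) hχ), mul_zero]
    · simp [hc]) (by simp)] at h2
  simp only [Pi.smul_apply, smul_eq_mul, pRegularPart, hg, if_true] at h2 ⊢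
  refine mul_left_cancel₀ h3 ?_
  rw [← h2]
  by_cases hc : φ ∈ B
  · by_cases hk : P ≤ charKer φ.1
    · simp only [hc, hk, and_self, if_true]
      rw [Finset.sum_congr rfl fun v _ => by rw [apply_mul_of_mem_charKer (hk v.2)],
        Finset.sum_const, Finset.card_univ, ← Nat.card_eq_fintype_card, nsmul_eq_mul]
      field_simp
    · simp only [hc, hk, if_true, ← Finset.mul_sum]
      simp [sum_coset_eq_zero φ.2 hk]
  · simp [hc]

theorem normal_ab (hM : IsPModular p M) (n : ℕ) : ∀ {G : Type u} [Group G] [Finite G]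
    {B : Set (IrrCharacter G)} {V : Subgroup G} [V.Normal], IsPBlock M B → IsDefectGroup p M B V →
    V ≤ Cen V → Nat.card B = 3 → Nat.card G = n → Nat.card V = 3 := by
  classical
  induction n using Nat.strong_induction_on with | _ n ih => ?_
  intro G _ _ B V _ hB hD hab hk hn
  have := Fact.mk hM.1
  have := charP_F hM
  have := Fintype.ofFinite G
  have := Fintype.ofFinite (Cen V)
  have := Fintype.ofFinite V
  have hN : ∀ y, y ∈ Nor V := fun y => nor_of_normal V ⊤ trivial
  obtain ⟨e, he, hi, hc⟩ | ⟨T, B', hT, hT', h⟩ := fr_cases (Cen V) hM hB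
  swap
  · obtain ⟨D, hD'⟩ := exists_isDefectGroup p h.ind.1
    obtain ⟨y, hy⟩ := isDefectGroup_exists_conj hM hB hD (h.defect D hD')
    rw [show V.map (MulAut.conj y).toMonoidHom = V from cS_eq_of_mem_nor (hN y)] at hy
    obtain rfl : D = V.subgroupOf T := by
      rw [hy]; exact (comap_map_eq_self_of_injective T.subtype_injective D).symm
    obtain ⟨σ, -⟩ := h.exists_equiv
    rw [← Nat.card_congr (subgroupOfEquivOfLe (hab.trans hT)).toEquiv]
    exact ih _ (hn ▸ (card_le_card_group T).lt_of_ne (mt (eq_top_of_card_eq T) hT')) h.ind.1 hD'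
      (fun x hx y hy => Subtype.ext (hab hx y hy)) ((Nat.card_congr σ).trans hk) rfl
  have hV := card_defectGroup hM hB hD
  by_cases hl : blockRank p B = 1
  · rw [hV, ← card_eq_pow_of_le_four hM hB hl (by omega), hk]
  have hP := (isDefectGroup_iff hM hB).1 hD
  obtain ⟨Q, hQ⟩ := (H38.blk_eS he).exists_isDef p le_rfl
  obtain ⟨P', hP', hPQ⟩ := knorr le_top (nor_of_normal _ ⊤) (H38.blk_eB hB) (H38.blk_eS he)
    ((covers_iff_eS hB he).1 hc) hQ
  obtain ⟨k, -, rfl⟩ := hP.exists_conj hP'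
  rw [H37.map_conj_eq_iff_mem_normalizer.2 (hN k), inf_eq_left.2 hab] at hPQ
  subst hPQ
  have hD' := (isDefectGroup_subgroupOf_iff hM he hab).2 hQ
  have hp' : IsPGroup p (V.subgroupOf (Cen V)) :=
    hP.isPGroup.of_equiv (subgroupOfEquivOfLe hab).symm
  obtain ⟨θ, hθ, hθk⟩ := exists_mem_le_charKer hM (V.subgroupOf (Cen V)) hp' he
  have hu : ∀ η ∈ e, (∀ v : Cen V, v.1 ∈ V → η.1 v = η.1 1) → η = θ := fun η hη h =>
    (H41.pcq_of_le_center hp' fun x hx => mem_center_iff.2 fun y => Subtype.ext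
      (y.2 x hx).symm).eq_of_ker_le hM he (by rwa [QuotientGroup.ker_mk']) hη hθ
      (by rw [QuotientGroup.ker_mk']; exact fun v hv => η.2.mem_charKer.2 (h v hv))
      (by rwa [QuotientGroup.ker_mk'])
  have hinv : inertia θ.1 = ⊤ := eq_top_iff.2 fun g _ => congrArg Subtype.val
    (hu _ (hi g θ hθ) fun v hv => (θ.2.mem_charKer.1 (hθk (‹V.Normal›.conj_mem _ hv g))).trans
      ((NEmb.ofNormal _).cjI_apply_one g θ).symm)
  have h1 : ∀ χ : IrrCharacter G, Over (Cen V).subtype χ.1 θ.1 ↔ χ ∈ B ∧ V ≤ charKer χ.1 :=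
    fun χ => ⟨fun h => ⟨(Covers.unique_of_cen_le hM he hQ le_rfl ⟨χ, rfl⟩ hB
      ⟨χ, self_mem_blockOf χ, θ, hθ, h⟩ hc) ▸ self_mem_blockOf χ, fun v hv => by
        have h2 := clifford_of_invariant χ.2 θ.2 hinv h
        rw [χ.2.mem_charKer, show χ.1 v = _ from congrFun h2 ⟨v, hab hv⟩,
          show χ.1 1 = _ from congrFun h2 1, Pi.smul_apply, Pi.smul_apply,
          θ.2.mem_charKer.1 (hθk hv)]⟩, fun ⟨h, h'⟩ => by
      obtain ⟨η, hη, h2⟩ := Covers.exists_under (E := NEmb.ofNormal _) hB (bcl_of_isPBlock he) hc h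
      exact hu η hη (fun v hv => η.2.mem_charKer.1 ((χ.2.isCharacter.restrict _).charKer_le_of_constituent
        η.2 h2 ((χ.2.isCharacter.restrict _).mem_charKer.2 (χ.2.mem_charKer.1 (h' hv))))) ▸ h2⟩
  have h0 : blockDefect p B ≠ 0 := fun h => by
    have := (defect_zero_iff_card_eq_one hM hB).1 h; omega
  have h2 : 1 < Nat.card V := hV ▸ Nat.one_lt_pow h0 hM.1.one_lt
  have hpp : ∀ v ∈ V, IsPPart p v v := fun v hv => H41.isPPart_self hM.1
    ((IsPGroup.iff_orderOf.1 hP.isPGroup ⟨v, hv⟩).imp fun _ h => (orderOf_coe _).trans h)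
  have h3 : ∀ v ∈ V, ∀ w ∈ V, ¬ IsConj v w → ∑ χ ∈ bF B, χ.1 v * conj (χ.1 w) = 0 :=
    fun v hv w hw h => by
      rw [← H41.bker_eq_zero_of_coeff_mem hM (intC_fC hB) (hpp v hv) (hpp w hw) h,
        H41.bker_eq_sum, bF, Finset.sum_filter]
  obtain ⟨φ, hφ⟩ := exists_over (Cen V).subtype_injective θ
  obtain ⟨ψ, hψ, hφψ⟩ : ∃ ψ : IrrCharacter G, Over (Cen V).subtype ψ.1 θ.1 ∧ ψ ≠ φ := by
    by_contra! H
    exact hl (rank_one hM hP.isPGroup hB fun χ h h' => H χ ((h1 χ).2 ⟨h, h'⟩))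
  obtain ⟨χ, hχ, hB'⟩ : ∃ χ, χ ∉ ({φ, ψ} : Finset _) ∧ bF B = insert χ {φ, ψ} := by
    have h4 : {φ, ψ} ⊆ bF B := by simp [Finset.insert_subset_iff, ((h1 _).1 hφ).1, ((h1 _).1 hψ).1]
    obtain ⟨χ, h⟩ := Finset.card_eq_one.1 (show (bF B \ {φ, ψ}).card = 1 by
      rw [Finset.card_sdiff_of_subset h4, card_bF, hk, Finset.card_pair hφψ.symm])
    exact ⟨χ, (Finset.mem_sdiff.1 (h ▸ Finset.mem_singleton_self χ)).2,
      by rw [← Finset.sdiff_union_of_subset h4, h, ← Finset.insert_eq]⟩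
  have ha := φ.2.cast_charDegree
  have hb := ψ.2.cast_charDegree
  have hc := χ.2.cast_charDegree
  have ha0 := φ.2.charDegree_pos
  have hc0 := χ.2.charDegree_pos
  set a := charDegree φ.1
  set b := charDegree ψ.1
  set c := charDegree χ.1
  have h4 : ∀ v ∈ V, ∀ w ∈ V, ¬ IsConj v w → χ.1 v * conj (χ.1 w) + (a ^ 2 + b ^ 2) = 0 :=
    fun v hv w hw h => by
      have := h3 v hv w hw h
      rw [hB', Finset.sum_insert hχ, Finset.sum_pair hφψ.symm] at this
      simpa [apply_of_mem_charKer (((h1 _).1 hφ).2 _), apply_of_mem_charKer (((h1 _).1 hψ).2 _),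
        hv, hw, ← ha, ← hb, sq] using this
  have h5 : ∀ v ∈ V, v ≠ 1 → χ.1 v * c + (a ^ 2 + b ^ 2) = 0 := fun v hv h => by
    simpa [← hc] using h4 v hv 1 (one_mem _) (mt isConj_one_left.1 h)
  have h6 : ¬ V ≤ charKer χ.1 := fun h => by
    have := Finite.one_lt_card_iff_nontrivial.1 h2
    obtain ⟨v, hv⟩ := exists_ne (1 : V)
    have := h5 v v.2 fun h => hv (Subtype.ext h)
    rw [apply_of_mem_charKer (h v.2), ← hc] at this
    norm_cast at this
    exact absurd this (by positivity)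
  have h7 : ∀ η : IrrCharacter G, Over (Cen V).subtype η.1 θ.1 ↔ η ∈ ({φ, ψ} : Finset _) := fun η =>
    ⟨fun h => (Finset.mem_insert.1 (hB' ▸ mem_bF.2 ((h1 η).1 h).1)).resolve_left
      fun h' : η = χ => h6 (h' ▸ ((h1 η).1 h).2), by
        simp only [Finset.mem_insert, Finset.mem_singleton]; rintro (rfl | rfl) <;> assumption⟩
  refine hV.trans (core hV h0 hab (fun v hv w hw h h' => by_contra fun H => ?_) θ.2 hinv
    ((Nat.subtype_card _ fun η => (h7 η).symm).trans (Finset.card_pair hφψ.symm))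
    (b := b) (c := c) (d := charDegree θ.1) ha0.ne' ?_ ?_)
  · have h8 := congrArg conj (h5 w hw h')
    simp only [map_add, map_mul, map_pow, map_natCast, map_zero] at h8
    have h9 : ((a ^ 2 + b ^ 2) * (c ^ 2 + (a ^ 2 + b ^ 2)) : ℂ) = 0 := by
      linear_combination c ^ 2 * h4 v hv w hw H - conj (χ.1 w) * c * h5 v hv h +
        (a ^ 2 + b ^ 2) * h8
    norm_cast at h9
    exact absurd h9 (by positivity)
  · have h8 := sum_coset_eq_zero χ.2 h6 1
    rw [← Finset.add_sum_erase _ _ (Finset.mem_univ 1)] at h8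
    have h9 := congrArg (· * (c : ℂ)) h8
    simp only [mul_one, add_mul, Finset.sum_mul, zero_mul, OneMemClass.coe_one, ← hc] at h9
    rw [Finset.sum_congr rfl fun (v : V) hv => eq_neg_of_add_eq_zero_left
      (h5 v v.2 fun h => Finset.ne_of_mem_erase hv (Subtype.ext h)), Finset.sum_const,
      Finset.card_erase_of_mem (Finset.mem_univ _), Finset.card_univ, ← Nat.card_eq_fintype_card,
      hV, nsmul_eq_mul] at h9
    refine Nat.cast_injective (R := ℂ) ?_
    rw [Nat.cast_mul]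
    push_cast at h9 ⊢
    linear_combination -h9
  · have h8 := (indFun_isClassFunction (Cen V) θ.1).apply_eq_sum_irr 1
    have h9 : ∀ η : IrrCharacter G, classInner (indFun (Cen V) θ.1) η.1 =
        classInner (fun x : Cen V => η.1 x) θ.1 := fun η => by
      obtain ⟨m, hm⟩ := (η.2.isCharacter.restrict (Cen V)).classInner_nat θ.2.isCharacter
      rw [classInner_indFun_left _ _ η.2.isClassFunction, classInner_comm_of_nat hm, hm]
    have h10 := clifford_degree φ.2 θ.2 hφ
    have h11 := clifford_degree ψ.2 θ.2 hψ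
    rw [hinv, index_top] at h10 h11
    rw [← Finset.sum_subset (Finset.subset_univ {φ, ψ}) fun η _ h => by
      exact mul_eq_zero_of_left ((h9 η).trans (of_not_not (mt (h7 η).1 h))) _, Finset.sum_pair hφψ.symm, h9, h9,
      indFun_apply_one] at h8
    refine Nat.cast_injective (R := ℂ) ?_
    push_cast
    rw [θ.2.cast_charDegree, ha, hb]
    linear_combination φ.1 1 * h10 + ψ.1 1 * h11 - θ.1 1 * h8

theorem normal_le (hM : IsPModular p M) {G : Type u} [Group G] [Finite G]
    {B : Set (IrrCharacter G)} {D : Subgroup G} [D.Normal] (hB : IsPBlock M B)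
    (hD : IsDefectGroup p M B D) (h1 : Nat.card D ≠ 1) (h2 : Nat.card D ≠ 2)
    (hk : Nat.card {χ : IrrCharacter G // χ ∈ B ∧ blockHeight p B χ.1 = 0} ≤ 3) :
    Nat.card D = 3 := by
  have := Fact.mk hM.1
  have := charP_F hM
  have := Fintype.ofFinite G
  have := Fintype.ofFinite (G ⧸ ⁅D, D⁆)
  have hP := ((isDefectGroup_iff hM hB).1 hD).isPGroup
  let π := QuotientGroup.mk' ⁅D, D⁆
  have hπ := QuotientGroup.mk'_surjective ⁅D, D⁆
  have hkD : π.ker ≤ D := (QuotientGroup.ker_mk' _).le.trans (commutator_le_left D D)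
  obtain ⟨b, hb, h3, h4⟩ := exists_dominated_isDefectGroup hM hπ (hP.to_le hkD) hB hD
  have : (D.map π).Normal := Normal.map ‹_› π hπ
  have hab : D.map π ≤ Cen (D.map π) := by
    rintro _ ⟨a, ha, rfl⟩ _ ⟨b, hb, rfl⟩
    rw [← commutatorElement_eq_one_iff_mul_comm, ← map_commutatorElement]
    exact (QuotientGroup.eq_one_iff _).2 (commutator_mem_commutator hb ha)
  have h5 := (Cfsg.Agent.S0972.result p M hM b hb _ h4).1 fun a ha c hc => hab hc a ha
  have h6 : Nat.card b ≤ 3 := (Nat.card_le_card_of_injective (fun η : b => (⟨_, h3 η.2, by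
    rw [blockHeight_eq, charDegree_infl, nu_eq_minNu_add p η.2, h5 _ η.2,
      EqDeg.minNu_eq_index hM hb h4, EqDeg.minNu_eq_index hM hB hD, index_map_eq _ hπ hkD,
      add_zero, Nat.sub_self]⟩ : {χ : IrrCharacter G // χ ∈ B ∧ blockHeight p B χ.1 = 0}))
    fun x y h => Subtype.ext (infl_injective hπ (Subtype.mk.inj h))).trans hk
  have h7 : Nat.card (D.map π) ≤ 3 := by
    have : Nonempty b := (block_nonempty hb).to_subtype
    have h8 : 0 < Nat.card b := Nat.card_pos
    interval_cases h : Nat.card b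
    · rw [card_defectGroup hM hb h4, (defect_zero_iff_card_eq_one hM hb).2 h]; simp
    · rw [(Cfsg.Agent.S4607.result p M hM b hb _ h4).1 h]; simp
    · exact (normal_ab hM _ hb h4 hab h rfl).le
  have h8 : 0 < Nat.card (D.map π) := Nat.card_pos
  have : IsCyclic (D.map π) := by
    interval_cases h : Nat.card (D.map π)
    · have := (Nat.card_eq_one_iff_unique.1 h).1; infer_instance
    · exact isCyclic_of_prime_card h
    · exact isCyclic_of_prime_card h
  have h9 : commutator D = (π.subgroupMap D).ker := Subgroup.ext fun x => by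
    rw [← mem_map_iff_mem D.subtype_injective, map_subtype_commutator, MonoidHom.mem_ker,
      Subtype.ext_iff]
    exact (QuotientGroup.eq_one_iff _).symm
  have := hP.isNilpotent
  have := H3.isCyclic_of_nilpotent_of_quotient_commutator (isCyclic_of_injective
    (QuotientGroup.lift _ _ h9.le) ((QuotientGroup.injective_lift_iff _ _ _).2 h9))
  rw [(commutator_eq_bot_iff_center_eq_top D).2 (eq_top_iff.2 fun x _ =>
    mem_center_iff.2 fun y => IsCyclic.commGroup.mul_comm y x), eq_comm,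
    MonoidHom.ker_eq_bot_iff] at h9
  rw [← Nat.card_eq_of_bijective _ ⟨h9, π.subgroupMap_surjective D⟩] at h7 h8
  omega

end H34.K3
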