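import Cfsg.Agent.H34.K6Spec
import Cfsg.Agent.H34.KbFin
import Cfsg.Agent.H8.AutRank

/-! K64: assembly. -/

set_option autoImplicit false
set_option linter.unusedSectionVars false

namespace H34.K6

open Subgroup Cfsg Cfsg.FusionSystem H8.BC H92 H9 H34.Kb

universe u

section grp

variable {P : Type u} [Group P] [Finite P] {y z : P}

theorem sp_eq (k : G64 P) (hc : y ∈ center P) (h1 : z ≠ 1) (hz : Sp z) (hy : Sp y) : y = z := by
  obtain ⟨Q, a1, a2, a3, ⟨v, a4, a5⟩, -⟩ := hz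
  obtain ⟨R, b1, b2, b3, -⟩ := hy
  by_cases h : R ≤ Q
  · obtain rfl : R = Q := eq_of_le_of_card_ge h (by
      have h2 := Q.index_mul_card
      have h3 := R.index_mul_card
      rw [a1] at h2; rw [b1] at h3; omega)
    exact ((eq_of_mem_zpowers (by rw [sq, k.cen y hc]) (b3 ▸ a3 ▸ mem_zpowers z)).resolve_left
      h1).symm
  obtain ⟨r, h2, h3⟩ := SetLike.not_le_iff_exists.1 h
  have h4 : v * v * (v * v) = 1 := by rw [← a4]; simp only [pow_succ, pow_zero, one_mul, mul_assoc]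
  have h5 := a2 _ ((mul_mem_iff_of_index_two a1).2 Iff.rfl) h4
  have h6 := b2 _ ((mul_mem_iff_of_index_two b1).2 Iff.rfl) h4 r h2
  refine absurd (mem_center_iff.2 fun g => ?_) a5
  by_cases hg : g ∈ Q
  · exact (h5 g hg).symm
  have h7 := h5 _ ((mul_mem_iff_of_index_two a1).2 (iff_of_false (mt inv_mem_iff.1 h3) hg))
  calc g * (v * v) = r * (r⁻¹ * g * (v * v)) := by group
    _ = _ := by rw [← h7, ← mul_assoc, ← h6]; group

theorem G64.no_odd (jt : JobT.{u}) (k : G64 P) (α : MulAut P) (hα : (orderOf α).Coprime 2) :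
    α = 1 := by
  classical
  by_contra h
  obtain ⟨q, hq, h1⟩ := Nat.exists_prime_and_dvd (mt orderOf_eq_one_iff.1 h)
  have h2 := orderOf_pow_orderOf_div (orderOf_pos α).ne' h1
  have h3 := hα.coprime_dvd_left h1
  obtain ⟨x, y, g⟩ := k.gen
  obtain ⟨i, h4, h5, h6⟩ := H8.prime_dvd_pow_sub_one_of_rank k.p hq (by rintro rfl; simp at h3) _ h2
  have h7 : i ≤ 2 := h5.trans ((Group.rank_le (S := {x, y}) (g _ (subset_closure (by simp))
    (subset_closure (by simp)))).trans Finset.card_le_two)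
  obtain rfl : q = 3 := by
    interval_cases i
    · exact absurd (Nat.dvd_one.1 h6) hq.ne_one
    · exact (Nat.prime_dvd_prime_iff_eq hq Nat.prime_three).1 h6
  generalize α ^ (orderOf α / 3) = σ at h2
  have h8 : σ ≠ 1 := by rintro rfl; simp at h2
  have h9 := k.card
  by_cases hm : IsMetacyclic P
  · rcases homocyclic_or_quaternion k.p hm (α := σ) (h2 ▸ h3) h8 with ⟨a, b, c, -, -, e⟩ | ⟨a, b, D, -⟩
    · have h10 : ∀ t, Commute a t → Commute b t → t * t = 1 := fun t ha hb =>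
        k.cen t (mem_center_iff.2 fun w => mem_centralizer_singleton_iff.1 ((sup_le
          (zpowers_le.2 (mem_centralizer_singleton_iff.2 ha.eq))
          (zpowers_le.2 (mem_centralizer_singleton_iff.2 hb.eq))) (e ▸ mem_top w)))
      have h11 := dbl (T := ⊥) (h := a) (by simp) (h10 a (.refl a) c.symm)
      have h12 := dbl (T := ⊥ ⊔ zpowers a) (h := b) (nz_sup (by simp) (by
        rw [← c.eq, mul_inv_cancel_right]; exact mem_sup_right (mem_zpowers a)))
        (h10 b c (.refl b) ▸ one_mem _)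
      rw [card_bot] at h11
      rw [sup_assoc, e, sup_top_eq, card_top] at h12
      omega
    · have := D.card; omega
  rcases jt P σ k.p (h2 ▸ pow_orderOf_eq_one σ) h8 k.idx h9.le hm with ⟨c, t⟩ | ⟨-, c, h10, h11⟩
  · have := t.card; omega
  · exact h11 (k.cen c h10)

theorem G64.sp (jt : JobT.{u}) (a1 : JobA1.{u}) (a2 : JobA2.{u}) (jb : JobB.{u}) (v2 : JobV2.{u})
    (va : JobV4a.{u}) (vb : JobV4b.{u}) (v8 : JobV8.{u}) (k : G64 P) (hz : z ∈ center P)
    (h1 : z ≠ 1) {Q : Subgroup P} {s : P} {σ : MulAut Q} (h : LD Q s σ) (e : af σ z = z) : Sp z := by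
  by_cases hm : IsMetacyclic (cm σ)
  swap
  · exact jb jt P Q s z σ k h hz h1 e hm
  obtain ⟨w, h2⟩ := a1 P Q s z σ k h hz h1 e hm
  obtain ⟨C, i, u, h3, h4⟩ := a2 P Q s w σ k h h2
  have h5 := h4 z (h.cen z fun y _ => by rw [← mem_center_iff.1 hz, mul_inv_cancel_right]) e
  have h6 := (k.card_le h.s_not).1
  have h7 := v2 P Q C s i u w z k h3 h5 hz h1
  have h8 := v8 P Q C s i u w k h3
  have h9 : Nat.card C ≠ 4 := by
    by_cases hw : w = 1
    · exact va P Q C s i u z k (hw ▸ h3) h5 hz h1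
    · exact vb P Q C s i u w k h3 hw
  have h10 : Nat.card C ≠ 1 := fun e => h1 (mem_bot.1 (card_eq_one.1 e ▸ h5))
  obtain ⟨n, hn⟩ := IsPGroup.iff_card.1 (k.p.to_subgroup C)
  rw [h3.card] at h6
  rw [hn] at h6 h7 h8 h9 h10
  have : n < 4 := by_contra fun h =>
    absurd (Nat.pow_le_pow_right two_pos (not_lt.1 h)) (by omega)
  interval_cases n <;> simp at h7 h8 h9 h10

theorem G64.exists_not_sp (k : G64 P) : ∃ z ∈ center P, z ≠ 1 ∧ ¬ Sp z := by
  have : Nontrivial P := Finite.one_lt_card_iff_nontrivial.1 (by rw [k.card]; decide)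
  have := k.p.center_nontrivial
  obtain ⟨⟨z, hz⟩, h1⟩ := exists_ne (1 : center P)
  have h2 : z ≠ 1 := fun e => h1 (Subtype.ext e)
  by_cases h : Sp z
  · obtain ⟨-, -, -, -, -, y, h3, h4, h5⟩ := id h
    exact ⟨y, h3, h4, fun e => h5 (sp_eq k h3 h2 h e)⟩
  · exact ⟨z, hz, h2, h⟩

end grp

theorem G64.rel_le {Ω : Type u} [Group Ω] {S Q : Subgroup Ω} [Finite S] (k : G64 S) (h : Q < S)
    {z : Ω} (hz : z ∈ Q) (h1 : z ≠ 1) : (phi Q ⊔ zpowers z).relIndex Q ≤ 2 ^ 3 := by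
  obtain ⟨s, hs, hs'⟩ := SetLike.exists_of_lt h
  have e := subgroupOfEquivOfLe h.le
  have := finite_of_le h.le
  obtain ⟨h2, h3⟩ := k.card_le (Q := Q.subgroupOf S) (s := ⟨s, hs⟩) hs'
  rw [Nat.card_congr e.toEquiv] at h2 h3
  by_cases h4 : 32 ≤ Nat.card Q
  · refine (relIndex_le_of_le_left le_sup_left index_ne_zero_of_finite).trans ?_
    rw [relIndex_phi, ← index_comap_of_surjective _ (f := e.toMonoidHom) e.surjective]
    refine le_trans (index_antitone ?_) (k.rank3 (h3 h4))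
    exact frattini_le_comap_frattini_of_surjective e.surjective
  have h5 := ((phi Q ⊔ zpowers z).subgroupOf Q).index_mul_card
  have h6 : Nat.card ((phi Q ⊔ zpowers z).subgroupOf Q) ≠ 1 := fun e => by
    have h6 : (⟨z, hz⟩ : Q) ∈ (phi Q ⊔ zpowers z).subgroupOf Q := mem_sup_right (mem_zpowers z)
    rw [card_eq_one.1 e, mem_bot] at h6
    exact h1 (congrArg Subtype.val h6)
  have h7 : 0 < Nat.card ((phi Q ⊔ zpowers z).subgroupOf Q) := Nat.card_pos
  obtain ⟨n, hn⟩ := IsPGroup.iff_card.1 (k.p.to_le h.le)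
  have h8 : Nat.card Q ≤ 16 := by
    rw [hn] at h4 ⊢
    exact Nat.pow_le_pow_right two_pos (by_contra fun h =>
      h4 (Nat.pow_le_pow_right two_pos (by omega : 5 ≤ n)) : n ≤ 4)
  exact Nat.le_of_mul_le_mul_right (c := 2) (((Nat.mul_le_mul_left _ (by omega)).trans h5.le).trans
    h8) two_pos

theorem G64.inner (jl : JobLD.{u}) (jt : JobT.{u}) {Ω : Type u} [Group Ω] {S : Subgroup Ω}
    [Finite S] (k : G64 S) {F : FusionSystem S} (hF : F.IsSaturated 2) {z : S} (hz : z ∈ center S)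
    (h1 : z ≠ 1) (H : ∀ Q φ, Mor F Q φ → (z : Ω) ∈ Q → φ z = z)
    (hn : ∀ (Q : Subgroup S) s σ, LD Q s σ → af σ z ≠ z) : F = innerFusionSystem S := by
  refine eq_inner_of_isPGroup k.p hF ?_
  rintro Q (rfl | hQ)
  · exact H92.isPGroup_of_forall_coprime fun α _ => k.no_odd jt α
  have h2 : (z : Ω) ∈ Q := centralizerIn_le_of_centric hQ.1 (mem_centralizerIn_of z.2 fun y hy =>
    mul_inv_eq_iff_eq_mul.2 (congrArg Subtype.val (mem_center_iff.1 hz ⟨y, hQ.1.1 hy⟩)).symm)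
  obtain ⟨s, σ, h3, h4⟩ := jl Ω S F Q z k.p hF hQ h2 (fun α hα => H Q _ (mor_af hQ.1.1 hα) h2)
    (k.rel_le (essential_lt k.p hF hQ) h2 fun e => h1 (Subtype.ext e))
  exact absurd h4 (hn _ s σ h3)

open H28 H35 H36 H39 H24.Ols in
theorem card_le_of_nil {G : Type u} [Group G] [Fintype G] {M : Ideal AlgInt} [M.IsMaximal]
    {B : Set (IrrCharacter G)} {D : Subgroup G} {e : MonoidAlgebra (F M) G} (h : BD 2 M B D e)
    {z : D} (hz : z ∈ center D) (hn : Nil 2 (Cen (zpowers (z : G))) (eP 2 D e z)) :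
    Nat.card B ≤ Nat.card D := by
  have h1 := h.rank_of_nil z hn
  have h2 := (maxP_c h hz).isDef
  have h3 := le_cen_of_center hz
  have h4 := (h.s z).ind
  have h5 := (h.s_C z).trans (cen_zpowers _)
  have h6 := ((h.s z).sec.isInducedBlock_iff h.hM).1 h4
  rw [← h.s_e, ← h.s_C] at h2
  rw [← h.s_C] at h3
  generalize h.s z = t at *
  obtain ⟨v, C, b, _, _⟩ := t
  obtain rfl : C = centralizer {(z : G)} := h5
  have h7 := Cfsg.Agent.S4540.result M h.hM B h.hB D h.isDefectGroup z z.2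
    (fun d hd => mem_centralizer_singleton_iff.1 (h3 hd)) b h4
    ((H36.isDefectGroup_subgroupOf_iff h.hM h6.1 h3).2 h2) (h1.le.trans (by decide))
  rw [h.card_eq]
  exact Nat.le_of_mul_le_mul_left (h7.1.trans h7.2) three_pos

open H28 H35 H36 H39 H24.Ols in
theorem main (jl : JobLD.{u}) (jt : JobT.{u}) (a1 : JobA1.{u}) (a2 : JobA2.{u}) (jb : JobB.{u})
    (v2 : JobV2.{u}) (va : JobV4a.{u}) (vb : JobV4b.{u}) (v8 : JobV8.{u}) (js : JobS16.{u})
    {G : Type u} [Group G] [Finite G] (M : Ideal AlgInt) (hM : IsPModular 2 M)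
    (B : Set (IrrCharacter G)) (hB : IsPBlock M B) (D : Subgroup G) (hD : IsDefectGroup 2 M B D)
    (hcard : Nat.card D ≤ 64) (hgen : ∃ x ∈ D, ∃ y ∈ D, closure ({x, y} : Set G) = D) :
    Nat.card B ≤ Nat.card D := by
  classical
  have := hM.2.1
  have := Fintype.ofFinite G
  have := charP_F hM
  have hP := H36.isPGroup_of_isDefectGroup hD
  obtain ⟨x, hx, y, hy, hxy⟩ := hgen
  have g : Gn (⟨x, hx⟩ : D) ⟨y, hy⟩ := fun K h1 h2 => (eq_top_iff' _).2 fun d =>
    mem_map_sub.1 ((closure_le (K.map D.subtype)).2 (by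
      rintro _ (rfl | rfl)
      exacts [⟨_, h1, rfl⟩, ⟨_, h2, rfl⟩]) (hxy.ge d.2))
  have q : ∀ z ∈ center D, Nat.card D ≤ 16 * orderOf z → Nat.card B ≤ Nat.card D := fun z hz h =>
    card_le_of_quot hM hB hD hz fun Q _ _ c E φ h3 h4 h5 h6 => by
      have h7 := φ.ker.index_mul_card
      rw [index_ker, MonoidHom.range_eq_top.2 h5, card_top, show φ.ker = zpowers z from
        ext fun d => h6 d, Nat.card_zpowers] at h7
      rcases js E _ _ (hP.of_surjective φ h5) (g.map h5)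
        (Nat.le_of_mul_le_mul_right (h7.le.trans h) (orderOf_pos z)) with h8 | ⟨x, a, b, h8⟩
      · exact H84.Kb.jobMet Q M hM c h3 E h4 h8
      · obtain ⟨e, h⟩ := exists_bd hM h3 h4
        exact rank_le H84.Kb.jobN0 H81.KbFus.jobFus H95.Kb.jobCount H92.Kb.jobDq H92.Kb.jobKit
          H92.Kb0.jobK0 h h8
  have o : ∀ (t : D) (k : ℕ), t ^ 2 ^ k ≠ 1 → 2 ^ (k + 1) ≤ orderOf t := fun t k h => by
    obtain ⟨n, hn⟩ := IsPGroup.iff_orderOf.1 hP t
    rw [hn]
    exact Nat.pow_le_pow_right two_pos (by_contra fun e => h (orderOf_dvd_iff_pow_eq_one.1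
      (hn ▸ pow_dvd_pow 2 (by omega))))
  by_cases h1 : Nat.card D ≤ 16
  · exact q 1 (one_mem _) (by simpa using h1)
  have : Nontrivial D := Finite.one_lt_card_iff_nontrivial.1 (by omega)
  by_cases h2 : Nat.card D ≤ 32
  · have := hP.center_nontrivial
    obtain ⟨⟨z, hz⟩, h3⟩ := exists_ne (1 : center D)
    have := o z 0 (by simpa using h3)
    exact q z hz (by omega)
  by_cases h3 : ∃ c ∈ center D, c * c ≠ 1
  · obtain ⟨z, hz, h3⟩ := h3
    have := o z 1 (by simpa [sq] using h3)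
    exact q z hz (by omega)
  by_cases h4 : ∃ t : D, t ^ 8 ≠ 1
  · obtain ⟨t, h4⟩ := h4
    have h5 := o t 3 h4
    have h6 := (zpowers t).index_mul_card
    rw [Nat.card_zpowers] at h6
    refine card_le4 M hM B hB D hD (zpowers (t : G)) (zpowers_le.2 t.2) inferInstance ?_
    rw [relIndex, ← map_zp, subgroupOf, comap_map_eq_self_of_injective D.subtype_injective]
    exact Nat.le_of_mul_le_mul_right (c := 16) (((Nat.mul_le_mul_left _ h5).trans h6.le).trans hcard)
      (by decide)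
  have k : G64 D := ⟨by
    obtain ⟨n, hn⟩ := IsPGroup.iff_card.1 hP
    rw [hn] at hcard h2 ⊢
    exact hcard.antisymm (Nat.pow_le_pow_right two_pos (by_contra fun h =>
      h2 (Nat.pow_le_pow_right two_pos (by omega : n ≤ 5)) : 6 ≤ n)),
    ⟨_, _, g⟩, by simpa using h4, by simpa using h3⟩
  obtain ⟨z, hz, h5, h6⟩ := k.exists_not_sp
  obtain ⟨e, h⟩ := exists_bd hM hB hD
  have hK := maxP_c h hz
  obtain ⟨Φ, hΦ⟩ := hK.exists_isFus
  refine card_le_of_nil h hz ((hΦ.nil_iff hK).2 (k.inner jl jt (hΦ.saturated hK) hz h5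
    (fun Q φ h7 h8 => ?_) fun Q s σ h7 h8 => h6 (k.sp jt a1 a2 jb v2 va vb v8 hz h5 h7 h8)))
  obtain ⟨t, h9, h10⟩ := (hΦ _ _).1 h7
  rw [h10 _ h8, cen_conj_eq h9.1 (mem_zpowers _)]

end H34.K6
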