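import Cfsg.Agent.H40.GlCan
import Cfsg.Agent.H28.Degree
import Cfsg.Agent.H28.ConjCount

/-!
# The k(GV) setting: Galois averaging, integral class functions, Knörr's criterion
-/

set_option autoImplicit false
set_option linter.unusedSectionVars false

open scoped ComplexConjugate

namespace H34

open Cfsg H28 H29 H40

theorem card_le_of_gal {ι : Type*} (s : Finset ι) (c : ι → ℂ) (r : ℝ)
    (hi : ∀ i ∈ s, IsIntegral ℤ (c i)) (h0 : ∀ i ∈ s, c i ≠ 0)
    (h : ∀ σ : ℂ ≃+* ℂ, ∑ i ∈ s, ‖σ (c i)‖ ^ 2 ≤ r) : (s.card : ℝ) ≤ r := by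
  by_contra hlt
  have key : ∀ σ : ℂ ≃+* ℂ, ‖σ (∏ i ∈ s, c i)‖ < 1 := fun σ => by
    have hne : ∀ i ∈ s, ‖σ (c i)‖ ^ 2 ≠ 0 := fun i hi =>
      pow_ne_zero _ (norm_ne_zero_iff.2 ((map_ne_zero σ).2 (h0 i hi)))
    have h1 : ∑ i ∈ s, Real.log (‖σ (c i)‖ ^ 2) ≤ ∑ i ∈ s, (‖σ (c i)‖ ^ 2 - 1) :=
      Finset.sum_le_sum fun i hi => Real.log_le_sub_one_of_pos
        (lt_of_le_of_ne (by positivity) (hne i hi).symm)
    rw [← Real.log_prod hne, Finset.sum_sub_distrib, Finset.sum_const, nsmul_eq_mul, mul_one,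
      Finset.prod_pow, ← norm_prod, ← map_prod] at h1
    have h2 : Real.log (‖σ (∏ i ∈ s, c i)‖ ^ 2) < 0 := by linarith [h σ, not_le.1 hlt]
    by_contra h3
    exact absurd (Real.log_nonneg (one_le_pow₀ (not_lt.1 h3))) (not_le.2 h2)
  obtain ⟨n, hn, h1⟩ := exists_pow_eq_one_of_forall_norm_le (Finset.prod_ne_zero_iff.2 h0)
    (IsIntegral.prod _ hi) fun σ => (key σ).le
  have := key (RingEquiv.refl ℂ)
  rw [RingEquiv.refl_apply, Complex.norm_eq_one_of_pow_eq_one h1 hn.ne'] at this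
  exact lt_irrefl _ this

theorem isIntegral_of_coprime {z : ℂ} {m n : ℕ} (h : m.Coprime n) (h1 : IsIntegral ℤ (m * z))
    (h2 : IsIntegral ℤ (n * z)) : IsIntegral ℤ z := by
  obtain ⟨a, b, hab⟩ := (Nat.isCoprime_iff_coprime.2 h : IsCoprime (m : ℤ) n)
  have : z = a * (m * z) + b * (n * z) := by
    have := congrArg (fun t : ℤ => (t : ℂ)) hab
    push_cast at this
    linear_combination -z * this
  rw [this]
  exact ((isIntegral_algebraMap (x := a)).mul h1).add ((isIntegral_algebraMap (x := b)).mul h2)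

theorem isIntegral_conj {z : ℂ} (h : IsIntegral ℤ z) : IsIntegral ℤ (conj z) :=
  isIntegral_ringHom h _

section AS

variable {H : Type*} [Group H] [Fintype H] {f g θ : H → ℂ}

/-- Combinations of irreducible characters with algebraic integer coefficients. -/
def AS (f : H → ℂ) : Prop :=
  IsClassFunction H f ∧ ∀ ψ, IsIrrCharacter H ψ → IsIntegral ℤ (classInner f ψ)

theorem as_char (h : IsCharacter H θ) : AS θ := ⟨h.isClassFunction, fun ψ hψ => by
  obtain ⟨n, hn⟩ := h.classInner_nat hψ.isCharacter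
  rw [hn]; exact isIntegral_natCast n⟩

theorem as_one : AS (1 : H → ℂ) := as_char (isIrrCharacter_one.isCharacter)

theorem AS.smul (h : AS f) {c : ℂ} (hc : IsIntegral ℤ c) : AS (c • f) :=
  ⟨h.1.smul c, fun ψ hψ => by rw [classInner_smul_left]; exact hc.mul (h.2 ψ hψ)⟩

theorem AS.add (h : AS f) (h' : AS g) : AS (f + g) :=
  ⟨h.1.add h'.1, fun ψ hψ => by rw [classInner_add_left]; exact (h.2 ψ hψ).add (h'.2 ψ hψ)⟩

theorem as_sum {ι : Type*} (s : Finset ι) {F : ι → H → ℂ} (h : ∀ i ∈ s, AS (F i)) :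
    AS (∑ i ∈ s, F i) :=
  ⟨isClassFunction_sum s fun i hi => (h i hi).1, fun ψ hψ => by
    rw [classInner_sum_left]; exact IsIntegral.sum _ fun i hi => (h i hi).2 ψ hψ⟩

theorem AS.inner (h : AS f) (hθ : IsCharacter H θ) : IsIntegral ℤ (classInner f θ) := by
  rw [h.1.classInner_eq_sum_irr]
  exact IsIntegral.sum _ fun χ _ => (h.2 _ χ.2).mul (by
    obtain ⟨n, hn⟩ := χ.2.isCharacter.classInner_nat hθ
    rw [hn]; exact isIntegral_natCast n)

theorem AS.mul (h : AS f) (h' : AS g) : AS (f * g) := by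
  rw [h'.1.eq_sum_irr, Finset.mul_sum]
  refine as_sum _ fun χ _ => ?_
  rw [mul_smul_comm]
  refine AS.smul ⟨h.1.mul χ.2.isCharacter.isClassFunction, fun ψ hψ => ?_⟩ (h'.2 _ χ.2)
  rw [classInner_mul_left]
  exact h.inner (χ.2.isCharacter.conj.mul hψ.isCharacter)

theorem as_prod {ι : Type*} (s : Finset ι) {F : ι → H → ℂ} (h : ∀ i ∈ s, AS (F i)) :
    AS (∏ i ∈ s, F i) := by
  classical
  induction s using Finset.induction_on with
  | empty => simpa using as_one
  | insert a s ha ih =>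
    rw [Finset.prod_insert ha]
    exact (h a (Finset.mem_insert_self _ _)).mul (ih fun i hi => h i (Finset.mem_insert_of_mem hi))

theorem AS.int (h : AS f) (x : H) : IsIntegral ℤ (f x) := by
  rw [h.1.apply_eq_sum_irr]
  exact IsIntegral.sum _ fun χ _ => (h.2 _ χ.2).mul (χ.2.isCharacter.isIntegral x)

theorem AS.comp {K : Type*} [Group K] [Fintype K] (h : AS f) (φ : K →* H) :
    AS fun x => f (φ x) := by
  have : (fun x => f (φ x)) = ∑ χ : IrrCharacter H, classInner f χ • fun x => χ.1 (φ x) := by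
    ext x; rw [h.1.apply_eq_sum_irr]; simp
  rw [this]
  exact as_sum _ fun χ _ => (as_char (χ.2.isCharacter.comp φ)).smul (h.2 _ χ.2)

theorem as_of_coprime (hf : IsClassFunction H f) (hi : ∀ x, IsIntegral ℤ (f x)) {m : ℕ}
    (hm : m.Coprime (Nat.card H)) (h : AS ((m : ℂ) • f)) : AS f :=
  ⟨hf, fun ψ hψ => isIntegral_of_coprime hm
    (by simpa only [classInner_smul_left] using h.2 ψ hψ) (by
      rw [card_mul_classInner]
      exact IsIntegral.sum _ fun x _ => (hi x).mul (isIntegral_conj (hψ.isCharacter.isIntegral x)))⟩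

theorem AS.exists_inv (h : AS f) {ι : Type*} (s : Finset ι) {a : ι → ℂ}
    (ha : ∀ i ∈ s, IsIntegral ℤ (a i)) :
    ∃ r, AS r ∧ ∀ x, ∏ i ∈ s, (f x - a i) = f x * r x + ∏ i ∈ s, -a i := by
  classical
  induction s using Finset.induction_on with
  | empty => exact ⟨(0 : ℂ) • 1, as_one.smul isIntegral_zero, by simp⟩
  | insert b s hb ih =>
    obtain ⟨r, hr, e⟩ := ih fun i hi => ha i (Finset.mem_insert_of_mem hi)
    refine ⟨f * r + (-a b) • r + (∏ i ∈ s, -a i) • 1, ((h.mul hr).add (hr.smul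
      (ha b (Finset.mem_insert_self _ _)).neg)).add (as_one.smul (IsIntegral.prod _ fun i hi =>
        (ha i (Finset.mem_insert_of_mem hi)).neg)), fun x => ?_⟩
    rw [Finset.prod_insert hb, Finset.prod_insert hb, e]
    simp; ring

/-- Division in the ring of integral class functions. -/
theorem AS.of_mul_eq {p : ℕ} (hp : p.Coprime (Nat.card H)) (h : AS f)
    (hf : ∀ x, ∃ k, f x * conj (f x) = (p : ℂ) ^ k) (hp0 : p ≠ 0) {c : ℂ} (hc : IsIntegral ℤ c)
    (hg : ∀ x, f x * g x = c) (hi : ∀ x, IsIntegral ℤ (g x)) : AS g := by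
  choose k hk using hf
  have hne : ∀ x, f x ≠ 0 := fun x h0 => by
    have := hk x
    rw [h0, zero_mul] at this
    exact pow_ne_zero _ (Nat.cast_ne_zero.2 hp0) this.symm
  obtain ⟨r, hr, e⟩ := h.exists_inv Finset.univ fun x _ => h.int x
  refine as_of_coprime (m := p ^ ∑ x, k x) (isClassFunction_of_isConj fun a b hab => ?_) hi
    (hp.pow_left _) ?_
  · apply mul_left_cancel₀ (hne a)
    rw [hg, h.1.eq_of_isConj hab, hg]
  · have e1 : ((p ^ ∑ x, k x : ℕ) : ℂ) = (∏ x, -f x) * conj (∏ x, -f x) := by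
      rw [map_prod, ← Finset.prod_mul_distrib, Nat.cast_pow, ← Finset.prod_pow_eq_pow_sum]
      exact Finset.prod_congr rfl fun x _ => by rw [map_neg, neg_mul_neg, hk]
    have e2 : ((p ^ ∑ x, k x : ℕ) : ℂ) • g = (-c * conj (∏ x, -f x)) • r := by
      ext x
      have := e x
      rw [Finset.prod_eq_zero (Finset.mem_univ x) (sub_self _)] at this
      rw [Pi.smul_apply, Pi.smul_apply, smul_eq_mul, smul_eq_mul, e1, ← hg x]
      linear_combination -(conj (∏ x, -f x) * g x) * this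
    rw [e2]
    exact hr.smul (hc.neg.mul (isIntegral_conj (IsIntegral.prod _ fun x _ => (h.int x).neg)))

theorem sum_irr_gal {M : Type*} [AddCommMonoid M] (σ : ℂ ≃+* ℂ) (F : (H → ℂ) → M) :
    ∑ χ : IrrCharacter H, F (fun x => σ (χ.1 x)) = ∑ χ : IrrCharacter H, F χ.1 := by
  let e : IrrCharacter H → IrrCharacter H := fun χ => ⟨_, χ.2.gal σ.toRingHom⟩
  exact Function.Bijective.sum_comp (e := e) (Finite.injective_iff_bijective.1 fun a b hab =>
    Subtype.ext (funext fun x => σ.injective (congrFun (congrArg Subtype.val hab) x)))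
    fun χ => F χ.1

theorem sum_norm_gal_inner (hf : IsClassFunction H f) (σ : ℂ ≃+* ℂ) :
    ∑ χ : IrrCharacter H, ‖σ (classInner f χ.1)‖ ^ 2 =
      (Nat.card H : ℝ)⁻¹ * ∑ x, ‖σ (f x)‖ ^ 2 := by
  have h1 : IsClassFunction H fun x => σ (f x) :=
    isClassFunction_of_isConj fun a b hab => by rw [hf.eq_of_isConj hab]
  rw [← classInner_self_re, h1.classInner_eq_sum_irr, Complex.re_sum,
    ← sum_irr_gal σ fun χ => (classInner (fun x => σ (f x)) χ * classInner χ fun x => σ (f x)).re]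
  refine Finset.sum_congr rfl fun χ _ => ?_
  have := classInner_gal f χ.2.isGeneralizedCharacter σ.toRingHom
  simp only [RingEquiv.toRingHom_eq_coe, RingHom.coe_coe] at this
  rw [← classInner_conj_symm (fun x => σ (f x)), this, Complex.mul_conj, Complex.ofReal_re,
    Complex.normSq_eq_norm_sq]

theorem sum_norm_gal_col (σ : ℂ ≃+* ℂ) (x : H) :
    ∑ χ : IrrCharacter H, ‖σ (χ.1 x)‖ ^ 2 = Nat.card (Subgroup.centralizer ({x} : Set H)) := by
  rw [← sum_norm_sq_eq_card_centralizer, ← sum_irr_gal σ fun χ => ‖χ x‖ ^ 2]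

end AS

theorem as_translate {X : Type*} [Group X] [Finite X] {χ : X → ℂ} (hχ : IsCharacter X χ) {v : X}
    {H : Subgroup X} [Fintype H] (hH : H ≤ Subgroup.centralizer {v}) :
    AS fun h : H => χ (v * h) := by
  classical
  have := Fintype.ofFinite X
  let K := Subgroup.centralizer ({v} : Set X)
  have hv : v ∈ K := mem_centralizer_singleton.2 rfl
  have hz : (⟨v, hv⟩ : K) ∈ Subgroup.center K :=
    Subgroup.mem_center_iff.2 fun g => Subtype.ext (mem_centralizer_singleton.1 g.2)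
  obtain ⟨a, -, ha⟩ := (hχ.restrict K).exists_nat_coeffs
  have e : (fun h : H => χ (v * h)) = ∑ ψ : IrrCharacter K,
      (a ψ : ℂ) • fun h : H => ψ.1 (⟨v, hv⟩ * Subgroup.inclusion hH h) := by
    ext h
    simpa using congrFun ha (⟨v, hv⟩ * Subgroup.inclusion hH h)
  rw [e]
  refine as_sum _ fun ψ _ => AS.smul ?_ (isIntegral_natCast _)
  obtain ⟨l, hl⟩ := ψ.2.exists_central_hom (le_refl (Subgroup.center K))
  have : (fun h : H => ψ.1 (⟨v, hv⟩ * Subgroup.inclusion hH h)) =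
      (l ⟨_, hz⟩ : ℂ) • fun h : H => ψ.1 (Subgroup.inclusion hH h) := by
    ext h; exact hl ⟨_, hz⟩ _
  rw [this]
  exact (as_char (ψ.2.isCharacter.comp _)).smul (isIntegral_hom_units l _)

section grp

variable {X : Type*} [Group X] {V G : Subgroup X}

theorem conj_parts (hcop : (Nat.card V).Coprime (Nat.card G)) {a a' g g' x : X} (ha : a ∈ V)
    (ha' : a' ∈ V) (hg : g ∈ G) (hg' : g' ∈ G) (hc : Commute a g) (hc' : Commute a' g')
    (e : x * (a * g) * x⁻¹ = a' * g') : x * a * x⁻¹ = a' ∧ x * g * x⁻¹ = g' := by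
  obtain ⟨m, h1, h2⟩ := Nat.chineseRemainder hcop 1 0
  have h3 : ∀ b ∈ V, b ^ m = b := fun b hb => by
    have : (⟨b, hb⟩ : V) ^ m = ⟨b, hb⟩ ^ 1 :=
      pow_eq_pow_iff_modEq.2 (h1.of_dvd (orderOf_dvd_natCard _))
    simpa using congrArg Subtype.val this
  have h4 : ∀ b ∈ G, b ^ m = 1 := fun b hb => by
    have : (⟨b, hb⟩ : G) ^ m = ⟨b, hb⟩ ^ 0 :=
      pow_eq_pow_iff_modEq.2 (h2.of_dvd (orderOf_dvd_natCard _))
    simpa using congrArg Subtype.val this
  have h5 := congrArg (· ^ m) e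
  simp only [conj_pow, hc.mul_pow, hc'.mul_pow, h3 a ha, h3 a' ha', h4 g hg, h4 g' hg',
    mul_one] at h5
  refine ⟨h5, mul_left_cancel (a := a') ?_⟩
  rw [← e, ← h5]; group

variable [hV : V.Normal]

theorem conj_G (hd : Disjoint V G) {u y g g' : X} (hu : u ∈ V) (hy : y ∈ G) (hg : g ∈ G)
    (hg' : g' ∈ G) (e : u * y * g * (u * y)⁻¹ = g') : y * g * y⁻¹ = g' := by
  have h1 : y * g * y⁻¹ * g'⁻¹ ∈ V := by
    have : y * g * y⁻¹ * g'⁻¹ = u⁻¹ * (g' * u * g'⁻¹) := by rw [← e]; group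
    rw [this]
    exact V.mul_mem (V.inv_mem hu) (hV.conj_mem u hu g')
  exact mul_inv_eq_one.1 (Subgroup.disjoint_def.1 hd h1
    (G.mul_mem (G.mul_mem (G.mul_mem hy hg) (G.inv_mem hy)) (G.inv_mem hg')))

theorem conj_V (hab : ∀ a ∈ V, ∀ b ∈ V, a * b = b * a) {u v : X} (hu : u ∈ V) (hv : v ∈ V)
    (y : X) : u * y * v * (u * y)⁻¹ = y * v * y⁻¹ := by
  rw [show u * y * v * (u * y)⁻¹ = u * (y * v * y⁻¹) * u⁻¹ by group,
    hab u hu _ (hV.conj_mem v hv y), mul_inv_cancel_right]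

theorem exists_conj_commute [Finite X] (hab : ∀ a ∈ V, ∀ b ∈ V, a * b = b * a) {w g : X}
    (hw : w ∈ V) (hcop : (Nat.card V).Coprime (orderOf g)) :
    ∃ u ∈ V, ∃ v ∈ V, Commute v g ∧ w * g = u * (v * g) * u⁻¹ := by
  let δ : V →* V := MonoidHom.mk' (fun u => ⟨u * (g * (u : X)⁻¹ * g⁻¹),
    V.mul_mem u.2 (hV.conj_mem _ (V.inv_mem u.2) g)⟩) fun a b => Subtype.ext (by
      have h1 := hab _ b.2 _ (hV.conj_mem _ (V.inv_mem a.2) g)
      have h2 := hab _ (V.inv_mem a.2) _ (V.inv_mem b.2)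
      simp only [Subgroup.coe_mul, mul_inv_rev]
      rw [← h2]
      calc _ = a * (b * (g * (a : X)⁻¹ * g⁻¹)) * (g * (b : X)⁻¹ * g⁻¹) := by group
        _ = _ := by rw [h1]; group)
  have hker : ∀ v : V, v ∈ δ.ker → Commute (v : X) g := fun v hv => by
    have : (v : X) * (g * (v : X)⁻¹ * g⁻¹) = 1 := congrArg Subtype.val hv
    exact commutatorElement_eq_one_iff_commute.1 (by rw [← this, commutatorElement_def]; group)
  have hd : Disjoint δ.ker δ.range := Subgroup.disjoint_def.2 fun {c} hc ⟨u, hu⟩ => by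
    have h1 : (u : X) * g * (u : X)⁻¹ = c * g := by
      rw [← hu]; show _ = u * (g * (u : X)⁻¹ * g⁻¹) * g; group
    have h2 := congrArg (· ^ orderOf g) h1
    simp only [conj_pow, (hker c hc).mul_pow, pow_orderOf_eq_one, mul_one, mul_inv_cancel] at h2
    exact orderOf_eq_one_iff.1 (Nat.eq_one_of_dvd_coprimes hcop (orderOf_dvd_natCard c)
      (orderOf_dvd_of_pow_eq_one (Subtype.ext h2.symm)))
  have hc := Subgroup.isComplement'_of_card_mul_and_disjoint (by
    rw [← Subgroup.index_ker, Subgroup.card_mul_index]) hd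
  obtain ⟨⟨⟨v, hv⟩, ⟨_, u, rfl⟩⟩, e, -⟩ := hc.existsUnique ⟨w, hw⟩
  refine ⟨u, u.2, v, v.2, hker v hv, ?_⟩
  have e' : (v : X) * (u * (g * (u : X)⁻¹ * g⁻¹)) = w := congrArg Subtype.val e
  rw [← e', ← mul_assoc (v : X), hab _ v.2 _ u.2]; group

theorem card_cent_le [Finite X] (hab : ∀ a ∈ V, ∀ b ∈ V, a * b = b * a)
    (hGV : Subgroup.IsComplement' V G) (hcop : (Nat.card V).Coprime (Nat.card G)) {v : X}
    (hv : v ∈ V) {H : Subgroup X} (hH : H = G ⊓ Subgroup.centralizer ({v} : Set X)) (h : H) :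
    Nat.card (Subgroup.centralizer ({v * h} : Set X)) ≤
      Nat.card ↥(V ⊓ Subgroup.centralizer ({h.1} : Set X)) *
        Nat.card (Subgroup.centralizer ({h} : Set H)) := by
  subst hH
  rw [← Nat.card_prod]
  have hc : Commute v h := (mem_centralizer_singleton.1 h.2.2).symm
  have : ∀ x : Subgroup.centralizer ({v * h} : Set X),
      ∃ q : ↥(V ⊓ Subgroup.centralizer ({h.1} : Set X)) ×
        Subgroup.centralizer ({h} : Set ↥(G ⊓ Subgroup.centralizer ({v} : Set X))),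
        (x : X) = q.1 * q.2.1 := fun x => by
    obtain ⟨⟨u, y⟩, e, -⟩ := hGV.existsUnique x.1
    simp only at e
    obtain ⟨h1, h2⟩ := conj_parts hcop hv hv h.2.1 h.2.1 hc hc
      (mem_centralizer_singleton_conj.1 x.2)
    rw [← e] at h1 h2
    have h3 := conj_G hGV.disjoint u.2 y.2 h.2.1 h.2.1 h2
    have h4 : y * v * (y : X)⁻¹ = v := (conj_V hab u.2 hv y).symm.trans h1
    refine ⟨(⟨u, u.2, mem_centralizer_singleton_conj.2 ?_⟩,
      ⟨⟨y, y.2, mem_centralizer_singleton_conj.2 h4⟩,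
        mem_centralizer_singleton_conj.2 (Subtype.ext h3)⟩), e.symm⟩
    calc (u : X) * h * (u : X)⁻¹ = u * (y * h * (y : X)⁻¹) * (u : X)⁻¹ := by rw [h3]
      _ = u * y * h * ((u : X) * y)⁻¹ := by group
      _ = h := h2
  choose q hq using this
  exact Nat.card_le_card_of_injective q fun a b hab => Subtype.ext (by rw [hq, hq, hab])

theorem card_conj_eq_sum [Finite X] (hab : ∀ a ∈ V, ∀ b ∈ V, a * b = b * a)
    (hGV : Subgroup.IsComplement' V G) (hcop : (Nat.card V).Coprime (Nat.card G)) (S : Finset X)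
    (hSV : ∀ s ∈ S, s ∈ V) (hrep : ∀ v ∈ V, ∃! s, s ∈ S ∧ ∃ g ∈ G, g * v * g⁻¹ = s) :
    Nat.card (ConjClasses X) =
      ∑ s ∈ S, Nat.card (ConjClasses ↥(G ⊓ Subgroup.centralizer ({s} : Set X))) := by
  have hc : ∀ (s : X) (h : ↥(G ⊓ Subgroup.centralizer ({s} : Set X))), Commute s h := fun s h =>
    (mem_centralizer_singleton.1 h.2.2).symm
  let F : (Σ s : S, ConjClasses ↥(G ⊓ Subgroup.centralizer ({s.1} : Set X))) → ConjClasses X :=
    fun q => Quotient.lift (fun h : ↥(G ⊓ Subgroup.centralizer ({q.1.1} : Set X)) =>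
      ConjClasses.mk (q.1.1 * h)) (fun a b hab => by
        obtain ⟨c, hc'⟩ := isConj_iff.1 hab
        refine ConjClasses.mk_eq_mk_iff_isConj.2 (isConj_iff.2 ⟨c, ?_⟩)
        rw [← hc', ← mul_assoc, ← (hc _ c).eq]; simp [mul_assoc]) q.2
  rw [← Finset.sum_coe_sort, ← Nat.card_sigma]
  refine (Nat.card_eq_of_bijective F ⟨?_, fun C => ?_⟩).symm
  · rintro ⟨s, ⟨a⟩⟩ ⟨t, ⟨b⟩⟩ h
    obtain ⟨x, hx⟩ := isConj_iff.1 (ConjClasses.mk_eq_mk_iff_isConj.1 h)
    obtain ⟨⟨u, y⟩, rfl, -⟩ := hGV.existsUnique x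
    obtain ⟨h1, h2⟩ := conj_parts hcop (hSV _ s.2) (hSV _ t.2) a.2.1 b.2.1 (hc _ a) (hc _ b) hx
    have h3 := conj_G hGV.disjoint u.2 y.2 a.2.1 b.2.1 h2
    rw [conj_V hab u.2 (hSV _ s.2)] at h1
    obtain rfl : s = t := Subtype.ext ((hrep s (hSV _ s.2)).unique ⟨s.2, 1, G.one_mem, by simp⟩
      ⟨t.2, y, y.2, h1⟩)
    exact Sigma.ext rfl (heq_of_eq (ConjClasses.mk_eq_mk_iff_isConj.2 (isConj_iff.2
      ⟨⟨y, y.2, mem_centralizer_singleton_conj.2 h1⟩, Subtype.ext h3⟩)))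
  · obtain ⟨x, rfl⟩ := ConjClasses.mk_surjective C
    obtain ⟨⟨w, g⟩, rfl, -⟩ := hGV.existsUnique x
    obtain ⟨u, -, v, hv, h1, h2⟩ := exists_conj_commute hab w.2 (g := g)
      (hcop.coprime_dvd_right (G.orderOf_dvd_natCard g.2))
    obtain ⟨s, ⟨hs, y, hy, rfl⟩, -⟩ := hrep v hv
    refine ⟨⟨⟨_, hs⟩, ConjClasses.mk ⟨y * g * y⁻¹, G.mul_mem (G.mul_mem hy g.2) (G.inv_mem hy),
      mem_centralizer_singleton.2 ?_⟩⟩, ConjClasses.mk_eq_mk_iff_isConj.2
        (isConj_iff.2 ⟨u * y⁻¹, ?_⟩)⟩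
    · calc _ = y * (g * v) * y⁻¹ := by group
        _ = _ := by rw [← h1.eq]; group
    · simp only [h2]; group

theorem card_conj_le_split [Finite X]
    (φ : X ⧸ V →* MulAut V)
    (hφ : ∀ (x : X) (v : V), ((φ (QuotientGroup.mk x) v : V) : X) = x * v * x⁻¹) :
    Nat.card (ConjClasses X) ≤ Nat.card (ConjClasses (SemidirectProduct V (X ⧸ V) φ)) := by
  have : Finite (SemidirectProduct V (X ⧸ V) φ) := Finite.of_equiv _ SemidirectProduct.equivProd.symm
  have hc : Nat.card (SemidirectProduct V (X ⧸ V) φ) = Nat.card X := by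
    rw [SemidirectProduct.card, mul_comm, ← Subgroup.card_eq_card_quotient_mul_card_subgroup]
  refine Nat.le_of_mul_le_mul_right ?_ (Nat.card_pos (α := X))
  rw [← card_comm_eq_card_conjClasses_mul_card, ← hc, ← card_comm_eq_card_conjClasses_mul_card]
  let π : {q : X × X // Commute q.1 q.2} → (X ⧸ V) × (X ⧸ V) := fun q => (q.1.1, q.1.2)
  have : Nonempty {q : X × X // Commute q.1 q.2} := ⟨⟨(1, 1), Commute.refl _⟩⟩
  have hb : ∀ q, ∃ b : {q : X × X // Commute q.1 q.2}, π b = π q ∧ ∀ q', π q' = π q → 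
      b = Function.invFun π (π q') := fun q =>
    ⟨Function.invFun π (π q), Function.invFun_eq ⟨q, rfl⟩, fun q' h => by rw [h]⟩
  choose b hb1 hb2 using hb
  have m1 : ∀ q, q.1.1 * (b q).1.1⁻¹ ∈ V := fun q =>
    QuotientGroup.eq_iff_div_mem.1 (congrArg Prod.fst (hb1 q)).symm |> (div_eq_mul_inv q.1.1 _ ▸ ·)
  have m2 : ∀ q, q.1.2 * (b q).1.2⁻¹ ∈ V := fun q =>
    QuotientGroup.eq_iff_div_mem.1 (congrArg Prod.snd (hb1 q)).symm |> (div_eq_mul_inv q.1.2 _ ▸ ·)
  refine Nat.card_le_card_of_injective (fun q => ⟨(⟨⟨_, m1 q⟩, (b q).1.1⟩, ⟨⟨_, m2 q⟩, (b q).1.2⟩),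
    SemidirectProduct.ext (Subtype.ext ?_) ?_⟩) fun q q' h => ?_
  · simp only [SemidirectProduct.mul_left, Subgroup.coe_mul, hφ]
    calc _ = q.1.1 * q.1.2 * ((b q).1.1 * (b q).1.2)⁻¹ := by group
      _ = _ := by rw [q.2.eq, (b q).2.eq]; group
  · simp only [SemidirectProduct.mul_right, ← QuotientGroup.mk_mul, (b q).2.eq]
  · have h1 : q.1.1 * (b q).1.1⁻¹ = q'.1.1 * (b q').1.1⁻¹ := congrArg (·.1.1.left.1) h
    have h2 : q.1.2 * (b q).1.2⁻¹ = q'.1.2 * (b q').1.2⁻¹ := congrArg (·.1.2.left.1) h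
    have e : b q = b q' := by
      have : π q = π q' := by
        rw [← hb1 q, ← hb1 q']
        exact Prod.ext (congrArg (·.1.1.right) h) (congrArg (·.1.2.right) h)
      rw [hb2 q q rfl, hb2 q' q this]
    rw [e] at h1 h2
    exact Subtype.ext (Prod.ext (mul_right_cancel h1) (mul_right_cancel h2))

theorem card_conj_add_le [Finite X] {p : ℕ} [hp : Fact p.Prime] (hVp : IsPGroup p V)
    (hidx : ¬ p ∣ V.index) (hab : ∀ a ∈ V, ∀ b ∈ V, a * b = b * a)
    (hGV : Subgroup.IsComplement' V G) {v : X} (hv : v ∈ V) :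
    Nat.card (ConjClasses X) + Nat.card G ≤
      Nat.card ↥(G ⊓ Subgroup.centralizer ({v} : Set X)) * Nat.card V +
        Nat.card (ConjClasses G) := by
  classical
  obtain ⟨k, hk⟩ := hVp.exists_card_eq
  have hG : ¬ p ∣ Nat.card G := by rwa [← hGV.symm.index_eq_card]
  have hcop : (Nat.card V).Coprime (Nat.card G) := by
    rw [hk]; exact ((Nat.Prime.coprime_iff_not_dvd hp.out).2 hG).pow_left _
  have hvk : v ^ p ^ k = 1 := by
    rw [← hk]; exact congrArg Subtype.val (pow_card_eq_one' (x := (⟨v, hv⟩ : V)))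
  have := Fintype.ofFinite X
  have h1 := card_cent_le hab hGV hcop hv rfl 1
  have h2 : Nat.card (Subgroup.centralizer ({v} : Set X)) ≤
      Nat.card ↥(G ⊓ Subgroup.centralizer ({v} : Set X)) * Nat.card V := by
    rw [Subgroup.coe_one, mul_one, mul_comm] at h1
    exact h1.trans (Nat.mul_le_mul (Nat.card_le_card_of_injective _ Subtype.val_injective)
      (Subgroup.card_le_of_le inf_le_left))
  have h3 : (Finset.univ.filter fun χ : IrrCharacter X => V ≤ charKer χ.1).card =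
      Nat.card (ConjClasses G) := by
    rw [← card_irr_eq_card_conjClasses, ← Fintype.card_subtype, ← Nat.card_eq_fintype_card]
    have e := irrDescendEquiv (hGV.symm.QuotientMulEquiv.toMonoidHom.comp (QuotientGroup.mk' V))
      (hGV.symm.QuotientMulEquiv.surjective.comp (QuotientGroup.mk'_surjective V))
    rw [← MonoidHom.comap_ker, (MonoidHom.ker_eq_bot_iff _).2 hGV.symm.QuotientMulEquiv.injective,
      MonoidHom.comap_bot, QuotientGroup.ker_mk'] at e
    exact (Nat.card_congr e).symm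
  have key := card_le_of_gal (Finset.univ.filter fun χ : IrrCharacter X => ¬ V ≤ charKer χ.1)
    (fun χ => χ.1 v) (Nat.card (Subgroup.centralizer ({v} : Set X)) - Nat.card G)
    (fun χ _ => χ.2.isCharacter.isIntegral v) (fun χ _ h => hidx ((dvd_degree_of_vanish hp.out
      χ.2.isCharacter hvk h χ.2.cast_charDegree.symm).trans (χ.2.charDegree_dvd_index V hab)))
    fun σ => ?_
  · have h4 := Finset.card_filter_add_card_filter_not (s := Finset.univ)
      fun χ : IrrCharacter X => V ≤ charKer χ.1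
    rw [h3, Finset.card_univ, ← Nat.card_eq_fintype_card, card_irr_eq_card_conjClasses] at h4
    have h5 : (Finset.univ.filter fun χ : IrrCharacter X => ¬ V ≤ charKer χ.1).card + Nat.card G ≤
      Nat.card (Subgroup.centralizer ({v} : Set X)) := by exact_mod_cast le_sub_iff_add_le.1 key
    omega
  · rw [← sum_norm_gal_col σ v, ← Finset.sum_filter_add_sum_filter_not Finset.univ
      fun χ : IrrCharacter X => V ≤ charKer χ.1, le_sub_iff_add_le, add_comm]
    refine add_le_add_left (le_of_eq ?_) _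
    have h4 := sum_degree_mul_apply_ker V 1
    rw [if_pos V.one_mem, hGV.symm.index_eq_card] at h4
    apply Complex.ofReal_injective
    rw [Complex.ofReal_natCast, ← h4, Complex.ofReal_sum]
    refine Finset.sum_congr rfl fun χ hχ => ?_
    rw [apply_of_mem_charKer ((Finset.mem_filter.1 hχ).2 hv), ← χ.2.cast_charDegree, map_natCast,
      Complex.norm_natCast]
    push_cast; ring

end grp

theorem not_pnil_mul {p m n : ℕ} (hp : p.Prime) (hm : ¬ p ∣ m) (hn : ¬ p ∣ n) {u : ℂ}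
    (hu : IsIntegral ℤ u⁻¹) (hu0 : u ≠ 0) : ¬ PNil p (u * m * n) := fun h => by
  have := h.mul_left hu
  rw [← mul_assoc, ← mul_assoc, inv_mul_cancel₀ hu0, one_mul, ← Nat.cast_mul] at this
  exact ((Nat.Prime.dvd_mul hp).1 (this.dvd_nat hp)).elim hm hn

/-- Knörr's criterion. -/
theorem knorr_crit {X : Type*} [Group X] [Finite X] {p : ℕ} [hp : Fact p.Prime] {V G : Subgroup X}
    [V.Normal] (hVp : IsPGroup p V) (hidx : ¬ p ∣ V.index)
    (hab : ∀ a ∈ V, ∀ b ∈ V, a * b = b * a) (hGV : Subgroup.IsComplement' V G) {v : X}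
    (hv : v ∈ V) {H : Subgroup X} (hH : H = G ⊓ Subgroup.centralizer ({v} : Set X)) [Fintype H]
    {g : H → ℂ} (hg : AS g)
    (hn : ∀ (σ : ℂ ≃+* ℂ) h, ‖σ (g h)‖ ^ 2 * Nat.card ↥(V ⊓ Subgroup.centralizer ({h.1} : Set X)) ≤
      Nat.card V) (h1 : IsIntegral ℤ (g 1)⁻¹) (h0 : g 1 ≠ 0) (hP : ∀ h, h ≠ 1 → PNil p (g h)) :
    Nat.card (ConjClasses X) ≤ Nat.card V := by
  classical
  have := Fintype.ofFinite X
  have hG : ¬ p ∣ Nat.card G := by rwa [← hGV.symm.index_eq_card]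
  have hH' : ¬ p ∣ Nat.card H := fun h => hG (h.trans (Subgroup.card_dvd_of_le (hH ▸ inf_le_left)))
  obtain ⟨k, hk⟩ := hVp.exists_card_eq
  have hcop : (Nat.card V).Coprime (Nat.card G) := by
    rw [hk]; exact ((Nat.Prime.coprime_iff_not_dvd hp.out).2 hG).pow_left _
  have hvk : v ^ p ^ k = 1 := by
    rw [← hk]; exact congrArg Subtype.val (pow_card_eq_one' (x := (⟨v, hv⟩ : V)))
  let F : IrrCharacter X → H → ℂ := fun χ => g * fun h : H => χ.1 (v * h)
  have hF : ∀ χ, AS (F χ) := fun χ => hg.mul (as_translate χ.2.isCharacter (hH ▸ inf_le_right))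
  have key := card_le_of_gal Finset.univ
    (fun q : IrrCharacter X × IrrCharacter H => classInner (F q.1) q.2.1)
    (Nat.card V * Nat.card (ConjClasses H)) (fun q _ => (hF q.1).2 _ q.2.2) (fun q _ h => ?_)
    fun σ => ?_
  · rw [Finset.card_univ, Fintype.card_prod, ← Nat.card_eq_fintype_card,
      ← Nat.card_eq_fintype_card, card_irr_eq_card_conjClasses, card_irr_eq_card_conjClasses]
      at key
    exact Nat.le_of_mul_le_mul_right (by exact_mod_cast key) Nat.card_pos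
  · obtain ⟨χ, ψ⟩ := q
    have e := card_mul_classInner (F χ) ψ.1
    simp only at h
    rw [h, mul_zero, ← Finset.add_sum_erase _ _ (Finset.mem_univ 1)] at e
    have h2 : PNil p (F χ 1 * conj (ψ.1 1)) := by
      rw [eq_neg_of_add_eq_zero_left e.symm]
      exact (pnil_sum _ _ fun h hh => ((hP h (Finset.ne_of_mem_erase hh)).mul_right
        (χ.2.isCharacter.isIntegral _)).mul_right
          (isIntegral_conj (ψ.2.isCharacter.isIntegral _))).neg
    have h3 := ((pnil_char_sub_one hp.out χ.2.isCharacter hvk).mul_left (hg.int 1)).mul_right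
      (isIntegral_conj (ψ.2.isCharacter.isIntegral 1))
    have h4 := h2.sub h3
    have h5 : F χ 1 * conj (ψ.1 1) - g 1 * (χ.1 v - χ.1 1) * conj (ψ.1 1) =
        g 1 * charDegree χ.1 * charDegree ψ.1 := by
      simp only [F, Pi.mul_apply, Subgroup.coe_one, mul_one]
      rw [← ψ.2.cast_charDegree, ← χ.2.cast_charDegree, Complex.conj_natCast]; ring
    rw [h5] at h4
    exact not_pnil_mul hp.out (fun h => hidx (h.trans (χ.2.charDegree_dvd_index V hab)))
      (fun h => hH' (h.trans ψ.2.charDegree_dvd_card)) h1 h0 h4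
  · rw [Fintype.sum_prod_type, Finset.sum_congr rfl fun χ _ => sum_norm_gal_inner (hF χ).1 σ,
      ← Finset.mul_sum, Finset.sum_comm, inv_mul_le_iff₀ (Nat.cast_pos.2 Nat.card_pos)]
    have e : (Nat.card H : ℝ) * (Nat.card V * Nat.card (ConjClasses H)) =
        ∑ h : H, (Nat.card V : ℝ) * Nat.card (Subgroup.centralizer ({h} : Set H)) := by
      rw [← Finset.mul_sum, ← Nat.cast_sum, sum_card_centralizer]; push_cast; ring
    rw [e]
    refine Finset.sum_le_sum fun h _ => ?_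
    simp only [F, Pi.mul_apply, map_mul, norm_mul, mul_pow]
    rw [← Finset.mul_sum, sum_norm_gal_col]
    refine le_trans (mul_le_mul_of_nonneg_left (Nat.cast_le.2 (card_cent_le hab hGV hcop hv hH h))
      (by positivity)) ?_
    rw [Nat.cast_mul, ← mul_assoc]
    exact mul_le_mul_of_nonneg_right (hn σ h) (by positivity)

end H34
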