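import Cfsg.Agent.H34.KgvA
import Cfsg.Agent.H49.ElemAbRep

/-!
# Irreducible modules of abelian groups over finite fields; Knörr's abelian stabilizer theorem
-/

set_option autoImplicit false
set_option linter.unusedSectionVars false

open scoped ComplexConjugate

namespace H34

open Cfsg H28 H29 H40 Module

universe v

theorem exists_end_field {F : Type*} [Field F] [Finite F] {H : Type*} [Group H]
    (hc : ∀ a b : H, a * b = b * a) {V : Type v} [AddCommGroup V] [Module F V]
    [FiniteDimensional F V] [Nontrivial V] (ρ : Representation F H V)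
    (hirr : ∀ U : Submodule F V, (∀ h : H, ∀ u ∈ U, ρ h u ∈ U) → U = ⊥ ∨ U = ⊤) :
    ∃ (E : Type v) (_ : Field E) (_ : Finite E) (_ : Algebra F E) (a : H →* Eˣ) (e : E ≃ₗ[F] V),
      (∀ h x, ρ h (e x) = e (a h * x)) ∧ Algebra.adjoin F (Set.range fun h => (a h : E)) = ⊤ := by
  let E := Algebra.adjoin F (Set.range ρ)
  have hcomm := Algebra.isMulCommutative_adjoin F (s := Set.range ρ) (by
    rintro _ ⟨a, rfl⟩ _ ⟨b, rfl⟩; rw [← map_mul, hc, map_mul])
  have : Finite V := Module.finite_of_finite F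
  have : Finite E := Finite.of_injective (fun x : E => (x.1 : V → V))
    (DFunLike.coe_injective.comp Subtype.val_injective)
  let ι : H →* E := ρ.codRestrict E fun h => Algebra.subset_adjoin ⟨h, rfl⟩
  have hinj : ∀ x : E, x ≠ 0 → ∀ v, x.1 v = 0 → v = 0 := fun x hx v hv => by
    refine (hirr (LinearMap.ker x.1) fun h u hu => ?_).elim (fun e => (Submodule.mem_bot F).1
      (e ▸ hv)) fun e => absurd (Subtype.ext (LinearMap.ker_eq_top.1 e)) hx
    have : x.1 (ρ h u) = ρ h (x.1 u) :=
      LinearMap.congr_fun (congrArg Subtype.val (hcomm.is_comm.comm x (ι h))) u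
    rw [LinearMap.mem_ker, this, LinearMap.mem_ker.1 hu, map_zero]
  let _ : CommRing E := { (inferInstance : Ring E) with mul_comm := hcomm.is_comm.comm }
  have : NoZeroDivisors E := ⟨fun {x y} h => or_iff_not_imp_left.2 fun hx =>
    Subtype.ext (LinearMap.ext fun v => hinj x hx _
      (LinearMap.congr_fun (congrArg Subtype.val h) v))⟩
  have : IsDomain E := NoZeroDivisors.to_isDomain E
  obtain ⟨v, hv⟩ := exists_ne (0 : V)
  let f : E →ₗ[F] V := LinearMap.applyₗ v ∘ₗ E.val.toLinearMap
  have hf : Function.Bijective f := ⟨(injective_iff_map_eq_zero f).2 fun x hx => by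
    by_contra h; exact hv (hinj x h v hx), LinearMap.range_eq_top.1 ((hirr _ (by
      rintro h _ ⟨x, rfl⟩; exact ⟨ι h * x, rfl⟩)).resolve_left fun e =>
        hv ((Submodule.mem_bot F).1 (e ▸ ⟨1, rfl⟩)))⟩
  refine ⟨E, (Finite.isField_of_domain E).toField, inferInstance, inferInstance, ι.toHomUnits,
    LinearEquiv.ofBijective f hf, fun h x => rfl, ?_⟩
  apply Subalgebra.map_injective (f := E.val) Subtype.val_injective
  rw [AlgHom.map_adjoin, Algebra.map_top, Subalgebra.range_val, ← Set.range_comp]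
  rfl

section selfdual

variable {F E H : Type*} [Field F] [Fintype F] [Field E] [Finite E] [Algebra F E] [Group H]
  {a : H →* Eˣ}

theorem exists_frob_of_form (ha : Algebra.adjoin F (Set.range fun h => (a h : E)) = ⊤)
    {B : LinearMap.BilinForm F E} (hB : B.Nondegenerate)
    (hi : ∀ h x y, B (a h * x) (a h * y) = B x y) :
    ∃ i < finrank F E, finrank F E ∣ 2 * i ∧ (∀ h, a h ^ (Fintype.card F ^ i + 1) = 1) ∧
      (i = 0 → finrank F E = 1) := by
  have h1 : ∀ s : E, ∃ t : E, ∀ x y, B (s * x) y = B x (t * y) := fun s => by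
    induction (ha.ge trivial : s ∈ _) using Algebra.adjoin_induction with
    | mem x hx =>
      obtain ⟨h, rfl⟩ := hx
      exact ⟨(a h)⁻¹, fun x y => by rw [← hi h x]; simp⟩
    | algebraMap r => exact ⟨algebraMap F E r, fun x y => by simp [← Algebra.smul_def]⟩
    | add s s' _ _ h h' =>
      obtain ⟨t, ht⟩ := h; obtain ⟨t', ht'⟩ := h'
      exact ⟨t + t', fun x y => by simp [add_mul, ht, ht']⟩
    | mul s s' _ _ h h' =>
      obtain ⟨t, ht⟩ := h; obtain ⟨t', ht'⟩ := h'
      exact ⟨t' * t, fun x y => by rw [mul_assoc, ht, ht', mul_assoc]⟩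
  choose t ht using h1
  have hu : ∀ s u, (∀ x y, B (s * x) y = B x (u * y)) → t s = u := fun s u h =>
    sub_eq_zero.1 (hB.2 _ fun x => by rw [map_sub, ← mul_one (t s), ← ht, h, mul_one, sub_self])
  let τ : E →ₐ[F] E :=
    { toFun := t
      map_one' := hu _ _ (by simp)
      map_mul' := fun s s' => hu _ _ fun x y => by rw [mul_assoc, ht, ht, mul_left_comm, mul_assoc]
      map_zero' := hu _ _ (by simp)
      map_add' := fun s s' => hu _ _ fun x y => by simp [add_mul, ht]
      commutes' := fun r => hu _ _ fun x y => by simp [← Algebra.smul_def] }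
  have hτ : ∀ h, τ (a h) = (a h : E)⁻¹ := fun h => hu _ _ fun x y => by rw [← hi h x]; simp
  obtain ⟨i, hi'⟩ := (FiniteField.bijective_frobeniusAlgHom_pow F E).2 τ
  have hp : ∀ h, a h ^ (Fintype.card F ^ i.1 + 1) = 1 := fun h => Units.ext (by
    have := hτ h
    rw [← hi', AlgHom.coe_pow, FiniteField.coe_frobeniusAlgHom, pow_iterate] at this
    simp only at this
    rw [Units.val_pow_eq_pow_val, pow_succ, this, Units.inv_mul', Units.val_one])
  refine ⟨i, i.2, ?_, hp, fun h0 => ?_⟩
  · refine (FiniteField.orderOf_frobeniusAlgHom F E).symm.dvd.trans ?_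
    simp only at hi'
    rw [orderOf_dvd_iff_pow_eq_one, mul_comm, pow_mul, hi']
    refine AlgHom.ext_of_adjoin_eq_top ha ?_
    rintro _ ⟨h, rfl⟩
    rw [sq, AlgHom.mul_apply, hτ, map_inv₀, hτ, inv_inv, AlgHom.one_apply]
  · rw [← Subalgebra.bot_eq_top_iff_finrank_eq_one, eq_top_iff, ← ha, Algebra.adjoin_le_iff]
    rintro _ ⟨h, rfl⟩
    have := congrArg Units.val (hp h)
    rw [h0, pow_zero, Units.val_pow_eq_pow_val, Units.val_one] at this
    rcases sq_eq_one_iff.1 this with e | e
    · simp only [e]; exact one_mem _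
    · simp only [e]; exact neg_mem (one_mem _)

theorem exists_form_of_frob {i : ℕ} (hp : ∀ h, a h ^ (Fintype.card F ^ i + 1) = 1) :
    ∃ B : LinearMap.BilinForm F E, B.Nondegenerate ∧ ∀ h x y, B (a h * x) (a h * y) = B x y := by
  let τ := FiniteField.frobeniusAlgHom F E ^ i
  refine ⟨(Algebra.traceForm F E).compRight τ.toLinearMap, .ofSeparatingRight fun y hy =>
    (map_eq_zero τ).1 ((traceForm_nondegenerate F E).2 _ hy), fun h x y => ?_⟩
  have : (a h : E) * τ (a h) = 1 := by
    rw [AlgHom.coe_pow, FiniteField.coe_frobeniusAlgHom, pow_iterate, ← pow_succ',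
      ← Units.val_pow_eq_pow_val, hp, Units.val_one]
  simp only [LinearMap.BilinForm.compRight_apply, Algebra.traceForm_apply, AlgHom.toLinearMap_apply,
    map_mul]
  rw [mul_mul_mul_comm, this, one_mul]

theorem card_dvd_of_pow [Finite H] (ha : Function.Injective a) {n : ℕ} (hp : ∀ h, a h ^ n = 1) :
    Nat.card H ∣ n := by
  have := isCyclic_of_injective a ha
  rw [← IsCyclic.exponent_eq_card]
  exact Monoid.exponent_dvd_of_forall_pow_eq_one fun h => ha (by rw [map_pow, hp, map_one])

end selfdual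

theorem selfdual_abelian {F : Type*} [Field F] [Fintype F] {H : Type*} [CommGroup H] [Finite H]
    {V : Type*} [AddCommGroup V] [Module F V] [FiniteDimensional F V] [Nontrivial V]
    (ρ : Representation F H V) (hfaith : Function.Injective ρ)
    (hirr : ∀ U : Submodule F V, (∀ h : H, ∀ u ∈ U, ρ h u ∈ U) → U = ⊥ ∨ U = ⊤) :
    ((∃ B : LinearMap.BilinForm F V, B.Nondegenerate ∧ ∀ h x y, B (ρ h x) (ρ h y) = B x y) →
      ∃ i < finrank F V, finrank F V ∣ 2 * i ∧ Nat.card H ∣ Fintype.card F ^ i + 1 ∧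
        (i = 0 → finrank F V = 1)) ∧ ∀ i, Nat.card H ∣ Fintype.card F ^ i + 1 →
      ∃ B : LinearMap.BilinForm F V, B.Nondegenerate ∧ ∀ h x y, B (ρ h x) (ρ h y) = B x y := by
  obtain ⟨E, _, _, _, a, e, h1, h2⟩ := exists_end_field mul_comm ρ hirr
  have ha : Function.Injective a := fun x y h => hfaith (LinearMap.ext fun v => by
    obtain ⟨v, rfl⟩ := e.surjective v
    rw [h1, h1, h])
  rw [← e.finrank_eq]
  refine ⟨fun ⟨B, b1, b2⟩ => ?_, fun i hi => ?_⟩
  · obtain ⟨i, i1, i2, i3, i4⟩ := exists_frob_of_form h2 (b1.congr e.symm) fun h x y => by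
      simp [← h1, b2]
    exact ⟨i, i1, i2, card_dvd_of_pow ha i3, i4⟩
  · obtain ⟨B, b1, b2⟩ := exists_form_of_frob (F := F) (a := a) (i := i) fun h => by
      rw [← map_pow, orderOf_dvd_iff_pow_eq_one.1 ((orderOf_dvd_natCard h).trans hi), map_one]
    refine ⟨_, b1.congr e, fun h x y => ?_⟩
    obtain ⟨x, rfl⟩ := e.surjective x
    obtain ⟨y, rfl⟩ := e.surjective y
    simp [h1, b2]

section good

variable {p : ℕ} [hp : Fact p.Prime] {H : Type*} [Group H] [Fintype H]

/-- A class function suited for Knörr's criterion. -/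
structure KGood {V : Type*} [AddCommGroup V] [Module (ZMod p) V] (ρ : Representation (ZMod p) H V)
    (g : H → ℂ) : Prop where
  as : AS g
  le : ∀ (σ : ℂ ≃+* ℂ) h, ‖σ (g h)‖ ^ 2 * Nat.card {x // ρ h x = x} ≤ Nat.card V
  int : IsIntegral ℤ (g 1)⁻¹
  ne : g 1 ≠ 0
  nil : ∀ h, ρ h ≠ 1 → PNil p (g h)

variable {V : Type v} [AddCommGroup V] [Module (ZMod p) V] [Finite V]
  {ρ : Representation (ZMod p) H V}

theorem good_triv (h : ∀ x, ρ x = 1) : KGood ρ 1 :=
  ⟨as_one, fun σ x => by
    simpa using Nat.card_le_card_of_injective _ (Subtype.val_injective (p := fun v => ρ x v = v)),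
    by simpa using isIntegral_one, one_ne_zero, fun x hx => absurd (h x) hx⟩

theorem KGood.mul {U U' : Subrepresentation ρ} (hc : IsCompl U.toSubmodule U'.toSubmodule)
    {g g' : H → ℂ} (h : KGood U.toRepresentation g) (h' : KGood U'.toRepresentation g') :
    KGood ρ (g * g') := by
  let e := Submodule.prodEquivOfIsCompl _ _ hc
  have he : ∀ x q, ρ x (e q) = e (U.toRepresentation x q.1, U'.toRepresentation x q.2) :=
    fun x q => map_add (ρ x) _ _
  refine ⟨h.as.mul h'.as, fun σ x => ?_, by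
    rw [Pi.mul_apply, mul_inv]; exact h.int.mul h'.int, mul_ne_zero h.ne h'.ne, fun x hx => ?_⟩
  · have h1 : Nat.card {v // ρ x v = v} ≤ Nat.card {v // U.toRepresentation x v = v} *
        Nat.card {v // U'.toRepresentation x v = v} := by
      rw [← Nat.card_prod]
      have key : ∀ v : {v // ρ x v = v}, (U.toRepresentation x (e.symm v).1,
          U'.toRepresentation x (e.symm v).2) = e.symm v := fun v =>
        e.injective (by rw [← he, e.apply_symm_apply, v.2])
      exact Nat.card_le_card_of_injective (fun v => (⟨(e.symm v).1, congrArg Prod.fst (key v)⟩,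
        ⟨(e.symm v).2, congrArg Prod.snd (key v)⟩)) fun a b hab => Subtype.ext (e.symm.injective
          (Prod.ext (congrArg (·.1.1) hab) (congrArg (·.2.1) hab)))
    rw [← Nat.card_congr e.toEquiv, Nat.card_prod, Nat.cast_mul, Pi.mul_apply, map_mul, norm_mul,
      mul_pow]
    refine (mul_le_mul_of_nonneg_left (Nat.cast_le.2 h1) (by positivity)).trans ?_
    rw [Nat.cast_mul, mul_mul_mul_comm]
    exact mul_le_mul (h.le σ x) (h'.le σ x) (by positivity) (by positivity)
  · by_cases h1 : U.toRepresentation x = 1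
    · refine (h'.nil x fun h2 => hx (LinearMap.ext fun v => ?_)).mul_left (h.as.int x)
      obtain ⟨q, rfl⟩ := e.surjective v
      rw [he, h1, h2]; rfl
    · exact (h.nil x h1).mul_right (h'.as.int x)

theorem norm_gaussSum_sq {E : Type*} [Field E] [Fintype E] {χ : MulChar E ℂ} (hχ : χ ≠ 1)
    {ψ : AddChar E ℂ} (hψ : ψ.IsPrimitive) (σ : ℂ ≃+* ℂ) :
    ‖σ (gaussSum χ ψ)‖ ^ 2 = Fintype.card E := by
  have e : σ (gaussSum χ ψ) = gaussSum (χ.ringHomComp σ.toRingHom)
      (σ.toRingHom.toMonoidHom.compAddChar ψ) := by simp [gaussSum]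
  have := gaussSum_mul_gaussSum_eq_card ((MulChar.ringHomComp_ne_one_iff (f := σ.toRingHom) σ.injective).2 hχ)
    (hψ.compMulHom_of_isPrimitive (f := σ.toRingHom.toMonoidHom) σ.injective)
  rw [← star_gaussSum_eq, ← e, Complex.star_def, Complex.mul_conj, Complex.normSq_eq_norm_sq] at this
  exact_mod_cast this

theorem exists_good_irr (hc : ∀ a b : H, a * b = b * a) [Nontrivial V]
    (hirr : ∀ U : Submodule (ZMod p) V, (∀ h : H, ∀ u ∈ U, ρ h u ∈ U) → U = ⊥ ∨ U = ⊤) :
    ∃ g, KGood ρ g := by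
  classical
  obtain ⟨E, _, _, _, a, e, h1, -⟩ := exists_end_field hc ρ hirr
  have := Fintype.ofFinite E
  have : CharP E p := charP_of_injective_algebraMap (algebraMap (ZMod p) E).injective p
  have : NeZero ((Monoid.exponent Eˣ : ℕ) : ℂ) := ⟨Nat.cast_ne_zero.2 Monoid.exponent_ne_zero_of_finite⟩
  obtain ⟨m⟩ := MulChar.mulEquiv_units E ℂ
  let ψ := AddChar.FiniteField.primitiveChar_to_Complex E
  have hψ : ψ.IsPrimitive := AddChar.FiniteField.primitiveChar_to_Complex_isPrimitive E
  have hψ1 : ψ ≠ 1 := by simpa using hψ (a := 1) one_ne_zero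
  have hψp : ∀ x, ψ x ^ p ^ 1 = 1 := fun x => by
    rw [pow_one, ← AddChar.map_nsmul_eq_pow, nsmul_eq_mul, CharP.cast_eq_zero, zero_mul,
      AddChar.map_zero_eq_one]
  have hψi : ∀ x, IsIntegral ℤ (ψ x) := fun x =>
    IsIntegral.of_pow (pow_pos hp.out.pos 1) (by rw [hψp]; exact isIntegral_one)
  let χ : H →* MulChar E ℂ := m.symm.toMonoidHom.comp a
  have hl : ∀ x : E, AS fun h => χ h x := fun x => by
    by_cases hx : x = 0
    · convert (as_one (H := H)).smul isIntegral_zero using 1
      ext h; simp [hx, MulChar.map_zero]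
    · exact as_char (isIrrCharacter_of_hom (MonoidHom.toHomUnits
        { toFun := fun h => χ h x
          map_one' := by rw [map_one, MulChar.one_apply (Ne.isUnit hx)]
          map_mul' := fun a b => by rw [map_mul, MulChar.mul_apply] })).isCharacter
  have e1 : gaussSum (χ 1) ψ = -1 := by rw [map_one, gaussSum_one_left hψ1]
  refine ⟨fun h => gaussSum (χ h) ψ, ?_, fun σ h => ?_,
    by rw [e1, inv_neg_one]; exact isIntegral_one.neg, by rw [e1]; simp, fun h hh => ?_⟩
  · convert as_sum Finset.univ fun x _ => (hl x).smul (hψi x) using 1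
    ext h; simp [gaussSum, mul_comm]
  · by_cases hh : a h = 1
    · rw [show χ h = 1 by simp [χ, hh], gaussSum_one_left hψ1]
      simpa using Nat.card_le_card_of_injective _ (Subtype.val_injective (p := fun v => ρ h v = v))
    · have : Subsingleton {x // ρ h x = x} := by
        have key : ∀ x, ρ h x = x → x = 0 := fun x hx => by
          obtain ⟨x, rfl⟩ := e.surjective x
          rw [h1, e.injective.eq_iff] at hx
          by_contra h0
          exact hh (Units.ext (mul_left_eq_self₀.1 hx |>.resolve_right fun h => h0 (by simp [h])))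
        exact ⟨fun x y => Subtype.ext ((key _ x.2).trans (key _ y.2).symm)⟩
      rw [norm_gaussSum_sq (by simpa [χ] using hh) hψ, ← Nat.card_congr e.toEquiv,
        Nat.card_eq_fintype_card (α := E)]
      exact mul_le_of_le_one_right (by positivity)
        (by exact_mod_cast Finite.card_le_one_iff_subsingleton.2 this)
  · have hh' : χ h ≠ 1 := fun h0 => hh (LinearMap.ext fun v => by
      obtain ⟨x, rfl⟩ := e.surjective v
      rw [h1, show a h = 1 by simpa [χ] using h0]; simp)
    have : gaussSum (χ h) ψ = ∑ x, χ h x * (ψ x - 1) := by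
      simp only [mul_sub, Finset.sum_sub_distrib, mul_one, MulChar.sum_eq_zero_of_ne_one hh',
        sub_zero, gaussSum]
    rw [this]
    exact pnil_sum _ _ fun x _ => (pnil_sub_one hp.out (hψp x)).mul_left ((hl x).int h)

theorem exists_good_of_comm (hc : ∀ a b : H, a * b = b * a) (hH : ¬ p ∣ Nat.card H)
    (ρ : Representation (ZMod p) H V) : ∃ g, KGood ρ g := by
  have : NeZero (Nat.card H : ZMod p) := ⟨fun h => hH ((ZMod.natCast_eq_zero_iff _ _).1 h)⟩
  have : FiniteDimensional (ZMod p) V := Module.Finite.of_finite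
  refine rep_induction (P := fun V _ _ _ ρ => ∃ g, KGood ρ g) (fun V _ _ _ _ ρ => ?_)
    (fun V _ _ _ ρ U U' hU hc' ⟨g', hg'⟩ => ?_) V ρ
  · exact ⟨1, good_triv fun _ => Subsingleton.elim _ _⟩
  · have : Finite V := Module.finite_of_finite (ZMod p)
    obtain ⟨_, h⟩ := (isIrreducible_iff_submodule _).1 hU
    obtain ⟨g, hg⟩ := exists_good_irr hc h
    exact ⟨_, hg.mul hc' hg'⟩

end good

/-- Knörr's criterion from a faithful submodule. -/
theorem knorr_of_good {X : Type*} [Group X] [Finite X] {p : ℕ} [hp : Fact p.Prime]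
    {V G : Subgroup X} [V.Normal] (hVexp : ∀ v ∈ V, v ^ p = 1) (hidx : ¬ p ∣ V.index)
    (hself : Subgroup.centralizer (V : Set X) = V) (hGV : Subgroup.IsComplement' V G) {v : X}
    (hv : v ∈ V) {H : Subgroup X} (hH : H = G ⊓ Subgroup.centralizer ({v} : Set X)) [Fintype H]
    {U : Subgroup X} (hUV : U ≤ V) (ea : H49.IsEA p U) (φ : H →* MulAut U)
    (hφ : ∀ h u, (φ h u : X) = h * u * (h : X)⁻¹) (hf : Function.Injective φ) {g : H → ℂ}
    (hg : KGood (ea.rep φ) g) : Nat.card (ConjClasses X) ≤ Nat.card V := by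
  refine knorr_crit (fun x => ⟨1, Subtype.ext (by simpa using hVexp x x.2)⟩) hidx
    (fun a ha b hb => (hself.ge hb a ha)) hGV hv hH hg.as (fun σ h => ?_) hg.int hg.ne
    fun h hh => hg.nil h fun e => hh (hf (((ea.rep_eq_one_iff φ h).1 e).trans (map_one φ).symm))
  have h1 := hg.le σ h
  set C := Subgroup.centralizer ({h.1} : Set X)
  have h2 : Nat.card {x // ea.rep φ h x = x} = Nat.card ↥(U ⊓ C) := by
    rw [← Nat.card_congr (Subgroup.subgroupOfEquivOfLe (inf_le_left : U ⊓ C ≤ U)).toEquiv]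
    refine Nat.card_congr (ea.of.subtypeEquiv fun u => ?_).symm
    rw [ea.rep_of, ea.of.apply_eq_iff_eq, Subtype.ext_iff, hφ, Subgroup.mem_subgroupOf,
      Subgroup.mem_inf, mem_centralizer_singleton, mul_inv_eq_iff_eq_mul, eq_comm]
    exact and_iff_right u.2
  have h3 : ∀ W : Subgroup X, (Nat.card W : ℝ) = C.relIndex W * Nat.card ↥(W ⊓ C) := fun W => by
    rw [← (C.subgroupOf W).index_mul_card, Nat.cast_mul, inf_comm,
      ← Nat.card_congr (Subgroup.subgroupOfEquivOfLe (inf_le_right : C ⊓ W ≤ W)).toEquiv,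
      Subgroup.inf_subgroupOf_right]
    rfl
  rw [h2, ea.card_V, h3 U] at h1
  rw [h3 V]
  refine mul_le_mul_of_nonneg_right ((le_of_mul_le_mul_right h1 (Nat.cast_pos.2 Nat.card_pos)).trans
    (Nat.cast_le.2 (Subgroup.relIndex_le_of_le_right hUV Subgroup.index_ne_zero_of_finite)))
    (by positivity)

theorem knorr_abelian {X : Type*} [Group X] [Finite X] {p : ℕ} [hp : Fact p.Prime]
    {V G : Subgroup X} [V.Normal] (hVexp : ∀ v ∈ V, v ^ p = 1) (hidx : ¬ p ∣ V.index)
    (hself : Subgroup.centralizer (V : Set X) = V) (hGV : Subgroup.IsComplement' V G) {v : X}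
    (hv : v ∈ V) (hab : ∀ a ∈ G ⊓ Subgroup.centralizer ({v} : Set X),
      ∀ b ∈ G ⊓ Subgroup.centralizer ({v} : Set X), a * b = b * a) :
    Nat.card (ConjClasses X) ≤ Nat.card V := by
  have := Fintype.ofFinite ↥(G ⊓ Subgroup.centralizer ({v} : Set X))
  have ea : H49.IsEA p V := ⟨fun a b => Subtype.ext (hself.ge b.2 a a.2),
    fun a => Subtype.ext (hVexp a a.2)⟩
  let φ := (MulAut.conjNormal (H := V)).comp (G ⊓ Subgroup.centralizer ({v} : Set X)).subtype
  obtain ⟨g, hg⟩ := exists_good_of_comm (H := ↥(G ⊓ Subgroup.centralizer ({v} : Set X)))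
    (fun a b => Subtype.ext (hab a a.2 b b.2))
    (fun h => hidx (hGV.symm.index_eq_card ▸ h.trans (Subgroup.card_dvd_of_le inf_le_left)))
    (ea.rep φ)
  refine knorr_of_good hVexp hidx hself hGV hv rfl le_rfl ea φ (fun _ _ => rfl)
    ((injective_iff_map_eq_one φ).2 fun h hh => Subtype.ext
      (Subgroup.disjoint_def.1 hGV.disjoint (hself.le fun u hu => ?_) h.2.1)) hg
  exact (mul_inv_eq_iff_eq_mul.1 (congrArg Subtype.val (DFunLike.congr_fun hh ⟨u, hu⟩))).symm

end H34
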