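import Cfsg.Agent.H47.P4Sp
import Cfsg.Agent.H11.SL2Act
import Cfsg.Agent.H38.Knorr
import Cfsg.Agent.H98.Coprime

/-! Job Sg1 of the blueprint `LOCAL3C.md`: the `q + 1` conjugates of `Z` in `N(M)`. -/

set_option autoImplicit false
open Cfsg H56.L3 H47.P4C Subgroup

namespace H34.P4

universe u v

variable {G : Type u} [Group G] {F : Type v} [Field F] {h : F → F → F → G} {ι : SL2 F →* G}

section
variable (κ : Cen h ι)
include κ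

theorem ext {a b c a' b' c' : F} {A A' : SL2 F} (e : h a b c * ι A = h a' b' c' * ι A') :
    a = a' ∧ b = b' ∧ c = c' ∧ A = A' := by
  have : (h a' b' c')⁻¹ * h a b c * ι (A * A'⁻¹) = 1 := by
    rw [map_mul, map_inv, mul_assoc, ← mul_assoc (h a b c), e]; group
  rw [κ.inv, κ.mul] at this
  obtain ⟨h1, h2, h3, h4⟩ := κ.inj _ _ _ _ this
  obtain rfl : a = a' := by linear_combination h1
  obtain rfl : b = b' := by linear_combination h2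
  exact ⟨rfl, rfl, by linear_combination h3, mul_inv_eq_one.1 h4⟩

theorem ext0 {a b c a' b' c' : F} (e : h a b c = h a' b' c') : a = a' ∧ b = b' ∧ c = c' :=
  have := ext κ (A := 1) (A' := 1) (congrArg (· * ι 1) e)
  ⟨this.1, this.2.1, this.2.2.1⟩

theorem zadd (x y : F) : h 0 0 x * h 0 0 y = h 0 0 (x + y) := by rw [κ.mul]; simp

theorem yconj (a b c s : F) : h 0 b 0 * (h a 0 c * ι (uM s)) * (h 0 b 0)⁻¹ =
    h (a - s * b) 0 (c - 2 * a * b + s * b ^ 2) * ι (uM s) := by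
  rw [κ.inv, ← mul_assoc, κ.mul, mul_assoc, κ.comm, ← mul_assoc, κ.mul]
  congr 2 <;> simp [uM] <;> ring

theorem tconj (a b c : F) : ι (-1) * h a b c * (ι (-1))⁻¹ = h (-a) (-b) c := by
  rw [κ.act]; simp

theorem dconj0 (l : Fˣ) (a c : F) : ι (dM l) * h a 0 c * (ι (dM l))⁻¹ = h (l * a) 0 c := by
  rw [κ.act]; simp [dM]

theorem dconj (l : Fˣ) (a c s : F) : ι (dM l) * (h a 0 c * ι (uM s)) * (ι (dM l))⁻¹ =
    h (l * a) 0 c * ι (uM (l ^ 2 * s)) := by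
  have : uM (l ^ 2 * s) = dM l * uM s * (dM l)⁻¹ := by
    rw [dM_inv]
    ext i j
    rw [Matrix.SpecialLinearGroup.coe_mul, Matrix.SpecialLinearGroup.coe_mul]
    fin_cases i <;> fin_cases j <;> simp [dM, uM, Matrix.mul_apply, Fin.sum_univ_two]
    ring
  rw [this, ← dconj0 κ, map_mul, map_mul, map_inv]; group

theorem hP (a b c : F) : h a b c ∈ κ.P := ⟨a, b, c, 0, by rw [uM_zero, map_one, mul_one]⟩

theorem hM (a c : F) : h a 0 c ∈ κ.M := ⟨a, c, 0, by rw [uM_zero, map_one, mul_one]⟩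

theorem M_le_P : κ.M ≤ κ.P := fun _ ⟨a, c, s, e⟩ => ⟨a, 0, c, s, e⟩

theorem zt (x : F) : h 0 0 x ∈ Ce (ι (-1)) := by
  rw [mem_centralizer_singleton_iff, eq_comm, ← mul_inv_eq_iff_eq_mul, tconj κ, neg_zero]

omit κ in
theorem tt : ι (-1) * ι (-1) = 1 := by rw [← map_mul, neg_mul_neg, mul_one, map_one]

theorem ι_inj {A : SL2 F} (e : ι A = 1) : A = 1 := (κ.inj 0 0 0 A (by rw [κ.one, e, one_mul])).2.2.2

theorem dN (l : Fˣ) : ι (dM l) ∈ Nr κ.M ⊓ Ce (ι (-1)) ⊓ Ce (h 0 0 1) := by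
  have key : ∀ l : Fˣ, ∀ m ∈ κ.M, ι (dM l) * m * (ι (dM l))⁻¹ ∈ κ.M := by
    rintro l _ ⟨a, c, s, rfl⟩
    exact ⟨_, _, _, dconj κ l a c s⟩
  refine ⟨⟨fun m => ⟨key l m, fun hm => ?_⟩, ?_⟩, (κ.cen 1 one_ne_zero _).2 ⟨0, 0, 0, dM l, ?_⟩⟩
  · have := key l⁻¹ _ hm
    rwa [← dM_inv, map_inv, inv_inv, ← mul_assoc, ← mul_assoc, inv_mul_cancel, one_mul,
      inv_mul_cancel_right] at this
  · exact mem_centralizer_singleton_iff.2 (by rw [← map_mul, ← map_mul, mul_neg, neg_mul, mul_one, one_mul])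
  · rw [κ.one, one_mul]

end

variable [Finite G] [Fintype F] {p : ℕ} [hp : Fact p.Prime] {κ : Cen h ι} (l : Loc κ p)
include l

omit [Finite G] hp in
theorem P_le {g : G} (hg : g ∈ κ.P) : g ∈ Nr κ.M ∧ g ∈ Nr κ.Z := mem_inf.1 (l.nP (le_normalizer hg))

omit [Finite G] hp in
theorem ce_le {x : F} (hx : x ≠ 0) : Ce (h 0 0 x) ≤ Nr κ.Z := fun g hg =>
  l.ti g x x hx (mul_inv_eq_iff_eq_mul.2 (mem_centralizer_singleton_iff.1 hg))

omit [Finite G] hp in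
/-- a conjugate of `Z` in `M` other than `Z` meets `Q` trivially -/
theorem notQ (h2 : (2 : F) ≠ 0) (hc : TwoCl h) {g : G} (hg : g ∈ Nr κ.M) (hZ : g ∉ Nr κ.Z) {x a c : F}
    (hx : x ≠ 0) (e : g * h 0 0 x * g⁻¹ = h a 0 c) : False := by
  have ha : a ≠ 0 := fun h0 => hZ (l.ti g x c hx (h0 ▸ e))
  have e1 := yconj κ a (c / (2 * a)) c 0
  rw [uM_zero, map_one, mul_one, mul_one, zero_mul, sub_zero, zero_mul, add_zero,
    mul_div_cancel₀ _ (mul_ne_zero h2 ha), sub_self, ← e] at e1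
  have hk : h 0 (c / (2 * a)) 0 * g ∈ Nr κ.M := mul_mem (P_le l (hP κ ..)).1 hg
  generalize hk' : h 0 (c / (2 * a)) 0 * g = k at hk
  have e2 : k * h 0 0 x * k⁻¹ = h a 0 0 := by rw [← e1, ← hk']; group
  clear e1 hk' e hZ hg
  have e3 : k⁻¹ * ι (-1) * k * h 0 0 x * (k⁻¹ * ι (-1) * k)⁻¹ = h 0 0 (-x) := by
    have := tconj κ a 0 0
    rw [← neg_zero, ← κ.inv, neg_zero, ← e2] at this
    rw [← neg_zero, ← κ.inv, neg_zero]
    calc _ = k⁻¹ * (ι (-1) * (k * h 0 0 x * k⁻¹) * (ι (-1))⁻¹) * k := by group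
      _ = _ := by rw [this]; group
  have hT := l.ti _ _ _ hx e3
  have key : ∀ y, y ≠ 0 → ∃ b, b ≠ 0 ∧ k * h 0 0 y * k⁻¹ = h b 0 0 := fun y hy => by
    obtain ⟨y', hy'⟩ := (hT _).1 (⟨y, rfl⟩ : h 0 0 y ∈ κ.Z)
    have hs : y' = -y := by
      by_contra hne
      have hC : k⁻¹ * ι (-1) * k ∈ Ce (h 0 0 (y + y')) := by
        rw [mem_centralizer_singleton_iff, ← mul_inv_eq_iff_eq_mul, ← zadd κ, ← conj_mul, hy', ← hy',
          show ∀ s z : G, s * (s * z * s⁻¹) * s⁻¹ = (s * s) * z * (s * s)⁻¹ from fun s z => by group,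
          show k⁻¹ * ι (-1) * k * (k⁻¹ * ι (-1) * k) = k⁻¹ * (ι (-1) * ι (-1)) * k by group, tt, hy']
        simp only [mul_one, inv_mul_cancel, one_mul, inv_one, zadd κ, add_comm]
      have := mem_centralizer_singleton_iff.1 ((κ.cen x hx _).2 ((κ.cen _ (fun h0 => hne
        (by linear_combination h0)) _).1 hC))
      rw [mul_inv_eq_iff_eq_mul.2 this] at e3
      exact mul_ne_zero h2 hx (by linear_combination (ext0 κ e3).2.2)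
    obtain ⟨b, hb⟩ := (l.Bt _ ((hk _).1 (hM κ 0 y))).1 (by
      rw [hs, ← neg_zero, ← κ.inv, neg_zero] at hy'
      calc _ = k * (k⁻¹ * ι (-1) * k * h 0 0 y * (k⁻¹ * ι (-1) * k)⁻¹) * k⁻¹ := by group
        _ = _ := by rw [hy']; group)
    refine ⟨b, fun h0 => hy ?_, hb⟩
    rw [h0, κ.one, conj_eq_one_iff, ← κ.one] at hb
    exact (ext0 κ hb).2.2
  obtain ⟨y, z, hy, hz, hn⟩ := hc
  obtain ⟨b, hb, eb⟩ := key y hy
  obtain ⟨b', hb', eb'⟩ := key z hz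
  have := dconj0 κ (Units.mk0 (b' / b) (div_ne_zero hb' hb)) b 0
  rw [Units.val_mk0, div_mul_cancel₀ _ hb, ← eb, ← eb'] at this
  exact hn (((isConj_iff.2 ⟨k, rfl⟩).trans (isConj_iff.2 ⟨_, this⟩)).trans (isConj_iff.2 ⟨k, rfl⟩).symm)

omit [Finite G] hp in
theorem coord (h2 : (2 : F) ≠ 0) (hc : TwoCl h) {g : G} (hg : g ∈ Nr κ.M) (hZ : g ∉ Nr κ.Z) {x : F}
    (hx : x ≠ 0) : ∃ a c s, s ≠ 0 ∧ g * h 0 0 x * g⁻¹ = h a 0 c * ι (uM s) := by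
  obtain ⟨a, c, s, e⟩ := (hg _).1 (hM κ 0 x)
  refine ⟨a, c, s, fun h0 => notQ l h2 hc hg hZ hx (a := a) (c := c) ?_, e⟩
  rw [e, h0, uM_zero, map_one, mul_one]

omit [Finite G] hp in
theorem zD {g : G} (hg : g ∈ Ce (ι (-1)) ⊓ Nr κ.M) (x : F) : g * h 0 0 x * g⁻¹ ∈ κ.D :=
  l.Mt.le ⟨(hg.2 _).1 (hM κ 0 x), (Ce _).mul_mem (mul_mem (mem_inf.1 hg).1 (zt κ x)) (inv_mem (mem_inf.1 hg).1)⟩

omit [Finite G] hp in
theorem toT (h2 : (2 : F) ≠ 0) {g : G} (hg : g⁻¹ * ι (-1) * g ∈ Ce (h 0 0 1)) :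
    ∃ u ∈ κ.P, g * u ∈ Ce (ι (-1)) := by
  obtain ⟨_, ⟨a, b, c, rfl⟩, e⟩ := l.invo _ ((κ.cen 1 one_ne_zero _).1 hg)
    (by rw [show g⁻¹ * ι (-1) * g * (g⁻¹ * ι (-1) * g) = g⁻¹ * (ι (-1) * ι (-1)) * g by group, tt]; group)
    fun e => by
      have := congrFun₂ (congrArg Subtype.val (ι_inj κ (A := -1) (by
        rw [← inv_inv g, inv_inv, conj_eq_one_iff] at e; exact e))) 0 0
      simp at this
      exact h2 (by linear_combination -this)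
  refine ⟨_, hP κ a b c, mem_centralizer_singleton_iff.2 ?_⟩
  calc _ = g * (h a b c * ι (-1) * (h a b c)⁻¹) * h a b c := by group
    _ = _ := by rw [← e]; group

omit [Finite G] hp in
theorem dec (h2 : (2 : F) ≠ 0) (hc : TwoCl h) {g : G} (hg : g ∈ Nr κ.M) (hZ : g ∉ Nr κ.Z) :
    ∃ b, ∃ n ∈ Ce (ι (-1)) ⊓ Nr κ.M, n ∉ Nr κ.Z ∧ n⁻¹ * (h 0 b 0)⁻¹ * g ∈ Nr κ.Z := by
  obtain ⟨a, c, s, hs, e⟩ := coord l h2 hc hg hZ one_ne_zero
  have e1 := yconj κ a (a / s) c s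
  rw [mul_div_cancel₀ _ hs, sub_self, ← e] at e1
  have h1 := mem_centralizer_singleton_iff.1 (l.Mt.ge ⟨_, _, e1⟩).2
  obtain ⟨u, hu, hn⟩ := toT l h2 (g := h 0 (a / s) 0 * g) (mem_centralizer_singleton_iff.2 (by
    calc _ = (h 0 (a / s) 0 * g)⁻¹ * (ι (-1) * (h 0 (a / s) 0 * (g * h 0 0 1 * g⁻¹) * (h 0 (a / s) 0)⁻¹)) *
          (h 0 (a / s) 0 * g) := by group
      _ = _ := by rw [← h1]; group))
  refine ⟨-(a / s), _, ⟨hn, mul_mem (mul_mem (P_le l (hP κ ..)).1 hg) (P_le l hu).1⟩, fun hn => hZ ?_, ?_⟩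
  · exact (mul_mem_cancel_left (P_le l (hP κ ..)).2).1 ((mul_mem_cancel_right (P_le l hu).2).1 hn)
  · rw [κ.inv, neg_zero, neg_neg, mul_assoc, mul_inv_rev, inv_mul_cancel_right]
    exact inv_mem (P_le l hu).2

omit [Finite G] hp in
theorem coordD {g : G} (hg : g ∈ Ce (ι (-1)) ⊓ Nr κ.M) (hZ : g ∉ Nr κ.Z) {x : F} (hx : x ≠ 0) :
    ∃ c s, s ≠ 0 ∧ g * h 0 0 x * g⁻¹ = h 0 0 c * ι (uM s) := by
  obtain ⟨c, s, e⟩ := zD l hg x
  refine ⟨c, s, fun h0 => hZ (l.ti g x c hx ?_), e⟩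
  rw [e, h0, uM_zero, map_one, mul_one]

omit l [Fintype F] in
theorem uM_inj {s s' : F} (e : uM s = uM s') : s = s' := by
  simpa [uM] using congrFun₂ (congrArg Subtype.val e) 0 1

omit hp in
theorem count (h2 : (2 : F) ≠ 0) (hc : TwoCl h) : (Nr κ.Z).relIndex (Nr κ.M) =
    Fintype.card F * ((Nr κ.Z).relIndex (Ce (ι (-1)) ⊓ Nr κ.M) - 1) + 1 := by
  rw [H38.relIndex_eq_ncard, H38.relIndex_eq_ncard, ← Set.ncard_sdiff_singleton_of_mem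
    (Set.mem_image_of_mem _ (SetLike.mem_coe.2 (one_mem _))), ← Nat.card_eq_fintype_card, ← Set.ncard_univ,
    ← Set.ncard_prod, ← Set.InjOn.ncard_image (f := fun x : F × (G ⧸ Nr κ.Z) => h 0 x.1 0 • x.2),
    ← Set.ncard_insert_of_notMem (a := ((1 : G) : G ⧸ Nr κ.Z))]
  · congr 1
    refine Set.Subset.antisymm ?_ ?_
    · rintro _ ⟨g, hg, rfl⟩
      by_cases hZ : g ∈ Nr κ.Z
      · exact Or.inl (QuotientGroup.eq.2 (by simpa using hZ))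
      obtain ⟨b, n, hn, hn', e⟩ := dec l h2 hc hg hZ
      exact Or.inr ⟨(b, n), ⟨trivial, ⟨n, hn, rfl⟩, fun e => hn' (by simpa using QuotientGroup.eq.1 e)⟩,
        (QuotientGroup.eq (a := h 0 b 0 * n)).2 (by rwa [mul_inv_rev])⟩
    · rintro _ (rfl | ⟨⟨b, _⟩, ⟨-, ⟨n, hn, rfl⟩, -⟩, rfl⟩)
      · exact ⟨1, one_mem _, rfl⟩
      · exact ⟨h 0 b 0 * n, mul_mem (P_le l (hP κ ..)).1 hn.2, rfl⟩
  · rintro ⟨⟨b, _⟩, ⟨-, ⟨n, hn, rfl⟩, hn'⟩, e⟩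
    refine hn' (QuotientGroup.eq.2 ?_)
    have := QuotientGroup.eq.1 (e : ((h 0 b 0 * n : G) : G ⧸ Nr κ.Z) = _)
    rw [mul_one, inv_mem_iff] at this ⊢
    exact (mul_mem_cancel_left (P_le l (hP κ ..)).2).1 this
  · rintro ⟨b, _⟩ ⟨-, ⟨n, hn, rfl⟩, -⟩ ⟨b', _⟩ ⟨-, ⟨n', hn', rfl⟩, h1⟩ e
    obtain ⟨x, hx⟩ := ((QuotientGroup.eq (a := h 0 b 0 * n) (b := h 0 b' 0 * n')).1 e _).1
      (⟨1, rfl⟩ : h 0 0 1 ∈ κ.Z)
    obtain ⟨c', s', hs, e'⟩ := coordD l hn' (fun h0 => h1 (QuotientGroup.eq.2 (by simpa using h0))) one_ne_zero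
    obtain ⟨c, s, e1⟩ := zD l hn x
    have e2 : h 0 b' 0 * (n' * h 0 0 1 * n'⁻¹) * (h 0 b' 0)⁻¹ = h 0 b 0 * (n * h 0 0 x * n⁻¹) * (h 0 b 0)⁻¹ := by
      rw [← hx]; group
    rw [e', e1, yconj κ, yconj κ] at e2
    obtain ⟨h3, -, -, h4⟩ := ext κ e2
    obtain rfl : b = b' := mul_left_cancel₀ hs (by rw [← uM_inj h4] at h3; linear_combination h3)
    exact Prod.ext rfl (smul_left_cancel _ e)

theorem not_dvd (h2 : (2 : F) ≠ 0) (hc : TwoCl h) : ¬ p ∣ (Nr κ.Z).relIndex (Ce (ι (-1)) ⊓ Nr κ.M) := by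
  obtain ⟨S, hS⟩ := H98.exists_isSyl p (Ce (ι (-1)) ⊓ Nr κ.M)
  refine fun hd => hS.not_dvd_relIndex (hd.trans (relIndex_dvd_of_le_left _ fun u hu => ?_))
  have hP' : H98.IsSyl p κ.P (Nr κ.M) := (H98.isSyl_of_not_dvd_relIndex le_top l.pP
    (by rw [relIndex_top_right]; exact l.syl)).of_le (fun _ h => (P_le l h).1) le_top
  obtain ⟨g, hg, hg'⟩ := hP'.exists_le_cj hS.isPGroup (hS.le.trans inf_le_right)
  by_contra hn
  have hB : κ.B ≤ κ.M := fun _ ⟨a, e⟩ => e ▸ hM κ a 0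
  obtain ⟨β, ⟨hβ, hβ'⟩, h1⟩ := (bot_or_exists_ne_one _).resolve_left (H98.inf_centralizer_ne_bot (Q := κ.B)
    (l.pP.to_le (hB.trans (M_le_P κ))) hS.isPGroup (fun v hv m => by
      have key : ∀ v ∈ S, ∀ m ∈ κ.B, v * m * v⁻¹ ∈ κ.B := fun v hv m hm =>
        (l.Bt _ (((hS.le hv).2 _).1 (hB hm))).1 (by
          have e := mem_centralizer_singleton_iff.1 (hS.le hv).1
          calc _ = (ι (-1) * v) * m * (ι (-1) * v)⁻¹ := by group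
            _ = v * (ι (-1) * m * (ι (-1))⁻¹) * v⁻¹ := by rw [← e]; group
            _ = _ := by rw [(l.Bt m (hB hm)).2 hm]; group)
      exact ⟨key v hv m, fun hm => by simpa [mul_assoc] using key _ (inv_mem hv) _ hm⟩) fun e => by
        have := mem_bot.1 (e.le ⟨1, rfl⟩)
        rw [← κ.one] at this
        exact one_ne_zero (ext0 κ this).1)
  obtain ⟨x, hx⟩ := l.cMu _ (H98.mem_cj.1 (hg' hu)) (fun h0 => hn (P_le l (M_le_P κ (by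
    simpa [mul_assoc] using (hg _).1 h0))).2) (g⁻¹ * β * g) (by simpa using (inv_mem hg _).1 (hB hβ)) (by
      calc _ = g⁻¹ * (u * β) * g := by group
        _ = _ := by rw [hβ' u hu]; group)
  obtain ⟨a, rfl⟩ := hβ
  have e : g * h 0 0 x * g⁻¹ = h a 0 0 := by rw [← hx]; group
  have hx0 : x ≠ 0 := fun h0 => h1 (by rw [← e, h0, κ.one]; group)
  by_cases hZ : g ∈ Nr κ.Z
  · obtain ⟨y, hy⟩ := (hZ _).1 (⟨x, rfl⟩ : h 0 0 x ∈ κ.Z)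
    exact h1 (by rw [(ext0 κ (e.symm.trans hy)).1, κ.one])
  · exact notQ l h2 hc hg hZ hx0 e

theorem dvd_pred (h2 : (2 : F) ≠ 0) (hc : TwoCl h) :
    (Nr κ.Z).relIndex (Ce (ι (-1)) ⊓ Nr κ.M) ∣ Fintype.card F - 1 := by
  have e1 := relIndex_inf_mul_relIndex (Ce (ι (-1))) (Nr κ.Z) (Nr κ.M)
  rw [inf_comm (Ce _), ← relIndex_inf_mul_relIndex, count l h2 hc, H38.relIndex_eq_of_mul (C := κ.P)
    (fun _ h => mem_inf.2 (P_le l h).symm) fun g hg => ?_] at e1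
  · obtain ⟨k, hk⟩ := l.pP.exists_card_eq
    obtain ⟨j, -, hj⟩ := (Nat.dvd_prime_pow hp.1).1 (hk ▸ relIndex_dvd_card (Ce (ι (-1))) κ.P)
    have hr := not_dvd l h2 hc
    have h1 : (Nr κ.Z).relIndex (Ce (ι (-1)) ⊓ Nr κ.M) ≠ 0 := index_ne_zero_of_finite
    generalize (Nr κ.Z).relIndex (Ce (ι (-1)) ⊓ Nr κ.M) = r at *
    have h3 := (((Nat.Prime.coprime_iff_not_dvd hp.1).2 hr).symm.pow_right j).dvd_of_dvd_mul_left
      (hj ▸ Dvd.intro _ e1.symm)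
    obtain ⟨r, rfl⟩ := Nat.exists_eq_succ_of_ne_zero h1
    obtain ⟨q, hq⟩ := Nat.exists_eq_succ_of_ne_zero (Fintype.card_ne_zero (α := F))
    rw [hq] at h3 ⊢
    exact (Nat.dvd_add_right h3).1 ⟨q + 1, by simp only [Nat.succ_eq_add_one, Nat.add_sub_cancel]; ring⟩
  · obtain ⟨x, hx⟩ := (hg.1 _).1 (⟨1, rfl⟩ : h 0 0 1 ∈ κ.Z)
    obtain ⟨u, hu, e⟩ := toT l h2 (g := g⁻¹) (by
      obtain ⟨y, hy⟩ := (inv_mem (mem_inf.1 hg).1 _).1 (⟨1, rfl⟩ : h 0 0 1 ∈ κ.Z)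
      rw [mem_centralizer_singleton_iff]
      calc _ = g * (ι (-1) * (g⁻¹ * h 0 0 1 * g⁻¹⁻¹)) * g⁻¹ := by group
        _ = g * ((g⁻¹ * h 0 0 1 * g⁻¹⁻¹) * ι (-1)) * g⁻¹ := by
          rw [hy, mem_centralizer_singleton_iff.1 (zt κ y)]
        _ = _ := by group)
    exact ⟨u, hu, by simpa using inv_mem e⟩

omit [Finite G] hp in
theorem fixR {n : G} (hn : n ∈ Ce (ι (-1)) ⊓ Nr κ.M) (hZ : n ∉ Nr κ.Z) {a : Fˣ} (ha : (a : F) ^ 2 ≠ 1)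
    (e : n⁻¹ * ι (dM a) * n ∈ Nr κ.Z) : ∃ x, x ≠ 0 ∧ n * h 0 0 x * n⁻¹ = ι (uM 1) := by
  choose c s hs using zD l hn
  have hinj : Function.Injective s := fun x y hxy => by
    by_contra hne
    refine hZ (l.ti n (x + -y) (c x + -c y) (fun h0 => hne (by linear_combination h0)) ?_)
    rw [← zadd κ, ← zadd κ, ← neg_zero, ← κ.inv, ← κ.inv, neg_zero, ← conj_mul, ← conj_inv, hs, hs, hxy]
    group
  obtain ⟨x, hx⟩ := Finite.injective_iff_surjective.1 hinj ((a : F) ^ 2 - 1)⁻¹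
  obtain ⟨y, hy⟩ := (e _).1 (⟨x, rfl⟩ : h 0 0 x ∈ κ.Z)
  have e1 : n * h 0 0 y * n⁻¹ = ι (dM a) * (n * h 0 0 x * n⁻¹) * (ι (dM a))⁻¹ := by rw [← hy]; group
  have e2 : n * h 0 0 (-x + y) * n⁻¹ = ι (uM 1) := by
    rw [← zadd κ, ← neg_zero, ← κ.inv, neg_zero, ← conj_mul, ← conj_inv, e1, hs, dconj κ, mul_zero, mul_inv_rev,
      mul_assoc, inv_mul_cancel_left, ← map_inv, ← map_mul, uM_inv, uM_mul, hx]
    congr 2
    field_simp [sub_ne_zero.2 ha]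
    ring
  refine ⟨_, fun h0 => ?_, e2⟩
  rw [h0, κ.one, mul_one, mul_inv_cancel, eq_comm] at e2
  exact one_ne_zero (uM_inj ((ι_inj κ e2).trans uM_zero.symm))

theorem two (h2 : (2 : F) ≠ 0) (h4 : Fintype.card F % 4 = 3) (hc : TwoCl h) (hN : ¬ Nr κ.M ≤ Nr κ.Z) :
    (Nr κ.Z).relIndex (Ce (ι (-1)) ⊓ Nr κ.M) = 2 := by
  classical
  have h1 := dvd_pred l h2 hc
  have h0 : (Nr κ.Z).relIndex (Ce (ι (-1)) ⊓ Nr κ.M) ≠ 0 := index_ne_zero_of_finite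
  have h0' : (Nr κ.Z).relIndex (Ce (ι (-1)) ⊓ Nr κ.M) ≠ 1 := fun e => hN fun g hg => by
    by_contra hZ
    obtain ⟨-, n, hn, hn', -⟩ := dec l h2 hc hg hZ
    exact hn' (relIndex_eq_one.1 e hn)
  let A := (powMonoidHom 2 : Fˣ →* Fˣ).range
  have hA : Nat.card A = (Fintype.card F - 1) / 2 := by
    rw [IsCyclic.card_powMonoidHom_range, Nat.card_eq_fintype_card, Fintype.card_units,
      Nat.gcd_eq_right (by omega)]
  let φ : A →* G := ι.comp (MonoidHom.comp ⟨⟨dM, dM_one⟩, fun a b => (dM_mul a b).symm⟩ A.subtype)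
  have hφ : ∀ a, φ a ∈ Ce (ι (-1)) ⊓ Nr κ.M ∧ φ a ∈ Nr κ.Z := fun a =>
    ⟨⟨(dN κ a.1).1.2, (dN κ a.1).1.1⟩, ce_le l one_ne_zero (dN κ a.1).2⟩
  let _ := MulAction.compHom (G ⧸ Nr κ.Z) φ
  rw [H38.relIndex_eq_ncard] at *
  set L := (QuotientGroup.mk : G → G ⧸ Nr κ.Z) '' ((Ce (ι (-1)) ⊓ Nr κ.M : Subgroup G) : Set G)
  let X := {ω ∈ L | ∃ a : A, a ≠ 1 ∧ a • ω = ω}
  have e1 := Set.ncard_sdiff_add_ncard_of_subset (show X ⊆ L from fun _ h => h.1)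
  have e2 := H11.card_dvd_ncard_of_free (H := A) (L \ X) (by
    rintro a _ ⟨⟨n, hn, rfl⟩, hX⟩
    refine ⟨⟨φ a * n, mul_mem (hφ a).1 hn, rfl⟩, fun ⟨_, b, hb, e⟩ => hX ⟨⟨n, hn, rfl⟩, b, hb, ?_⟩⟩
    rwa [smul_smul, mul_comm, mul_smul, smul_left_cancel_iff] at e)
    fun a ω hω e => by_contra fun ha => hω.2 ⟨hω.1, a, ha, e⟩
  have key : ∀ ω ∈ X \ {((1 : G) : G ⧸ Nr κ.Z)}, ∃ n x, ω = (n : G) ∧ x ≠ 0 ∧ n * h 0 0 x * n⁻¹ = ι (uM 1) := by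
    rintro _ ⟨⟨⟨n, hn, rfl⟩, ⟨_, a, rfl⟩, ha, e⟩, hn'⟩
    obtain ⟨x, hx⟩ := fixR l hn (fun h0 => hn' (QuotientGroup.eq.2 (by simpa using h0))) (a := a ^ 2)
      (fun h0 => by
        rcases sq_eq_one_iff.1 h0 with h0 | h0
        · exact ha (Subtype.ext (Units.ext h0))
        · exact FiniteField.isSquare_neg_one_iff.1 ⟨(a : F), by rw [← h0]; simp [pow_two]⟩ h4)
      (by rw [mul_assoc]; exact QuotientGroup.eq.1 e.symm)
    exact ⟨n, x, rfl, hx⟩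
  have e3 : (X \ {((1 : G) : G ⧸ Nr κ.Z)}).ncard ≤ 1 := (Set.ncard_le_one_iff_subsingleton ..).2 fun ω hω ω' hω' => by
    obtain ⟨n, x, rfl, hx, e⟩ := key ω hω
    obtain ⟨n', y, rfl, -, e'⟩ := key ω' hω'
    refine (QuotientGroup.eq.2 (l.ti _ x y hx ?_)).symm
    calc _ = n'⁻¹ * (n * h 0 0 x * n⁻¹) * n' := by group
      _ = _ := by rw [e, ← e']; group
  by_cases hm : Nat.card A = 1
  · have := Nat.le_of_dvd (by omega) h1
    omega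
  have e4 : ((1 : G) : G ⧸ Nr κ.Z) ∈ X := by
    have := Finite.one_lt_card_iff_nontrivial.1 (lt_of_le_of_ne Nat.card_pos (Ne.symm hm))
    obtain ⟨a, ha⟩ := exists_ne (1 : A)
    exact ⟨⟨1, one_mem _, rfl⟩, a, ha, (QuotientGroup.eq.2 (by simpa using (hφ a).2)).symm⟩
  have e5 := Set.ncard_sdiff_singleton_add_one e4
  obtain ⟨j, hj⟩ := e2
  obtain ⟨i, hi⟩ := h1
  rw [hj] at e1
  obtain rfl | hj0 := Nat.eq_zero_or_pos j
  · omega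
  have e6 := Nat.le_mul_of_pos_right (Nat.card A) hj0
  obtain rfl : i = 1 := by
    by_contra hi1
    have : 2 ≤ i := by
      rcases i with _ | _ | i <;> omega
    have := Nat.mul_le_mul_left L.ncard this
    omega
  have : Nat.card A ∣ X.ncard := (Nat.dvd_add_right ⟨j, rfl⟩).1 ⟨2, by omega⟩
  have := Nat.le_of_dvd (by omega) this
  omega

omit l in
theorem jobSg1 : JobSg1.{u, v} := fun G _ _ F _ _ p _ h ι κ _ h4 l hc hN => by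
  have h2 : (2 : F) ≠ 0 := fun e => by
    have := FiniteField.even_card_of_char_two (F := F) (ringChar.eq_iff.2 (CharTwo.of_one_ne_zero_of_two_eq_zero
      one_ne_zero e))
    omega
  obtain ⟨k, hk, hkZ⟩ := SetLike.not_le_iff_exists.1 hN
  obtain ⟨-, g, hg, hgZ, -⟩ := dec l h2 hc hk hkZ
  refine ⟨g, hg.2, hg.1, hgZ, zD l hg, fun k hk => or_iff_not_imp_left.2 fun hkZ => ?_⟩
  obtain ⟨b, n, hn, hnZ, e⟩ := dec l h2 hc hk hkZ
  have := (mul_mem_iff_of_index_two (two l h2 h4 hc hN) (a := ⟨g, hg⟩⁻¹) (b := ⟨n, hn⟩)).2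
    (iff_of_false (fun h => hgZ (inv_mem_iff.1 h)) hnZ)
  exact ⟨b, by simpa [mul_assoc] using mul_mem (mem_subgroupOf.1 this) e⟩

end H34.P4
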