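/- Extending characters of the principal block of a normal subgroup. -/
import Cfsg.Agent.H34.IsoPrin2
import Cfsg.Agent.H32.DetExt
import Cfsg.Agent.H40.GlCan
import Cfsg.Agent.H38.Harada

set_option autoImplicit false
set_option linter.unusedSectionVars false

open scoped MonoidAlgebra
open MonoidAlgebra

namespace H34.PExt

open Cfsg H28 H35 H36 H39

variable {M : Ideal AlgInt} [M.IsMaximal] {p : ℕ}

theorem eq_one_of_red (hM : IsPModular p M) {ζ : ℂ} {n : ℕ} (hn : ¬ p ∣ n) (h : ζ ^ n = 1)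
    (h1 : red M ζ = 1) : ζ = 1 := by
  by_contra hne
  have hS := mem_S_of_pow_eq_one (M := M) (fun h : n = 0 => hn (h ▸ dvd_zero p)) h
  have h2 := congrArg (red M) ((mul_eq_zero.1 ((geom_sum_mul ζ n).trans
    (by rw [h, sub_self]))).resolve_right (sub_ne_zero.2 hne))
  rw [red_sum _ _ fun i _ => pow_mem hS i, red_zero] at h2
  simp only [red_pow hS, h1, one_pow, Finset.sum_const, Finset.card_range, nsmul_eq_mul,
    mul_one] at h2
  have := charP_F hM
  exact hn ((CharP.cast_eq_zero_iff _ p n).1 h2)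

theorem eq_of_red (hM : IsPModular p M) {ζ ξ : ℂ} {n : ℕ} (hn : ¬ p ∣ n) (h : ζ ^ n = 1)
    (h' : ξ ^ n = 1) (h1 : red M ζ = red M ξ) : ζ = ξ := by
  have h0 : n ≠ 0 := fun h => hn (h ▸ dvd_zero p)
  have h2 := not_P_of_pow_eq_one (M := M) h0 h'
  refine (div_eq_one_iff_eq (ne_zero_of_not_P h2)).1 (eq_one_of_red hM hn
    (by rw [div_pow, h, h', div_one]) ?_)
  rw [red_div (mem_S_of_pow_eq_one h0 h) (mem_S_of_pow_eq_one h0 h') h2, h1, div_self]
  exact red_ne_zero_iff.2 ⟨mem_S_of_pow_eq_one h0 h', h2⟩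

open Polynomial in
theorem exists_lift_root {n : ℕ} (hn : n ≠ 0) {x : F M} (hx : x ^ n = 1) :
    ∃ ζ : ℂ, ζ ^ n = 1 ∧ red M ζ = x := by
  obtain ⟨a, ha, rfl⟩ := exists_red_eq x
  have h0 := Nat.pos_of_ne_zero hn
  have hS : ∀ ζ ∈ nthRootsFinset n (1 : ℂ), ζ ∈ S M := fun ζ h =>
    mem_S_of_pow_eq_one hn ((mem_nthRootsFinset h0 _).1 h)
  have h1 := congrArg (fun P => red M (eval a P))
    (X_pow_sub_one_eq_prod h0 (Complex.isPrimitiveRoot_exp n hn))
  simp only [eval_sub, eval_pow, eval_X, eval_one, eval_prod, eval_C] at h1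
  rw [red_sub (pow_mem ha n) (one_mem _), red_pow ha, hx, red_one, sub_self,
    red_prod _ _ fun ζ h => sub_mem ha (hS ζ h), eq_comm, Finset.prod_eq_zero_iff] at h1
  obtain ⟨ζ, h2, h3⟩ := h1
  rw [red_sub ha (hS ζ h2), sub_eq_zero] at h3
  exact ⟨ζ, (mem_nthRootsFinset h0 _).1 h2, h3.symm⟩

theorem exists_lift_hom (hM : IsPModular p M) {H : Type*} [Group H] [Finite H] (f : H →* F M) :
    ∃ (l : H →* ℂˣ) (n : ℕ), ¬ p ∣ n ∧ l ^ n = 1 ∧ ∀ h, red M (l h) = f h := by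
  have := charP_F hM
  have := Fact.mk hM.1
  obtain ⟨n, hn, h1⟩ := exists_unit_natCast hM (Nat.card_pos (α := H)).ne'
  have h0 : n ≠ 0 := fun h => hn (h ▸ dvd_zero p)
  have h2 : ∀ h, f h ^ n = 1 := fun h => by
    rw [← ExpChar.pow_prime_pow_mul_eq_one_iff p ((Nat.card H).factorization p), ← h1, ← map_pow,
      pow_card_eq_one', map_one]
  choose l l1 l2 using fun h => exists_lift_root h0 (h2 h)
  let l' : H →* ℂ :=
    { toFun := l
      map_one' := eq_one_of_red hM hn (l1 1) (by rw [l2, map_one])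
      map_mul' := fun a b => eq_of_red hM hn (l1 _) (by rw [mul_pow, l1, l1, one_mul]) (by
        rw [red_mul (mem_S_of_pow_eq_one h0 (l1 a)) (mem_S_of_pow_eq_one h0 (l1 b)), l2, l2, l2,
          map_mul]) }
  exact ⟨l'.toHomUnits, n, hn, MonoidHom.ext fun h => Units.ext (by simpa [l'] using l1 h), l2⟩

variable {G : Type*} [Group G] [Fintype G] {N : Subgroup G} [hN : N.Normal] {χ : G → ℂ}

theorem omega_mul_of_inv (hχ : IsCharacter G χ) (h : IsIrrCharacter N fun n => χ n) {c : ℂ[G]}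
    (hc : H36.Inv N c) (a : ℂ[G]) : omega χ (c * a) = omega χ c * omega χ a := by
  have h1 : χ 1 ≠ 0 := h.apply_one_ne_zero
  obtain ⟨n, ρ, rfl⟩ := hχ
  have := isIrreducible_of_isIrrCharacter (ρ.comp N.subtype) h
  have h2 : ∀ a, ev ρ.character a = LinearMap.trace ℂ _ (ρ.asAlgebraHom a) := fun a => by
    induction a using MonoidAlgebra.induction_linear with
    | zero => simp
    | add x y hx hy => rw [map_add, map_add, map_add, hx, hy]
    | single y r => simp [Representation.character]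
  obtain ⟨t, ht⟩ := exists_eq_smul_id_of_comm (ρ.comp N.subtype) (ρ.asAlgebraHom c) fun g => by
    have := congrArg ρ.asAlgebraHom (hc.commute_single g.2 1).eq
    simpa [Module.End.mul_eq_comp] using this
  have h3 : ∀ a, ev ρ.character (c * a) = t * ev ρ.character a := fun a => by
    rw [h2, h2, map_mul, ht]
    simp [Module.End.mul_eq_comp]
  have h4 := h3 1
  rw [mul_one, ev_one] at h4
  rw [omega_apply, omega_apply, omega_apply, h3, h4, mul_div_cancel_right₀ _ h1, mul_div_assoc]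

theorem omega_mem_S_of_inv (hχ : IsCharacter G χ) (h : IsIrrCharacter N fun n => χ n) {c : ℂ[G]}
    (hc : H36.Inv N c) (hi : IntC M c) : omega χ c ∈ S M := by
  obtain ⟨b, rfl⟩ := hi.exists_up
  obtain ⟨P, hP, h1⟩ := Algebra.IsIntegral.isIntegral (R := S M) b
  refine mem_S_of_isIntegral ⟨P, hP, ?_⟩
  have h2 : ∀ k, omega χ (up M b ^ k) = omega χ (up M b) ^ k := fun k => by
    induction k with
    | zero => rw [pow_zero, pow_zero, omega_one h.apply_one_ne_zero]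
    | succ k ih => rw [pow_succ', omega_mul_of_inv hχ h hc, ih, pow_succ']
  have h3 := congrArg (fun x => omega χ (up M x)) h1
  simp only [Polynomial.eval₂_eq_sum_range, map_sum, map_zero, ← Algebra.smul_def, map_smul',
    map_smul, map_pow, h2] at h3 ⊢
  exact h3

variable [Fintype N] {θ : IrrCharacter N}

theorem omega_cav (hχ : IsClassFunction G χ) (y : G) : omega χ (cav N y) = χ y / χ 1 := by
  have h0 : (Fintype.card N : ℂ) ≠ 0 := Nat.cast_ne_zero.2 Fintype.card_ne_zero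
  simp only [omega_apply, cav, map_smul, map_sum, ev_single, one_mul, hχ y, Finset.sum_const,
    Finset.card_univ, nsmul_eq_mul, smul_eq_mul, Nat.card_eq_fintype_card,
    inv_mul_cancel_left₀ h0]

theorem cav_conj (g y : G) : cav N (g * y * g⁻¹) = cj g (cav N y) := by
  simp only [cav, map_smul, map_sum, cj_single]
  congr 1
  refine (Fintype.sum_equiv (MulAut.conjNormal g).toEquiv _ _ fun n => ?_).symm
  simp [mul_assoc]

theorem aug_mem_S {c : ℂ[G]} (hi : IntC M c) : aug c ∈ S M := ev_mem_S (fun _ => one_mem _) hi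

/-- The data of an extension of a member of the principal block. -/
structure Ext (M : Ideal AlgInt) (θ : IrrCharacter N) (χ : G → ℂ) : Prop where
  mem : θ ∈ principalBlock M N
  irr : IsIrrCharacter G χ
  ext : ∀ n : N, χ n = θ.1 n

namespace Ext

theorem res (h : Ext M θ χ) : IsIrrCharacter N fun n => χ n := (funext h.ext).symm ▸ θ.2

theorem mul (h : Ext M θ χ) {f : G →* ℂˣ} (hf : ∀ n ∈ N, f n = 1) :
    Ext M θ fun g => f g * χ g :=
  ⟨h.mem, H40.isIrr_hom_mul f h.irr, fun n => by rw [hf n n.2, Units.val_one, one_mul, h.ext]⟩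

theorem red_one (h : Ext M θ χ) {c : ℂ[G]} (hc : H36.Inv N c) (hs : Supp (cos N 1) c)
    (hi : IntC M c) : red M (omega χ c) = red M (aug c) := by
  obtain ⟨l, l1, l2, l3⟩ := exists_mul_eN h.mem hc hs hi
  have h1 := omega_mul_of_inv h.irr.isCharacter h.res hc (eN θ)
  have h2 : omega χ (eN θ) ≠ 0 := by
    rw [omega_apply, ev_eN, funext h.ext, θ.2.classInner_self, mul_one]
    exact div_ne_zero θ.2.apply_one_ne_zero h.irr.apply_one_ne_zero
  rw [l3, map_smul, smul_eq_mul, mul_left_inj' h2] at h1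
  rw [← h1, red_eq_of_P_sub (aug_mem_S hi) l2]

theorem red_cos (h : Ext M θ χ) {y : G} (hy : IntC M (cav N y⁻¹)) {c : ℂ[G]} (hc : H36.Inv N c)
    (hs : Supp (cos N y) c) (hi : IntC M c) :
    red M (omega χ c) * red M (χ y⁻¹ / χ 1) = red M (aug c) := by
  have h1 := h.red_one (hc.mul (inv_cav y⁻¹))
    (by simpa using supp_mul_cos hs (supp_cav (N := N) y⁻¹)) (hi.mul hy)
  rwa [omega_mul_of_inv h.irr.isCharacter h.res hc, aug_mul, aug_cav, mul_one,
    red_mul (omega_mem_S_of_inv h.irr.isCharacter h.res hc hi)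
      (omega_mem_S_of_inv h.irr.isCharacter h.res (inv_cav _) hy),
    omega_cav h.irr.isClassFunction] at h1

theorem div_mem (h : Ext M θ χ) {y : G} (hy : IntC M (cav N y)) : χ y / χ 1 ∈ S M :=
  omega_cav (N := N) h.irr.isClassFunction y ▸
    omega_mem_S_of_inv h.irr.isCharacter h.res (inv_cav _) hy

theorem red_mul_eq (h : Ext M θ χ) {x y z : G} (hx : IntC M (cav N x)) (hy : IntC M (cav N y))
    (hz : IntC M (cav N z)) (hz' : IntC M (cav N z⁻¹)) (e : (x : G ⧸ N) * y = z) :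
    red M (χ x / χ 1) * red M (χ y / χ 1) = red M (χ z / χ 1) := by
  have h1 := h.red_cos hz' (inv_cav z) (supp_cav z) hz
  have h2 := h.red_cos hz' ((inv_cav x).mul (inv_cav y))
    (e ▸ supp_mul_cos (supp_cav x) (supp_cav y)) (hx.mul hy)
  rw [omega_mul_of_inv h.irr.isCharacter h.res (inv_cav x), aug_mul, aug_cav, aug_cav, mul_one,
    omega_cav h.irr.isClassFunction, omega_cav h.irr.isClassFunction,
    red_mul (h.div_mem hx) (h.div_mem hy), H35.red_one] at h2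
  rw [aug_cav, omega_cav h.irr.isClassFunction, H35.red_one] at h1
  exact mul_right_cancel₀ (right_ne_zero_of_mul_eq_one h1) (h2.trans h1.symm)

theorem red_omega (h : Ext M θ χ) {C : Subgroup G} (hC : ∀ y ∈ C, IntC M (cav N y))
    (hg : ∀ y ∈ C, red M (χ y / χ 1) = 1) {c : ℂ[G]} (hc : H36.Inv N c)
    (hs : Supp (N ⊔ C : Subgroup G) c) (hi : IntC M c) : red M (omega χ c) = red M (aug c) := by
  classical
  have := Fintype.ofFinite (G ⧸ N)
  rw [← sum_tc_cos (N := N) c, aug, map_sum, map_sum, red_sum _ _ fun x _ => omega_mem_S_of_inv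
    h.irr.isCharacter h.res (inv_tc_cos hc x) (intC_tc _ hi),
    red_sum _ _ fun x _ => aug_mem_S (intC_tc _ hi)]
  refine Finset.sum_congr rfl fun x _ => ?_
  by_cases hx : ∃ y ∈ C, (y : G ⧸ N) = x
  · obtain ⟨y, hy, rfl⟩ := hx
    rw [← h.red_cos (hC _ (C.inv_mem hy)) (inv_tc_cos hc _) (supp_tc _ _) (intC_tc _ hi),
      hg _ (C.inv_mem hy), mul_one]
  · rw [tc_eq_zero_iff.2 fun g hg => hs g fun h1 => hx ?_, map_zero, aug, map_zero]
    rw [Subgroup.normal_mul] at h1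
    obtain ⟨n, hn, y, hy, rfl⟩ := h1
    exact ⟨y, hy, by
      rw [← show _ = x from hg, QuotientGroup.mk_mul, (QuotientGroup.eq_one_iff n).2 hn, one_mul]⟩

theorem res_mem (h : Ext M θ χ) {C : Subgroup G} (hC : ∀ y ∈ C, IntC M (cav N y))
    (hg : ∀ y ∈ C, red M (χ y / χ 1) = 1) {J : Subgroup G} (h1 : N ≤ J) (h2 : J ≤ N ⊔ C) :
    ∃ ξ : IrrCharacter J, ξ ∈ principalBlock M J ∧ ∀ y : J, ξ.1 y = χ y := by
  have h3 : IsIrrCharacter J fun y => χ y :=
    (h.irr.isCharacter.restrict J).irr_of_comp (Subgroup.inclusion h1) h.res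
  refine ⟨⟨_, h3⟩, (sameBlock_iff_red isIrrCharacter_one h3).2 fun g => ?_, fun _ => rfl⟩
  have h4 := emb_subtype_mem_Fx_iff.2 (classSum_mem_Z (R := ℂ) g)
  have h5 := h.red_omega hC hg (h4.1.mono h1) (h4.2.mono h2)
    (intC_emb J.subtype_injective (intC_classSum g))
  rw [omega_apply, aug, ← H38.push_eq_emb, H38.ev_push, H38.ev_push] at h5
  rw [← omega_classSum h3.isClassFunction, ← omega_classSum isIrrCharacter_one.isClassFunction,
    omega_apply, omega_apply, div_one]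
  exact h5.symm

theorem exists_good (h : Ext M θ χ) (hM : IsPModular p M) {C : Subgroup G}
    (hC : ∀ y ∈ C, IntC M (cav N y)) [hK : (N ⊔ C).Normal] {a : ℕ} (ha : (N ⊔ C).index = p ^ a) :
    ∃ ψ, Ext M θ ψ ∧ ∀ y ∈ C, red M (ψ y / ψ 1) = 1 := by
  have h1 : ∀ k : (N ⊔ C : Subgroup G), ∃ y ∈ C, (y : G ⧸ N) = k.1 := fun k => by
    obtain ⟨n, hn, y, hy, e⟩ := (Subgroup.normal_mul N C).subset k.2
    exact ⟨y, hy, by
      rw [← e, QuotientGroup.mk_mul, (QuotientGroup.eq_one_iff n).2 hn, one_mul]⟩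
  choose y y1 y2 using h1
  have h0 : red M (χ 1 / χ 1) = 1 := by rw [div_self h.irr.apply_one_ne_zero, H35.red_one]
  have h2 : ∀ (k : (N ⊔ C : Subgroup G)) (z : G), IntC M (cav N z) → (z : G ⧸ N) = k.1 →
      red M (χ z / χ 1) = red M (χ (y k) / χ 1) := fun k z hz e => by
    rw [← h.red_mul_eq hz (hC 1 C.one_mem) (hC _ (y1 k)) (hC _ (C.inv_mem (y1 k)))
      (by rw [e, y2]; exact mul_one _), h0, mul_one]
  let f : (N ⊔ C : Subgroup G) →* F M :=
    { toFun := fun k => red M (χ (y k) / χ 1)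
      map_one' := by rw [← h2 1 1 (hC 1 C.one_mem) rfl, h0]
      map_mul' := fun k l => (h.red_mul_eq (hC _ (y1 k)) (hC _ (y1 l)) (hC _ (y1 _))
        (hC _ (C.inv_mem (y1 _))) (by rw [y2, y2, y2]; rfl)).symm }
  obtain ⟨l, n, hn, l1, l2⟩ := exists_lift_hom hM f
  have l3 : ∀ k, (l k : ℂ) ^ n = 1 := fun k => by
    simpa using congrArg (fun u : _ →* ℂˣ => (u k : ℂ)) l1
  obtain ⟨μ, μ1, -⟩ := H32.exists_hom_ext_orderOf_eq l (fun g k => Units.ext (eq_of_red hM hn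
    (l3 _) (l3 _) (by
      rw [l2, l2]
      refine (h2 _ (g * y k * g⁻¹) (fun z => by rw [cav_conj, coeff_cj]; exact hC _ (y1 k) _)
        (by simp [y2])).symm.trans ?_
      rw [h.irr.isClassFunction]
      rfl))) (by
    rw [ha]
    exact (((hM.1.coprime_iff_not_dvd).2 hn).coprime_dvd_right
      (orderOf_dvd_of_pow_eq_one l1)).pow_left a)
  refine ⟨_, h.mul (f := μ⁻¹) fun x hx => ?_, fun z hz => ?_⟩
  · rw [MonoidHom.inv_apply, inv_eq_one, μ1 ⟨x, Subgroup.mem_sup_left hx⟩]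
    refine Units.ext (eq_one_of_red hM hn (l3 _) ((l2 _).trans ?_))
    exact (h2 _ 1 (hC 1 C.one_mem) ((QuotientGroup.eq_one_iff x).2 hx).symm).symm.trans h0
  · have h3 := l2 ⟨z, Subgroup.mem_sup_right hz⟩
    have n0 : n ≠ 0 := fun h => hn (h ▸ dvd_zero p)
    have h4 := mem_S_of_pow_eq_one (M := M) n0 (l3 ⟨z, Subgroup.mem_sup_right hz⟩)
    have h5 := not_P_of_pow_eq_one (M := M) n0 (l3 ⟨z, Subgroup.mem_sup_right hz⟩)
    simp only [map_one, Units.val_one, one_mul, MonoidHom.inv_apply, Units.val_inv_eq_inv_val]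
    rw [μ1 ⟨z, Subgroup.mem_sup_right hz⟩, mul_div_assoc, mul_comm, ← div_eq_mul_inv,
      red_div (h.div_mem (hC z hz)) h4 h5, h2 ⟨z, Subgroup.mem_sup_right hz⟩ z (hC z hz) rfl, h3]
    exact div_self fun h => red_ne_zero_iff.2 ⟨h4, h5⟩ (h3.trans h)

end Ext

theorem intC_cav_cen [Fact p.Prime] (hM : IsPModular p M) (Q : Sylow p N) :
    ∀ y ∈ Cen ((Q : Subgroup N).map N.subtype), IntC M (cav N y) := fun y hy => by
  have h1 : (Q : Subgroup N).map N.subtype ≤ N ⊓ Subgroup.centralizer {y} :=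
    le_inf (Subgroup.map_subtype_le _) fun u hu =>
      Subgroup.mem_centralizer_singleton_iff.2 (hy u hu)
  have h2 := Subgroup.card_dvd_of_le h1
  rw [Subgroup.card_subtype, Q.card_eq_multiplicity] at h2
  exact intC_cav hM ((hM.1.pow_dvd_iff_le_factorization Nat.card_pos.ne').1 h2)

theorem normal_sup_cen [Fact p.Prime] (Q : Sylow p N) :
    (N ⊔ Cen ((Q : Subgroup N).map N.subtype)).Normal :=
  Subgroup.normalizer_eq_top_iff.1 (eq_top_iff.2 (Q.normalizer_sup_eq_top.ge.trans (sup_le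
    (fun _ hx => mem_nor_sup ((Subgroup.normalizer_eq_top N).ge trivial) (nor_le_nor_cen _ hx))
    (le_sup_left.trans (le_nor _)))))

theorem exists_ext [Fact p.Prime] (hM : IsPModular p M) (hθ : θ ∈ principalBlock M N)
    (hinv : ∀ (g : G) (n : N), θ.1 ⟨g * n * g⁻¹, hN.conj_mem _ n.2 g⟩ = θ.1 n)
    (hd : ¬ p ∣ charDegree θ.1) (ho : ¬ p ∣ detOrder θ.1) (Q : Sylow p N) {a : ℕ}
    (ha : (N ⊔ Cen ((Q : Subgroup N).map N.subtype)).index = p ^ a) : ∃ χ, Ext M θ χ := by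
  classical
  obtain ⟨χ, h1, h2⟩ := H32.exists_ext_of_forall_prime θ.2 hinv fun q hq _ => by
    have := Fact.mk hq
    obtain ⟨S⟩ : Nonempty (Sylow q (G ⧸ N)) := inferInstance
    set R := (S : Subgroup (G ⧸ N)).comap (QuotientGroup.mk' N)
    have hNR : N ≤ R := fun n hn => by
      change (n : G ⧸ N) ∈ (S : Subgroup (G ⧸ N))
      rw [(QuotientGroup.eq_one_iff n).2 hn]
      exact one_mem _
    obtain ⟨k, hk⟩ : ∃ k, (N.subgroupOf R).index = q ^ k := by
      have := Subgroup.relIndex_ker R (QuotientGroup.mk' N)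
      rw [QuotientGroup.ker_mk', Subgroup.map_comap_eq_self_of_surjective
        (QuotientGroup.mk'_surjective N)] at this
      exact ⟨_, this.trans S.card_eq_multiplicity⟩
    set e := Subgroup.subgroupOfEquivOfLe hNR
    suffices h : ∃ η : R → ℂ, IsIrrCharacter R η ∧ ∀ n : N.subgroupOf R, η n = θ.1 (e n) by
      obtain ⟨η, h1, h2⟩ := h
      refine ⟨R, hNR, η, ?_, h1.isCharacter, fun n => h2 ⟨⟨n, hNR n.2⟩, n.2⟩⟩
      rw [Subgroup.index_comap_of_surjective _ (QuotientGroup.mk'_surjective N)]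
      exact S.not_dvd_index
    by_cases hqp : q = p
    · subst hqp
      obtain ⟨η, h1, h2, -⟩ := H32.exists_canonical_ext (H38.trI e θ).2
        (fun g n => hinv g (e n)) (d := charDegree θ.1)
        ((congrArg θ.1 (map_one e)).trans (coe_deg θ).symm) (by
          rw [hk]
          refine (Nat.Coprime.mul_right ((hq.coprime_iff_not_dvd).2 fun h => ho (h.trans ?_))
            ((hq.coprime_iff_not_dvd).2 hd)).pow_left k
          exact H38.detOrder_comp_dvd e.toMonoidHom θ.2.isCharacter (H38.trI e θ).2)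
      exact ⟨η, h1, h2⟩
    · have hc : (q ^ k).Coprime (p ^ a) := Nat.Coprime.pow _ _ ((Nat.coprime_primes hq hM.1).2 hqp)
      have := normal_sup_cen Q
      set Q' := (Q : Subgroup N).map N.subtype
      have h1 : R ≤ N ⊔ Cen Q' := fun r hr => by
        have h2 : r ^ q ^ k ∈ N := hk ▸ Subgroup.pow_index_mem (N.subgroupOf R) ⟨r, hr⟩
        have h3 : r ^ p ^ a ∈ N ⊔ Cen Q' := ha ▸ Subgroup.pow_index_mem _ r
        rw [← QuotientGroup.eq_one_iff, ← orderOf_eq_one_iff]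
        exact Nat.eq_one_of_dvd_coprimes hc
          (orderOf_dvd_of_pow_eq_one ((QuotientGroup.eq_one_iff _).2 (Subgroup.mem_sup_left h2)))
          (orderOf_dvd_of_pow_eq_one ((QuotientGroup.eq_one_iff _).2 h3))
      have h2 : Q' ≤ R := (Subgroup.map_subtype_le _).trans hNR
      have h3 : ¬ p ∣ (N.subgroupOf R).index := fun h =>
        hqp ((Nat.prime_dvd_prime_iff_eq hM.1 hq).1 (hM.1.dvd_of_dvd_pow (hk ▸ h))).symm
      have h4 : ¬ p ∣ (Q'.subgroupOf R).index := by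
        rw [← Subgroup.relIndex, ← Subgroup.relIndex_mul_relIndex Q' N R (Subgroup.map_subtype_le _)
          hNR, hM.1.dvd_mul, not_or]
        refine ⟨?_, h3⟩
        rw [Subgroup.relIndex, Subgroup.subgroupOf,
          Subgroup.comap_map_eq_self_of_injective N.subtype_injective]
        exact Q.not_dvd_index
      obtain ⟨η, ⟨-, h5⟩, -⟩ := (iso_principal hM h3 (((Q.isPGroup'.map _).comap_subtype
        (K := R)).toSylow h4) (eq_top_iff.2 fun r _ => by
          obtain ⟨n, hn, y, hy, e⟩ := (Subgroup.normal_mul N _).subset (h1 r.2)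
          have h6 : y ∈ R := (R.mul_mem_cancel_left (hNR hn)).1 (e ▸ r.2 :)
          rw [show r = ⟨n, hNR hn⟩ * ⟨y, h6⟩ from Subtype.ext e.symm]
          exact Subgroup.mul_mem_sup hn fun u hu => Subtype.ext (hy u hu))).2 (H38.trI e θ)
        (H38.image_trI_principalBlock e ▸ (H38.trI_mem_image e).2 hθ)
      exact ⟨η.1, η.2, h5⟩
  exact ⟨χ, hθ, h1, h2⟩

theorem fix_adjoin {r : ℕ} (hr : r ≠ 0) {τ : ℂ →+* ℂ} (h : ∀ z, z ^ r = 1 → τ z = z) :
    ∀ y ∈ IntermediateField.adjoin ℚ ({Complex.exp (2 * Real.pi * Complex.I / r)} : Set ℂ),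
      τ y = y := fun y hy => by
  induction hy using IntermediateField.adjoin_induction with
  | mem y hy => exact h y (hy ▸ (Complex.isPrimitiveRoot_exp r hr).pow_eq_one)
  | algebraMap q => simp
  | add x y _ _ a b => rw [map_add, a, b]
  | inv x _ a => rw [map_inv₀, a]
  | mul x y _ _ a b => rw [map_mul, a, b]

theorem not_dvd_detOrder (hp : p.Prime) (h2 : p ≠ 2) {m : ℕ} (hm : ¬ p ∣ m) (hχ : IsIrrCharacter G χ)
    (h : ∀ g, χ g ∈ IntermediateField.adjoin ℚ
      ({Complex.exp (2 * Real.pi * Complex.I / m)} : Set ℂ)) : ¬ p ∣ detOrder χ := by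
  obtain ⟨a, n, hn, h1⟩ := Nat.exists_eq_pow_mul_and_not_dvd (Nat.card_pos (α := G)).ne' p hp.ne_one
  have h0 : m * n ≠ 0 := fun h => (hp.dvd_mul.1 (h ▸ dvd_zero p)).elim hm hn
  have hc : p.Coprime (m * n) := hp.coprime_iff_not_dvd.2 fun h => (hp.dvd_mul.1 h).elim hm hn
  obtain ⟨k, k1, k2⟩ := Nat.chineseRemainder hc 2 1
  obtain ⟨τ, hτ⟩ := H29.exists_ringEquiv_pow (mul_ne_zero (pow_ne_zero a hp.ne_zero) h0) (m := k)
    (Nat.Coprime.mul_right (Nat.Coprime.pow_right a (by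
      rw [Nat.Coprime, k1.gcd_eq]; exact (Nat.coprime_primes Nat.prime_two hp).2 h2.symm))
      (by rw [Nat.Coprime, k2.gcd_eq, Nat.gcd_one_left]))
  have h3 := H40.detChar_gal hχ τ.toRingHom
  have h7 : ∀ z : ℂ, z ^ m = 1 → τ.toRingHom z = z := fun z hz =>
    (hτ z (by rw [mul_left_comm, pow_mul, hz, one_pow])).trans
      ((pow_eq_pow_of_modEq k2 (by rw [pow_mul, hz, one_pow])).trans (pow_one z))
  rw [show (fun g => τ.toRingHom (χ g)) = χ from
    funext fun g => fix_adjoin (left_ne_zero_of_mul h0) h7 _ (h g)] at h3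
  obtain ⟨f, hf⟩ := H32.exists_hom_detChar χ
  rw [detOrder, hf, H32.orderOf_hom_coe]
  have h4 : f ^ 1 = f ^ k := MonoidHom.ext fun g => Units.ext (by
    have h8 : (f g : ℂ) ^ (p ^ a * (m * n)) = 1 := by
      rw [mul_left_comm, ← h1, ← Units.val_pow_eq_pow_val, ← map_pow, mul_comm, pow_mul,
        pow_card_eq_one', one_pow, map_one, Units.val_one]
    have h9 := congrFun h3 g
    rw [hf] at h9
    simpa using h9.trans (hτ _ h8))
  intro h5
  have h6 : 1 ≡ 2 [MOD p] :=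
    (Nat.ModEq.of_dvd h5 ((pow_eq_pow_iff_modEq (x := f)).1 h4)).trans k1
  exact hp.ne_one (Nat.dvd_one.1 ((Nat.modEq_iff_dvd' one_le_two).1 h6))

theorem Ext.exists_det (h : Ext M θ χ) (hM : IsPModular p M) (hd : ¬ p ∣ charDegree θ.1)
    (ho : ¬ p ∣ detOrder θ.1) {C : Subgroup G} (hC : ∀ y ∈ C, IntC M (cav N y))
    (hg : ∀ y ∈ C, red M (χ y / χ 1) = 1) : ∃ (ψ : G → ℂ) (n : ℕ), Ext M θ ψ ∧
      (∀ y ∈ C, red M (ψ y / ψ 1) = 1) ∧ ¬ p ∣ n ∧ ∀ g, detChar ψ g ^ n = 1 := by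
  have hp := hM.1
  obtain ⟨a, n, hn, h1⟩ := Nat.exists_eq_pow_mul_and_not_dvd (Nat.card_pos (α := G)).ne' p hp.ne_one
  obtain ⟨f, hf⟩ := H32.exists_hom_detChar χ
  have hc : (n * charDegree θ.1).Coprime (p ^ a) :=
    (hp.coprime_iff_not_dvd.2 fun h => (hp.dvd_mul.1 h).elim hn hd).symm.pow_right a
  obtain ⟨v, hv⟩ : ∃ v, p ^ a ∣ n * charDegree θ.1 * v + 1 := by
    have : NeZero (p ^ a) := ⟨pow_ne_zero a hp.ne_zero⟩
    refine ⟨(-((ZMod.unitOfCoprime _ hc)⁻¹ : (ZMod (p ^ a))ˣ) : ZMod (p ^ a)).val,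
      (ZMod.natCast_eq_zero_iff _ _).1 ?_⟩
    rw [Nat.cast_add, Nat.cast_mul, ZMod.natCast_zmod_val, ← ZMod.coe_unitOfCoprime _ hc, mul_neg,
      Units.mul_inv, Nat.cast_one, neg_add_cancel]
  have h2 : ∀ g, (f g : ℂ) ^ (p ^ a * n) = 1 := fun g => by
    rw [← h1, ← Units.val_pow_eq_pow_val, ← map_pow, pow_card_eq_one', map_one, Units.val_one]
  have h3 : detOrder θ.1 ∣ n := ((hp.coprime_iff_not_dvd.2 ho).symm.pow_right a).dvd_of_dvd_mul_left
    (h1 ▸ (H32.detOrder_dvd_card θ.1).trans (Subgroup.card_subgroup_dvd_card N))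
  refine ⟨_, n, h.mul (f := f ^ (n * v)) fun x hx => Units.ext ?_, fun y hy => ?_, hn, fun g => ?_⟩
  · have h4 := H32.detChar_ext N.subtype θ.2 h.irr.isCharacter h.ext ⟨x, hx⟩
    have h5 := congrFun (orderOf_dvd_iff_pow_eq_one.1 h3) ⟨x, hx⟩
    rw [hf] at h4
    rw [MonoidHom.pow_apply, Units.val_pow_eq_pow_val, pow_mul, show (f x : ℂ) = _ from h4,
      show detChar θ.1 ⟨x, hx⟩ ^ n = 1 from h5, one_pow, Units.val_one]
  · have h4 : (((f ^ (n * v)) y : ℂˣ) : ℂ) ^ p ^ a = 1 := by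
      rw [MonoidHom.pow_apply, Units.val_pow_eq_pow_val, ← pow_mul, mul_comm, ← mul_assoc, pow_mul,
        h2, one_pow]
    rw [map_one, Units.val_one, one_mul, mul_div_assoc, red_mul (mem_S_of_pow_eq_one
      (pow_ne_zero a hp.ne_zero) h4) (h.div_mem (hC y hy)), hg y hy, mul_one,
      red_eq_one_of_pow_eq_one hM h4]
  · obtain ⟨w, hw⟩ := hv
    rw [H32.detChar_mul_hom h.irr _ ((h.ext 1).trans (coe_deg θ).symm), hf]
    simp only [MonoidHom.pow_apply, Units.val_pow_eq_pow_val]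
    rw [← pow_mul, ← pow_succ, mul_right_comm, hw, ← pow_mul, mul_right_comm, pow_mul, h2, one_pow]

theorem Ext.unique (h : Ext M θ χ) (hM : IsPModular p M) (hd : ¬ p ∣ charDegree θ.1)
    {C : Subgroup G} (hC : ∀ y ∈ C, IntC M (cav N y)) [(N ⊔ C).Normal] {a : ℕ}
    (ha : (N ⊔ C).index = p ^ a) (hg : ∀ y ∈ C, red M (χ y / χ 1) = 1) {ψ : G → ℂ}
    (h' : Ext M θ ψ) (hg' : ∀ y ∈ C, red M (ψ y / ψ 1) = 1) (e : detChar ψ = detChar χ) :
    ψ = χ := by
  obtain ⟨f, f1, rfl⟩ := H32.exists_hom_of_ext_of_ext h.irr.isCharacter h.res h'.irr.isCharacter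
    fun n => (h'.ext n).trans (h.ext n).symm
  obtain ⟨δ, hδ⟩ := H32.exists_hom_detChar χ
  rw [H32.detChar_mul_hom h.irr _ ((h.ext 1).trans (coe_deg θ).symm), hδ] at e
  have h1 : ∀ g, (f g : ℂ) ^ charDegree θ.1 = 1 := fun g =>
    mul_right_cancel₀ (δ g).ne_zero ((congrFun e g).trans (one_mul _).symm)
  have h2 : N ⊔ C ≤ f.ker := sup_le f1 fun y hy => Units.ext (eq_one_of_red hM hd (h1 y) (by
    have : red M (f y * χ y / (f 1 * χ 1)) = 1 := hg' y hy
    rwa [map_one, Units.val_one, one_mul, mul_div_assoc, red_mul (mem_S_of_pow_eq_one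
      (deg_ne_zero θ) (h1 y)) (h.div_mem (hC y hy)), hg y hy, mul_one] at this))
  rw [H32.hom_eq_one_of_pow_eq_one h2 (ha ▸ (hM.1.coprime_iff_not_dvd.2 hd).pow_left a)
    (MonoidHom.ext fun g => Units.ext (by simpa using h1 g))]
  simp

theorem Ext.mem_principal (h : Ext M θ χ) (hM : IsPModular p M) {C : Subgroup G}
    (hC : ∀ y ∈ C, IntC M (cav N y)) [(N ⊔ C).Normal] {a : ℕ} (ha : (N ⊔ C).index = p ^ a)
    (hg : ∀ y ∈ C, red M (χ y / χ 1) = 1) :
    (⟨χ, h.irr⟩ : IrrCharacter G) ∈ principalBlock M G := by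
  have := Fact.mk hM.1
  have := Fintype.ofFinite (N ⊔ C : Subgroup G)
  obtain ⟨ξ, h1, h2⟩ := h.res_mem hC hg le_sup_left le_rfl
  rw [H38.Covers.unique_of_pRegular (E := H38.NEmb.ofNormal (N ⊔ C)) hM (fun g hg =>
    ⟨⟨g, mem_of_index_pow ha hg⟩, rfl⟩) isPBlock_principalBlock (isPBlock_blockOf ⟨χ, h.irr⟩)
    isPBlock_principalBlock ⟨_, one_mem_principalBlock, _, one_mem_principalBlock, H38.over_one⟩
    ⟨_, self_mem_blockOf _, ξ, h1, H38.over_of_eq ξ.2.ne_zero fun n => (h2 n).symm⟩]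
  exact self_mem_blockOf ⟨χ, h.irr⟩

theorem exists_rat_ext [Fact p.Prime] (h2 : p ≠ 2) (hM : IsPModular p M)
    (hθ : θ ∈ principalBlock M N)
    (hinv : ∀ (g : G) (n : N), θ.1 ⟨g * n * g⁻¹, hN.conj_mem _ n.2 g⟩ = θ.1 n)
    (hd : ¬ p ∣ charDegree θ.1) {m : ℕ} (hm : ¬ p ∣ m) (hr : ∀ n, θ.1 n ∈
      IntermediateField.adjoin ℚ ({Complex.exp (2 * Real.pi * Complex.I / m)} : Set ℂ))
    (Q : Sylow p N) {a : ℕ} (ha : (N ⊔ Cen ((Q : Subgroup N).map N.subtype)).index = p ^ a) :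
    ∃ χ : IrrCharacter G, χ ∈ principalBlock M G ∧ (∃ n : ℕ, ¬ p ∣ n ∧ ∀ g, χ.1 g ∈
      IntermediateField.adjoin ℚ ({Complex.exp (2 * Real.pi * Complex.I / n)} : Set ℂ)) ∧
      ∀ n : N, χ.1 n = θ.1 n := by
  have ho := not_dvd_detOrder hM.1 h2 hm θ.2 hr
  have hC := intC_cav_cen hM Q
  have := normal_sup_cen Q
  obtain ⟨χ, h⟩ := exists_ext hM hθ hinv hd ho Q ha
  obtain ⟨χ, h, hg⟩ := h.exists_good hM hC ha
  obtain ⟨χ, n, h, hg, hn, h1⟩ := h.exists_det hM hd ho hC hg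
  have h3 : ¬ p ∣ m * n := fun h => (hM.1.dvd_mul.1 h).elim hm hn
  have h0 : m * n ≠ 0 := fun h => h3 (h ▸ dvd_zero p)
  refine ⟨⟨χ, h.irr⟩, h.mem_principal hM hC ha hg, ⟨m * n, h3, fun g => ?_⟩, h.ext⟩
  obtain ⟨q, hq⟩ := H29.mem_range_of_forall_algEquiv_fixed (F := IntermediateField.adjoin ℚ
    ({Complex.exp (2 * Real.pi * Complex.I / (m * n : ℕ))} : Set ℂ))
    ((h.irr.isCharacter.isIntegral g).tower_top) fun σ => by
      have : NeZero (m * n) := ⟨h0⟩
      have h4 : ∀ z : ℂ, z ^ (m * n) = 1 → (σ : ℂ →+* ℂ) z = z := fun z hz => by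
        obtain ⟨i, -, rfl⟩ := (Complex.isPrimitiveRoot_exp _ h0).eq_pow_of_pow_eq_one hz
        exact σ.commutes ⟨_, pow_mem (IntermediateField.subset_adjoin ℚ _ (Set.mem_singleton _)) i⟩
      obtain ⟨k, -, hk⟩ := H29.exists_pow_char_of_ringHom G (σ : ℂ →+* ℂ)
      refine congrFun (h.unique hM hd hC ha hg (ψ := fun g => (σ : ℂ →+* ℂ) (χ g))
        ⟨hθ, H29.Cfsg.IsIrrCharacter.gal h.irr _, fun x => ?_⟩ (fun y hy => ?_) ?_) g
      · rw [h.ext]
        exact fix_adjoin (left_ne_zero_of_mul h0)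
          (fun z hz => h4 z (by rw [pow_mul, hz, one_pow])) _ (hr x)
      · rw [hk χ h.irr.isCharacter, hk χ h.irr.isCharacter, one_pow]
        exact hg _ (pow_mem hy k)
      · rw [H40.detChar_gal h.irr]
        exact funext fun g => h4 _ (by rw [mul_comm, pow_mul, h1, one_pow])
  show χ g ∈ _
  rw [← hq]
  exact q.2

end H34.PExt
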