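import Cfsg.Agent.H34.Pim
import Cfsg.Agent.H35.KR
import Cfsg.Agent.H41.SubsecOrth
import Cfsg.Agent.H29.GalChar

/-! Traces of automorphisms on the projective characters; `p`-rational characters in a block. -/

set_option autoImplicit false

namespace H34.Pim

open Cfsg H28 H29 H35 H2 H41 MonoidAlgebra Module Finset
open scoped ComplexConjugate

theorem trace_nat {V : Type*} [AddCommGroup V] [Module ℂ V] [Module.Finite ℂ V] {s : Set V}
    (hs : LinearIndependent ℂ (Subtype.val : s → V)) (T : V →ₗ[ℂ] V)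
    (h1 : ∀ v, T v ∈ Submodule.span ℂ s) (h2 : ∀ v ∈ s, T v = 0 ∨ T v ∈ s) :
    ∃ n : ℕ, LinearMap.trace ℂ V T = n := by
  classical
  have := hs.finite
  have := Fintype.ofFinite s
  have h3 : ∀ v, T v ∈ Submodule.span ℂ (Set.range (Subtype.val : s → V)) := by
    simpa using h1
  let b := Basis.span hs
  refine ⟨(univ.filter fun v : s => T v = v).card, ?_⟩
  rw [← LinearMap.trace_restrict_eq_of_forall_mem _ T h3, LinearMap.trace_eq_matrix_trace ℂ b,
    Matrix.trace, card_filter, Nat.cast_sum]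
  refine sum_congr rfl fun v _ => ?_
  rw [Matrix.diag_apply, LinearMap.toMatrix_apply]
  have hb : ∀ w : s, (b w : V) = w := fun w => Basis.coe_span_apply hs w
  rcases h2 v v.2 with h | h
  · rw [show T.restrict (fun x _ => h3 x) (b v) = 0 from Subtype.ext (by simpa [hb] using h),
      if_neg fun e => hs.ne_zero v (e.symm.trans h)]
    simp
  · rw [show T.restrict (fun x _ => h3 x) (b v) = b ⟨_, h⟩ from Subtype.ext (by simp [hb]),
      b.repr_self, Finsupp.single_apply]
    simp [Subtype.ext_iff]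

variable {G : Type*} [Group G] [Fintype G] {p : ℕ} {M : Ideal AlgInt} [M.IsMaximal]

theorem mem_span_PS (hM : IsPModular p M) {f : G → ℂ} (hf : IsClassFunction G f) :
    pRegularPart p f ∈ Submodule.span ℂ (PS M (1 : (F M)[G])) := by
  rw [hf.eq_sum_irr, pReg_sum]
  refine Submodule.sum_mem _ fun χ _ => ?_
  rw [pReg_smul]
  refine Submodule.smul_mem _ _ (Submodule.span_mono ?_
    (pReg_mem_span hM (isPBlock_blockOf χ) (self_mem_blockOf χ)))
  rintro _ ⟨e, h1, -, h2⟩
  exact ⟨e, h1, one_mul e, h2⟩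

theorem comp_mem_PS (hM : IsPModular p M) (α : G ≃* G) {Φ : G → ℂ}
    (h : Φ ∈ PS M (1 : (F M)[G])) : (fun x => Φ (α x)) ∈ PS M (1 : (F M)[G]) := by
  obtain ⟨e, e1, -, rfl⟩ := h
  obtain ⟨i, i1, i2, rfl⟩ := exists_lift e1.idem
  have h1 : redA M (domCongr ℂ ℂ α.symm i) = domCongr (F M) (F M) α.symm (redA M i) := by
    ext g
    simp
  refine ⟨domCongr (F M) (F M) α.symm (redA M i), ⟨by rw [← map_mul, e1.idem],
    (map_ne_zero_iff _ (AlgEquiv.injective _)).2 e1.ne, fun f f1 f2 f3 => ?_⟩, one_mul _, ?_⟩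
  · obtain ⟨f, rfl⟩ := (domCongr (F M) (F M) α.symm).surjective f
    rw [← map_mul, (AlgEquiv.injective _).eq_iff] at f1 f2 f3
    exact (e1.prim f f1 f2 f3).imp (fun e => by rw [e, map_zero]) fun e => by rw [e]
  · rw [← h1, PP_redA hM i1 i2, PP_redA hM (fun g => by simpa using i1 _) (by rw [← map_mul, i2])]
    funext x
    rw [pch_apply', pch_apply', ← α.toEquiv.sum_comp]
    simp

theorem blockPart_PS (hM : IsPModular p M) {b : Set (IrrCharacter G)} (hb : IntC M (fC b))
    {Φ : G → ℂ} (h : Φ ∈ PS M (1 : (F M)[G])) :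
    pRegularPart p Φ = Φ ∧ (blockPart b Φ = 0 ∨ blockPart b Φ = Φ) := by
  obtain ⟨e, e1, -, rfl⟩ := h
  obtain ⟨i, i1, i2, rfl⟩ := exists_lift e1.idem
  have h1 : fC b * i * (fC b * i) = fC b * i := by
    rw [mul_assoc, ← mul_assoc i, (Subalgebra.mem_center_iff.1 (fC_mem_Z b) i), mul_assoc, i2,
      ← mul_assoc, fC_mul_self]
  have h2 := hb.mul i1
  rw [PP_redA hM i1 i2, blockPart_pch, ← PP_redA hM h2 h1]
  refine ⟨pReg_eq_self_iff.2 fun x hx => pch_eq_zero_of_sing hM i1 i2 hx, ?_⟩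
  refine (e1.prim (redA M (fC b * i)) (by rw [← redA_mul h2 h2, h1]) ?_ ?_).imp
    (fun e => by rw [e, PP_zero hM]) fun e => by rw [e, PP_redA hM i1 i2]
  · rw [← redA_mul i1 h2, ← mul_assoc, (Subalgebra.mem_center_iff.1 (fC_mem_Z b) i), mul_assoc, i2]
  · rw [← redA_mul h2 i1, mul_assoc, i2]

theorem sum_bker_aut (hM : IsPModular p M) {b : Set (IrrCharacter G)} (hb : IntC M (fC b))
    (α : G ≃* G) : ∃ n : ℕ, ∑ y, pRegularPart p (fun y => bker b (α y) y) y =
      (Nat.card G : ℂ) * n := by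
  classical
  let K : Matrix G G ℂ := fun x y => (Nat.card G : ℂ)⁻¹ * pRegularPart p (bker b (α x)) y
  have hK : ∀ f, Matrix.toLin' K f = fun x => blockPart b (pRegularPart p f) (α x) := fun f => by
    funext x
    rw [blockPart_eq_sum_bker, mul_sum]
    refine sum_congr rfl fun y _ => ?_
    simp only [K, pReg_apply]
    split_ifs <;> ring
  obtain ⟨n, hn⟩ := trace_nat (linearIndependent_PS hM (1 : (F M)[G])) (Matrix.toLin' K)
    (fun f => by
      have h1 := mem_span_PS hM (f := fun x => blockPart b f (α x)) fun g x => by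
        simp only [map_mul, map_inv, blockPart_isClassFunction b f (α g)]
      rw [hK, blockPart_pReg_comm_of_coeff_mem hM hb]
      convert h1 using 2 with x
      simp only [pReg_apply, α.orderOf_eq]) fun Φ h => by
      obtain ⟨h1, h2⟩ := blockPart_PS hM hb h
      rw [hK, h1]
      exact h2.imp (fun e => by rw [e]; rfl) fun e => by rw [e]; exact comp_mem_PS hM α h
  refine ⟨n, ?_⟩
  rw [← hn, Matrix.trace_toLin'_eq, Matrix.trace, mul_sum]
  refine sum_congr rfl fun y _ => ?_
  change _ = _ * (_ * pRegularPart p (bker b (α y)) y)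
  rw [mul_inv_cancel_left₀ (Nat.cast_ne_zero.2 Nat.card_pos.ne'), pReg_apply, pReg_apply]

theorem rank_le_fixed (hM : IsPModular p M) {B : Set (IrrCharacter G)} (hB : IsPBlock M B) {k : ℕ}
    (hk : k.Coprime (Nat.card G)) (h1 : ∀ y : G, ¬ p ∣ orderOf y → y ^ k = y) :
    blockRank p B ≤ Nat.card {χ : IrrCharacter G // χ ∈ B ∧ ∀ g, χ.1 (g ^ k) = χ.1 g} := by
  classical
  have h2 : ∑ g, bker B (g ^ k) g = (Nat.card G : ℂ) *
      Nat.card {χ : IrrCharacter G // χ ∈ B ∧ ∀ g, χ.1 (g ^ k) = χ.1 g} := by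
    simp only [bker_eq_sum]
    rw [sum_comm, Nat.card_eq_fintype_card (α := Subtype _), Fintype.card_subtype, card_filter,
      Nat.cast_sum, mul_sum]
    refine sum_congr rfl fun χ _ => ?_
    by_cases h : χ ∈ B
    swap
    · simp [h]
    have h3 : ∑ g, χ.1 (g ^ k) * conj (χ.1 g) = Nat.card G * classInner (fun g => χ.1 (g ^ k)) χ.1 := by
      rw [classInner_def, mul_inv_cancel_left₀ (Nat.cast_ne_zero.2 Nat.card_pos.ne')]
    simp only [h, if_true, true_and, h3]
    split_ifs with h4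
    · rw [funext h4, χ.2.classInner_self, Nat.cast_one]
    · rw [(χ.2.comp_pow hk).classInner_of_ne χ.2 fun e => h4 (congrFun e), Nat.cast_zero]
  have h3 : ∀ u : G, (∃ j, orderOf u = p ^ j) → ∃ n : ℕ,
      ∑ᶠ y : Subgroup.centralizer ({u} : Set G), pRegularPart p (fun c => bker B ((u * c) ^ k)
        (u * c)) y = n ∧ (u = 1 → n = Nat.card G * blockRank p B) := fun u hu => by
    have hs := isSec_centralizer hu
    have := Fintype.ofFinite (Subgroup.centralizer ({u} : Set G))
    have h3 : ∀ y : Subgroup.centralizer ({u} : Set G), ¬ p ∣ orderOf (y : G) →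
        (u * y) ^ k = u ^ k * y := fun y hy => by
      rw [Commute.mul_pow (hs.comm y), h1 y hy]
    rw [finsum_eq_sum_of_fintype]
    by_cases u1 : u = 1
    · subst u1
      refine ⟨_, ?_, fun _ => rfl⟩
      rw [Nat.cast_mul, ← sum_pReg_bker hM hB]
      refine Fintype.sum_bijective Subtype.val ⟨Subtype.val_injective, fun g =>
        ⟨⟨g, Subgroup.mem_centralizer_singleton_iff.2 (by simp)⟩, rfl⟩⟩ _ _ fun y => ?_
      simp only [pReg_apply, one_mul]
      split_ifs with h
      · rfl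
      · rw [h1 _ h]
    by_cases hc : IsConj (u ^ k) u
    swap
    · refine ⟨0, (sum_eq_zero fun y _ => ?_).trans Nat.cast_zero.symm, fun e => absurd e u1⟩
      rw [pReg_apply]
      split_ifs with h
      · rfl
      obtain ⟨j, hj⟩ := hu
      obtain ⟨l, -, hl⟩ := (Nat.dvd_prime_pow hM.1).1 (hj ▸ orderOf_pow_dvd k)
      rw [h3 y h]
      exact bker_eq_zero_of_coeff_mem hM (intC_fC hB)
        ⟨y, rfl, Commute.pow_left (hs.comm y) k, ⟨l, hl⟩, h⟩ ⟨y, rfl, hs.comm y, ⟨j, hj⟩, h⟩ hc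
    obtain ⟨c, hc⟩ := isConj_iff.1 hc
    have hn : c ∈ Subgroup.normalizer (Subgroup.centralizer ({u} : Set G) : Set G) := by
      refine Subgroup.mem_normalizer_fintype fun y hy => ?_
      have h4 : Commute y (u ^ k) :=
        Commute.pow_right (Subgroup.mem_centralizer_singleton_iff.1 hy) k
      refine Subgroup.mem_centralizer_singleton_iff.2 ?_
      rw [← hc, conj_mul, conj_mul, h4]
    obtain ⟨n, hn⟩ := sum_bker_aut hM (intC_fC_locSet (Subgroup.centralizer ({u} : Set G)) B)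
      ((Subgroup.centralizer ({u} : Set G)).normalizerMonoidHom ⟨c, hn⟩)
    refine ⟨Nat.card (Subgroup.centralizer ({u} : Set G)) * n, ?_, fun e => absurd e u1⟩
    rw [Nat.cast_mul, ← hn]
    refine sum_congr rfl fun y _ => ?_
    simp only [pReg_apply, Subgroup.orderOf_coe]
    split_ifs with h
    · rfl
    rw [← hs.bker_mul_mul hM (intC_fC hB) (by rwa [MulEquiv.orderOf_eq]) h,
      h3 y (by rwa [Subgroup.orderOf_coe])]
    refine bker_congr B (isConj_iff.2 ⟨c, ?_⟩) (IsConj.refl _)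
    rw [← conj_mul, hc]
    rfl
  choose! n h4 h5 using h3
  have h6 : (∃ j, orderOf (1 : G) = p ^ j) := ⟨0, by simp⟩
  rw [sum_eq_sum_pPart hM.1, sum_congr rfl fun u hu => h4 u (mem_filter.1 hu).2] at h2
  norm_cast at h2
  refine Nat.le_of_mul_le_mul_left ?_ (Nat.card_pos (α := G))
  rw [← h2, ← h5 1 h6 rfl]
  exact single_le_sum (fun _ _ => Nat.zero_le _) (mem_filter.2 ⟨mem_univ _, h6⟩)

end H34.Pim
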