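import Cfsg.Agent.H39.NilDict
import Cfsg.Agent.H36.Extended
import Cfsg.Agent.H2.PrimeCore
import Cfsg.Agent.H28.CharKer

/-!
# Normal `p'`-subgroups in the kernel of a block, along Brauer pairs (Feit V.4)

`avg K` is the idempotent `|K|⁻¹ ∑_{k ∈ K} k`.  A normal `p'`-subgroup `K` lies in the kernel of
a block `e` iff `avg K * e = e`, and the Brauer map sends `avg K` to `avg (C_K(R))`.
-/

set_option autoImplicit false
set_option linter.unusedSectionVars false

open scoped MonoidAlgebra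

namespace H34

open Cfsg H28 H35 H36 H39

section avg

variable {G : Type*} [Group G] [Finite G] {F : Type*} [Field F]

open Classical in
variable (F) in
/-- The averaging element of a subgroup. -/
noncomputable def avg (K : Subgroup G) : F[G] :=
  H36.mk fun g => if g ∈ K then (Nat.card K : F)⁻¹ else 0

theorem coeff_avg_of_mem {K : Subgroup G} {g : G} (h : g ∈ K) :
    (avg F K).coeff g = (Nat.card K : F)⁻¹ := by simp [avg, h]

theorem coeff_avg_of_not_mem {K : Subgroup G} {g : G} (h : g ∉ K) : (avg F K).coeff g = 0 := by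
  simp [avg, h]

theorem coeff_avg_congr {K : Subgroup G} {g h : G} (H : g ∈ K ↔ h ∈ K) :
    (avg F K).coeff g = (avg F K).coeff h := by
  by_cases hg : g ∈ K
  · rw [coeff_avg_of_mem hg, coeff_avg_of_mem (H.1 hg)]
  · rw [coeff_avg_of_not_mem hg, coeff_avg_of_not_mem fun h' => hg (H.2 h')]

theorem supp_avg (K : Subgroup G) : Supp (K : Set G) (avg F K) :=
  fun _ hg => coeff_avg_of_not_mem hg

theorem inv_avg {K N : Subgroup G} (h : N ≤ Nor K) : H36.Inv N (avg F K) := fun _ hk g =>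
  coeff_avg_congr ((Subgroup.mem_normalizer_iff.1 (h hk) g).symm)

theorem avg_mem_Fx {K H : Subgroup G} (hKH : K ≤ H) (h : H ≤ Nor K) : avg F K ∈ Fx F H H :=
  mem_Fx.2 ⟨inv_avg h, (supp_avg K).mono hKH⟩

theorem avg_mul_avg {L K : Subgroup G} (h : L ≤ K) (hL : (Nat.card L : F) ≠ 0) :
    avg F L * avg F K = avg F K := by
  classical
  let _inst := Fintype.ofFinite G
  refine ga_ext fun g => ?_
  rw [coeff_mul_sum]
  have : ∀ x, (avg F L).coeff x * (avg F K).coeff (x⁻¹ * g) =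
      if x ∈ L then (Nat.card L : F)⁻¹ * (avg F K).coeff g else 0 := fun x => by
    split_ifs with hx
    · rw [coeff_avg_of_mem hx, coeff_avg_congr (h := g) (K.mul_mem_cancel_left (K.inv_mem (h hx)))]
    · rw [coeff_avg_of_not_mem hx, zero_mul]
  simp_rw [this]
  rw [← Finset.sum_filter, Finset.sum_const, nsmul_eq_mul, ← mul_assoc]
  have hc : (Finset.univ.filter fun x => x ∈ L).card = Nat.card L := by
    rw [Nat.card_eq_fintype_card, Fintype.card_subtype]
  rw [hc, mul_inv_cancel₀ hL, one_mul]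

theorem avg_mul_of_le {L K : Subgroup G} (h : L ≤ K) (hL : (Nat.card L : F) ≠ 0) {e : F[G]}
    (he : avg F K * e = e) : avg F L * e = e := by
  rw [← he, ← mul_assoc, avg_mul_avg h hL]

theorem cj_avg (x : G) (K : Subgroup G) : cj x (avg F K) = avg F (cS x K) := by
  refine ga_ext fun g => ?_
  rw [coeff_cj]
  by_cases hg : g ∈ cS x K
  · rw [coeff_avg_of_mem hg, coeff_avg_of_mem (mem_cS.1 hg), card_cS]
  · rw [coeff_avg_of_not_mem hg, coeff_avg_of_not_mem fun h => hg (mem_cS.2 h)]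

variable {p : ℕ} [Fact p.Prime] [CharP F p]

theorem br_avg {K R : Subgroup G} (hR : IsPGroup p R) (h : R ≤ Nor K) :
    br R (avg F K) = avg F (K ⊓ Cen R) := by
  classical
  let _inst := Fintype.ofFinite G
  have hc : (Nat.card K : F) = Nat.card ↥(K ⊓ Cen R) := by
    have := sum_eq_sum_centralizer (V := F) hR (fun v => by simp [nsmul_eq_mul])
      (fun g => if g ∈ K then (1 : F) else 0) (fun u hu g => by
        simp only [← Subgroup.mem_normalizer_iff.1 (h hu) g])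
    rw [Finset.sum_boole, Finset.sum_boole, Finset.filter_filter] at this
    rw [Nat.card_eq_fintype_card, Fintype.card_subtype, Nat.card_eq_fintype_card,
      Fintype.card_subtype, this]
    congr 2
    ext g
    simp [and_comm]
  refine ga_ext fun g => ?_
  by_cases hg : g ∈ Cen R
  · rw [coeff_br_of_mem _ hg]
    by_cases hK : g ∈ K
    · rw [coeff_avg_of_mem hK, coeff_avg_of_mem (Subgroup.mem_inf.2 ⟨hK, hg⟩), hc]
    · rw [coeff_avg_of_not_mem hK, coeff_avg_of_not_mem fun h => hK (Subgroup.mem_inf.1 h).1]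
  · rw [coeff_br_of_not_mem _ hg, coeff_avg_of_not_mem fun h => hg (Subgroup.mem_inf.1 h).2]

theorem natCast_ne_zero_of_not_dvd {n : ℕ} (h : ¬ p ∣ n) : (n : F) ≠ 0 :=
  fun h0 => h ((CharP.cast_eq_zero_iff F p n).1 h0)

/-- Going down along a Brauer map. -/
theorem avg_mul_of_br {H K R : Subgroup G} {e f : F[G]} (he : Blk H e) (hKH : K ≤ H)
    (hH : H ≤ Nor K) (hK : ¬ p ∣ Nat.card K) (hR : IsPGroup p R) (hRK : R ≤ Nor K)
    (hRe : H36.Inv R e) (hf : br R e * f = f) (hf0 : f ≠ 0) (h : avg F (K ⊓ Cen R) * f = f) :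
    avg F K * e = e := by
  refine he.mul_eq_of_ne_zero (avg_mem_Fx hKH hH)
    (avg_mul_avg le_rfl (natCast_ne_zero_of_not_dvd hK)) fun h0 => hf0 ?_
  have := br_mul hR (inv_avg (F := F) hRK) hRe
  rw [h0, map_zero, br_avg hR hRK] at this
  rw [← h, ← hf, ← mul_assoc, ← this, zero_mul]

/-- Going up along a Brauer map. -/
theorem avg_mul_br {K R : Subgroup G} {e f : F[G]} (hR : IsPGroup p R) (hRK : R ≤ Nor K)
    (hRe : H36.Inv R e) (hf : br R e * f = f) (h : avg F K * e = e) :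
    avg F (K ⊓ Cen R) * f = f := by
  have := br_mul hR (inv_avg (F := F) hRK) hRe
  rw [h, br_avg hR hRK] at this
  rw [← hf, ← mul_assoc, ← this]

end avg

section core

variable {G : Type*} [Group G] [Finite G] {π : Set ℕ}

/-- `O_{π'}(H)` inside `G`. -/
abbrev Opi (π : Set ℕ) (H : Subgroup G) : Subgroup G :=
  (piCore {q | q ∉ π} H).map H.subtype

theorem opi_le (H : Subgroup G) : Opi π H ≤ H := Subgroup.map_subtype_le _

theorem not_mem_of_dvd_opi (H : Subgroup G) {q : ℕ} (hq : q.Prime) (h : q ∣ Nat.card (Opi π H)) :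
    q ∉ π := H2.mem_of_dvd_card_map_piCore_subtype H q hq h

theorem le_opi {A H : Subgroup G} (hA : A ≤ H) (hH : H ≤ Nor A)
    (h : ∀ q : ℕ, q.Prime → q ∣ Nat.card A → q ∉ π) : A ≤ Opi π H :=
  H2.le_map_piCore_subtype hA hH h

theorem cS_opi_le (x : G) (H : Subgroup G) : cS x (Opi π H) ≤ Opi π (cS x H) := by
  refine le_opi (cS_mono x (opi_le H)) ?_ fun q hq h => not_mem_of_dvd_opi H hq ?_
  · rw [nor_cS]
    refine cS_mono x fun y hy => ?_
    have := Subgroup.normalizer_eq_top_iff.2 (piCore_normal {q | q ∉ π} H)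
    have h2 := Subgroup.le_normalizer_map (H := piCore {q | q ∉ π} H) H.subtype
    rw [this] at h2
    exact h2 ⟨⟨y, hy⟩, trivial, rfl⟩
  · rwa [card_cS] at h

theorem cS_opi (x : G) (H : Subgroup G) : cS x (Opi π H) = Opi π (cS x H) := by
  refine le_antisymm (cS_opi_le x H) ?_
  have := cS_opi_le (π := π) x⁻¹ (cS x H)
  rw [cS_inv_cS] at this
  exact le_cS_iff.2 this

theorem nor_le_nor_opi (H : Subgroup G) : Nor H ≤ Nor (Opi π H) := fun x hx =>
  cS_eq_iff.1 (by rw [cS_opi, cS_eq_of_mem_nor hx])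

theorem le_nor_opi (H : Subgroup G) : H ≤ Nor (Opi π H) := (le_nor H).trans (nor_le_nor_opi H)

theorem opi_inf_le {H L : Subgroup G} (h : L ≤ H) : Opi π H ⊓ L ≤ Opi π L :=
  le_opi inf_le_right (fun _ hx => mem_nor_inf (le_nor_opi H (h hx)) (le_nor L hx))
    fun _ hq hd => not_mem_of_dvd_opi H hq (hd.trans (Subgroup.card_dvd_of_le inf_le_left))

theorem not_dvd_opi {p : ℕ} (hp : p.Prime) (hπ : p ∈ π) (H : Subgroup G) :
    ¬ p ∣ Nat.card (Opi π H) := fun h => not_mem_of_dvd_opi H hp h hπ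

theorem mem_opi {H : Subgroup G} {x : H} : (x : G) ∈ Opi π H ↔ x ∈ piCore {q | q ∉ π} H :=
  ⟨fun ⟨y, hy, h⟩ => (Subtype.ext h : y = x) ▸ hy, fun h => ⟨x, h, rfl⟩⟩

theorem orderOf_of_mem_opi {H : Subgroup G} {x : G} (hx : x ∈ Opi π H) {q : ℕ} (hq : q.Prime)
    (h : q ∣ orderOf x) : q ∉ π :=
  not_mem_of_dvd_opi H hq (h.trans (Subgroup.orderOf_dvd_natCard _ hx))

/-- All `π'`-elements of `H` lie in `O_{π'}(H)`. -/
def NHall (π : Set ℕ) (H : Subgroup G) : Prop :=
  ∀ x ∈ H, (∀ q : ℕ, q.Prime → q ∣ orderOf x → q ∉ π) → x ∈ Opi π H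

theorem nHall_of {H : Subgroup G} (h : ∀ x : H, (∀ q : ℕ, q.Prime → q ∣ orderOf x → q ∉ π) →
    x ∈ piCore {q | q ∉ π} H) : NHall π H := fun x hx hq =>
  (mem_opi (x := ⟨x, hx⟩)).2 (h _ fun q hq' hd => hq q hq' (by rwa [Subgroup.orderOf_mk] at hd))

theorem NHall.opi_le {H L : Subgroup G} (h : NHall π H) (hL : L ≤ H) :
    Opi π L ≤ Opi π H ⊓ L := fun x hx =>
  ⟨h x (hL (H34.opi_le L hx)) fun _ hq hd => orderOf_of_mem_opi hx hq hd, H34.opi_le L hx⟩

theorem NHall.of_le {H L : Subgroup G} (h : NHall π H) (hL : L ≤ H) : NHall π L :=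
  fun x hx hq => opi_inf_le hL ⟨h x (hL hx) hq, hx⟩

theorem opi_nor_le_cen {p : ℕ} [Fact p.Prime] (hπ : p ∈ π) {D : Subgroup G} (hD : IsPGroup p D) :
    Opi π (Nor D) ≤ Cen D := by
  intro x hx d hd
  have h1 : x * d * x⁻¹ * d⁻¹ ∈ D :=
    D.mul_mem ((Subgroup.mem_normalizer_iff.1 (opi_le _ hx) d).1 hd) (D.inv_mem hd)
  have h2 : x * d * x⁻¹ * d⁻¹ ∈ Opi π (Nor D) := by
    have := (Subgroup.mem_normalizer_iff.1 (le_nor_opi (π := π) _ (le_nor D hd)) x⁻¹).1
      (Subgroup.inv_mem _ hx)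
    have := Subgroup.mul_mem _ hx this
    simpa [mul_assoc] using this
  obtain ⟨k, hk⟩ := (IsPGroup.iff_orderOf.1 hD) ⟨_, h1⟩
  rw [Subgroup.orderOf_mk] at hk
  have h3 : x * d * x⁻¹ * d⁻¹ = 1 := by
    rcases k with _ | k
    · exact orderOf_eq_one_iff.1 (by simpa using hk)
    · exact absurd hπ (orderOf_of_mem_opi h2 Fact.out (hk ▸ dvd_pow_self p k.succ_ne_zero))
  have : x * d = d * x := by
    rw [mul_inv_eq_one, mul_inv_eq_iff_eq_mul] at h3
    exact h3
  exact this.symm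

end core

section pairs

variable {G : Type*} [Group G] [Finite G] {F : Type*} [Field F] {π : Set ℕ} {p : ℕ}
  [Fact p.Prime] [CharP F p] {Q P : Subgroup G} {e f : F[G]}

variable (π) in
/-- `O_{π'}(C(Q))` lies in the kernel of `f`. -/
def KerP (Q : Subgroup G) (f : F[G]) : Prop := avg F (Opi π (Cen Q)) * f = f

theorem KerP.cj (h : KerP π Q f) (x : G) : KerP π (cS x Q) (cj x f) := by
  unfold KerP at *
  rw [cen_cS, ← cS_opi, ← cj_avg, ← map_mul, h]

theorem KerP.of_nsub (hπ : p ∈ π) (h : NSub p ⊤ Q f P e) (he : KerP π P e) : KerP π Q f := by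
  have hn : P ≤ Nor (Opi π (Cen Q)) :=
    h.nor.trans ((nor_le_nor_cen Q).trans (nor_le_nor_opi _))
  refine avg_mul_of_br (blk_top_inf.1 h.blkf) (opi_le _) (le_nor_opi _)
    (not_dvd_opi Fact.out hπ _) h.pP hn h.inv h.mul h.blke.ne_zero ?_
  exact avg_mul_of_le (opi_inf_le (cen_anti h.le)) (natCast_ne_zero_of_not_dvd fun hd =>
    not_dvd_opi Fact.out hπ _ (hd.trans (Subgroup.card_dvd_of_le inf_le_left))) he

theorem KerP.of_sub (hπ : p ∈ π) (h : Sub p ⊤ Q f P e) (he : KerP π P e) : KerP π Q f :=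
  Sub.head_induction (motive := fun Q f _ => KerP π Q f) he
    (fun _ _ _ _ h _ ih => KerP.of_nsub hπ h ih) h

theorem KerP.up_nsub (hπ : p ∈ π) (h : NSub p ⊤ Q f P e) (hH : NHall π (Cen Q))
    (hf : KerP π Q f) : KerP π P e := by
  have hn : P ≤ Nor (Opi π (Cen Q)) :=
    h.nor.trans ((nor_le_nor_cen Q).trans (nor_le_nor_opi _))
  exact avg_mul_of_le (hH.opi_le (cen_anti h.le))
    (natCast_ne_zero_of_not_dvd (not_dvd_opi Fact.out hπ _)) (avg_mul_br h.pP hn h.inv h.mul hf)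

theorem KerP.up_sub (hπ : p ∈ π) (h : Sub p ⊤ Q f P e) (hH : NHall π (Cen Q))
    (hf : KerP π Q f) : KerP π P e := by
  refine Sub.head_induction (motive := fun Q f _ => NHall π (Cen Q) → KerP π Q f → KerP π P e)
    (fun _ h => h) (fun _ _ _ _ h _ ih hH hf => ?_) h hH hf
  exact ih (hH.of_le (cen_anti h.le)) (KerP.up_nsub hπ h hH hf)

/-- All pairs of a block inherit the kernel property from the Brauer correspondent. -/
theorem kerP_of_bp (hπ : p ∈ π) {b : F[G]} (hb : Blk ⊤ b) {D : Subgroup G} (hD : IsDef p ⊤ b D)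
    (h : avg F (Opi π (Nor D)) * br D b = br D b) (hQ : BP p ⊤ ⊤ b Q f) : KerP π Q f := by
  obtain ⟨e, he⟩ := exists_bp (C := ⊤) le_rfl hb hD.isPGroup le_top hD.br_ne
  obtain ⟨x, -, hx⟩ := he.exists_cj_sub le_rfl (le_nor_top _) hb hD hQ
  have h1 : KerP π D e := by
    have h2 : avg F (Opi π (Nor D)) * e = e := by rw [← he.mul, ← mul_assoc, h]
    refine avg_mul_of_le (le_opi ((opi_le _).trans (cen_le_nor D))
      ((nor_le_nor_cen D).trans (nor_le_nor_opi _)) fun q hq => not_mem_of_dvd_opi _ hq)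
      (natCast_ne_zero_of_not_dvd (not_dvd_opi Fact.out hπ _)) h2
  have := (KerP.of_sub hπ hx h1).cj x⁻¹
  rwa [cS_inv_cS, cj_inv_cj] at this

/-- Conversely, one pair with a normal Hall `π'`-subgroup in the kernel suffices. -/
theorem avg_mul_br_of_bp (hπ : p ∈ π) {b : F[G]} (hb : Blk ⊤ b) {D : Subgroup G}
    (hD : IsDef p ⊤ b D) (hQ : BP p ⊤ ⊤ b Q f) (hH : NHall π (Cen Q)) (hf : KerP π Q f) :
    ∃ e, e ≠ 0 ∧ br D b * e = e ∧ avg F (Opi π (Nor D)) * e = e := by
  obtain ⟨D', e', hD', hbp, hsub⟩ := hQ.exists_sub_isDef le_rfl (le_nor_top _) hb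
  have h1 := KerP.up_sub hπ hsub hH hf
  obtain ⟨x, -, hx⟩ := hD'.exists_conj hD
  have h2 := h1.cj x
  have h3 := hbp.cj (le_nor_top _) hb.mem.1 (Subgroup.mem_top x)
  rw [show cS x D' = D from hx] at h2 h3
  refine ⟨_, h3.blk.ne_zero, h3.mul, avg_mul_of_le ?_
    (natCast_ne_zero_of_not_dvd (not_dvd_opi Fact.out hπ _)) h2⟩
  exact (le_inf le_rfl (opi_nor_le_cen hπ hD.isPGroup)).trans (opi_inf_le (cen_le_nor D))

end pairs

section chars

variable {G : Type*} [Group G] [Finite G] {M : Ideal AlgInt} [M.IsMaximal] {p : ℕ}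

theorem omega_pull_avg {H K : Subgroup G} (hKH : K ≤ H) [Fintype (K.subgroupOf H)] (ξ : H → ℂ) :
    omega ξ (H36.pull H.subtype (avg ℂ K)) =
      classInner (fun x : K.subgroupOf H => ξ x) (fun _ => 1) / ξ 1 := by
  classical
  let _inst := Fintype.ofFinite H
  rw [omega_apply, ev_eq_sum, classInner, Nat.card_congr (Subgroup.subgroupOfEquivOfLe hKH).toEquiv]
  congr 1
  rw [Finset.mul_sum]
  simp only [map_one, mul_one]
  rw [← Finset.sum_subtype (Finset.univ.filter fun x : H => x ∈ K.subgroupOf H) (by simp)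
    (fun x => (Nat.card K : ℂ)⁻¹ * ξ x), Finset.sum_filter]
  refine Finset.sum_congr rfl fun x _ => ?_
  rw [H36.coeff_pull]
  split_ifs with hx
  · rw [coeff_avg_of_mem (show H.subtype x ∈ K from hx)]
  · rw [coeff_avg_of_not_mem (show H.subtype x ∉ K from hx), zero_mul]

theorem avg_mul_eS_iff (hM : IsPModular p M) {H K : Subgroup G} (hKH : K ≤ H) (hH : H ≤ Nor K)
    (hK : ¬ p ∣ Nat.card K) {b : Set (IrrCharacter H)} (hb : IsPBlock M b) {ξ : IrrCharacter H}
    (hξ : ξ ∈ b) : avg (F M) K * eS M H b = eS M H b ↔ ∀ x : H, (x : G) ∈ K → ξ.1 x = ξ.1 1 := by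
  classical
  have : Fact p.Prime := ⟨hM.1⟩
  have := charP_F hM
  let _inst := Fintype.ofFinite (K.subgroupOf H)
  have hn : (K.subgroupOf H).Normal := (Subgroup.normal_subgroupOf_iff_le_normalizer hKH).2 hH
  have hi : IntC M (avg ℂ K) := fun g => by
    by_cases hg : g ∈ K
    · rw [coeff_avg_of_mem hg]; exact inv_natCast_mem_S hM hK
    · rw [coeff_avg_of_not_mem hg]; exact zero_mem _
  have hr : redA M (avg ℂ K) = avg (F M) K := ga_ext fun g => by
    rw [coeff_redA]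
    by_cases hg : g ∈ K
    · rw [coeff_avg_of_mem hg, coeff_avg_of_mem hg, red_inv (natCast_mem _ _)
        (by rwa [P_natCast_iff hM]), red_natCast]
    · rw [coeff_avg_of_not_mem hg, coeff_avg_of_not_mem hg, red_zero]
  rw [← lamS_eq_one_iff hb hξ (avg_mem_Fx hKH hH)
    (avg_mul_avg le_rfl (natCast_ne_zero_of_not_dvd hK)), ← hr,
    lamS_redA ξ.2 (inv_avg hH) hi, omega_pull_avg hKH]
  constructor
  · intro h x hx
    have h0 : classInner (fun x : K.subgroupOf H => ξ.1 x) (fun _ => 1) ≠ 0 := fun h0 => by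
      rw [h0, zero_div, red_zero] at h
      exact zero_ne_one h
    exact apply_of_mem_charKer (ξ.2.le_charKer_of_classInner_ne_zero _ h0 hx)
  · intro h
    rw [classInner_restrict_one_of_le_charKer (ξ.2.isCharacter.le_charKer_iff.2 fun x hx => h x hx),
      div_self ξ.2.apply_one_ne_zero, red_one]

end chars

end H34
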