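import Cfsg.Agent.H10.S3Hub
import Cfsg.Agent.S2086
import Cfsg.Agent.H21.Multiplier
import Cfsg.Agent.H57.PslAutTwo
import Cfsg.Agent.H57.PslAut
import Cfsg.Agent.H86.G75A
import Cfsg.Agent.H14.PElem
import Cfsg.Agent.H61.PSLMin
import Cfsg.Agent.H55.Basic
import Cfsg.Agent.H99.ZDLoc3

/-! Groups generated by 2-elements which do not involve `S₃`. -/

set_option autoImplicit false

open Cfsg Subgroup H98 H14 H13 Matrix MatrixGroups
open scoped commutatorElement

namespace H34.Real3

universe u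

section PSL
variable {F : Type*} [Field F] [Finite F] [CharP F 3]

theorem h01 : (0 : Fin 2) ≠ 1 := by decide

theorem aut_cube0 (β : MulAut PSL(2, F)) (h : ∀ c : F, β (H57.px h01 c) = H57.px h01 c) : β ^ 3 = 1 := by
  obtain ⟨g, σ, rfl⟩ := H57.psl_aut_two β
  have h3 : (3 : F) = 0 := CharP.cast_eq_zero F 3
  have h2 : (2 : F) ≠ 0 := fun e => one_ne_zero (by linear_combination h3 - e)
  have key : ∀ c : F, (g : Matrix (Fin 2) (Fin 2) F) * !![1, σ c; 0, 1] = !![1, c; 0, 1] * g := fun c => by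
    have e := h c
    rw [MulAut.mul_apply, H57.pslField_mk, H57.slField_transvection, H57.pslDiag_mk, eq_comm,
      QuotientGroup.eq, Matrix.SpecialLinearGroup.mem_center_iff] at e
    obtain ⟨r, -, hr⟩ := e
    have t1 : ∀ d : F, ((SpecialLinearGroup.transvection h01 d : SL(2, F)) : Matrix (Fin 2) (Fin 2) F) =
        !![1, d; 0, 1] := fun d => by
      ext i j
      fin_cases i <;> fin_cases j <;> simp [SpecialLinearGroup.transvection, Matrix.transvection]
    have e2 : (g : Matrix (Fin 2) (Fin 2) F) * !![1, σ c; 0, 1] * ((g⁻¹ : GL (Fin 2) F) : Matrix _ _ F) =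
        r • !![1, c; 0, 1] := by
      rw [← t1, ← t1, ← H57.slDiag_coe, ← mul_inv_cancel_left (SpecialLinearGroup.transvection h01 c)
        (H57.slDiag _ F g _), Matrix.SpecialLinearGroup.coe_mul, ← hr]
      simp [Matrix.smul_eq_mul_diagonal]
    have e3 := congrArg Matrix.trace e2
    rw [Matrix.trace_mul_comm, ← mul_assoc, Units.inv_mul, one_mul] at e3
    simp only [trace_fin_two, Matrix.smul_apply, of_apply, cons_val', cons_val_zero, cons_val_one,
      cons_val_fin_one, smul_eq_mul] at e3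
    have r1 : r = 1 := mul_left_cancel₀ h2 (by linear_combination -e3)
    rw [r1, one_smul] at e2
    rw [← e2, mul_assoc, Units.inv_mul, mul_one]
  have k1 := key 1
  rw [map_one] at k1
  have a := congrFun₂ k1 0 0
  have b := congrFun₂ k1 0 1
  simp [Matrix.mul_apply, Fin.sum_univ_two] at a b
  have hd := g.det_ne_zero
  rw [Matrix.det_fin_two, a, mul_zero, sub_zero] at hd
  have hb : g 0 0 = g 1 1 := by linear_combination b
  have hσ : σ = 1 := by
    ext c
    have d := congrFun₂ (key c) 0 1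
    simp [Matrix.mul_apply, Fin.sum_univ_two] at d
    exact mul_left_cancel₀ (left_ne_zero_of_mul hd) (by rw [RingAut.one_apply]; linear_combination d - c * hb)
  rw [hσ, map_one, mul_one, ← map_pow]
  ext s
  induction s using QuotientGroup.induction_on with | H s => ?_
  rw [H57.pslDiag_mk, MulAut.one_apply]
  refine congrArg _ (Subtype.ext ?_)
  have e : ((g ^ 3 : GL (Fin 2) F) : Matrix (Fin 2) (Fin 2) F) = (g 0 0) ^ 3 • (1 : Matrix _ _ F) := by
    ext i j
    fin_cases i <;> fin_cases j <;>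
      simp [pow_succ, Matrix.mul_apply, Fin.sum_univ_two, a, ← hb]
    linear_combination (g 0 0 ^ 2 * g 0 1) * h3
  rw [H57.slDiag_coe, Units.mul_inv_eq_iff_eq_mul, e, smul_mul_assoc, mul_smul_comm, one_mul, mul_one]

theorem aut_cube {L : Type*} [Group L] (e : L ≃* PSL(2, F)) {S : Subgroup L} (hS : IsSyl 3 S ⊤)
    (β : MulAut L) (h : ∀ x ∈ S, β x = x) : β ^ 3 = 1 := by
  have : Finite L := Finite.of_equiv _ e.symm.toEquiv
  let u : Multiplicative F →* L := (e.symm : _ →* L).comp
    { toFun := fun c => H57.px h01 c.toAdd, map_one' := H57.px_zero _, map_mul' := fun _ _ => H57.px_add _ _ _ }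
  have hU : IsPGroup 3 u.range := by
    rw [MonoidHom.range_eq_map]
    refine IsPGroup.map (fun x => ⟨1, Subtype.ext ?_⟩) _
    change Multiplicative.ofAdd ((3 ^ 1 : ℕ) • x.1.toAdd) = Multiplicative.ofAdd 0
    rw [nsmul_eq_mul, pow_one, CharP.cast_eq_zero, zero_mul]
  obtain ⟨g, -, hg⟩ := hS.exists_cj_le hU le_top
  have := aut_cube0 (MulAut.congr e (MulAut.conj g⁻¹ * β * MulAut.conj g)) fun c => by
    have := h _ (hg (mem_map_of_mem _ ⟨Multiplicative.ofAdd c, rfl⟩))
    simp only [MulEquiv.toMonoidHom_eq_coe, MonoidHom.coe_coe, MulAut.conj_apply] at this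
    change e (g⁻¹ * β (g * u (Multiplicative.ofAdd c) * g⁻¹) * g⁻¹⁻¹) = _
    rw [this]
    simp [u, mul_assoc]
  rwa [← map_pow, map_eq_one_iff _ (MulEquiv.injective _), map_inv, ← inv_inv (MulAut.conj g), inv_inv,
    conj_pow, conj_eq_one_iff] at this

end PSL

variable {G : Type u} [Group G] [Finite G]

theorem comp_struct (hS : ¬ Involves S3 G) (hO : pPrimeCore 3 G = ⊥) {L : Subgroup G} (hL : IsComponent L) :
    center L = ⊥ ∧ ∃ n, 1 ≤ n ∧ Nonempty (L ≃* PSL(2, GaloisField 3 (2 * n + 1))) := by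
  obtain ⟨hp, hs⟩ := hL.2
  have hc : commutator L = ⊤ := hp.commutator_eq_top
  have hn : ¬ IsMulCommutative (L ⧸ center L) := fun h => by
    have : commutator L ≤ center L := by
      rw [← QuotientGroup.ker_mk' (center L)]
      exact Abelianization.commutator_subset_ker _
    exact (QuotientGroup.nontrivial_iff.1 hs.toNontrivial) (top_le_iff.1 (hc ▸ this))
  have hZ : IsPGroup 3 (center L) := by
    refine IsPGroup.of_injective (isPGroup_pCore 3 G) (((L.subtype).comp (center L).subtype).codRestrict _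
      fun x => ?_) fun a b h => Subtype.ext (Subtype.ext (Subtype.ext_iff.1 h :))
    rw [← H2.fitting_eq_pCore_of_pPrimeCore_eq_bot hO]
    exact comp_center_le_fitting hL ⟨x.1.2, fun y hy => congrArg Subtype.val (mem_center_iff.1 x.2 ⟨y, hy⟩)⟩
  rcases H10.S3.simple _ hs hn (fun h => hS (H94.involves_trans (H94.involves_trans h
    (H94.involves_quotient _)) (H94.involves_subgroup L))) with h | ⟨F, _, _, n, hF, ⟨e⟩⟩
  · obtain ⟨x, hx⟩ := exists_prime_orderOf_dvd_card' 3 (dvd_card_comp_of_pPrimeCore_eq_bot hO hL)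
    refine absurd (hx ▸ orderOf_dvd_of_pow_eq_one (n := (center L).index) ?_) (sz_not_three h)
    have h1 : commutator L ≤ (MonoidHom.transferCenterPow L).ker := commutator_le.2 fun a _ b _ => by
      rw [MonoidHom.mem_ker, map_commutatorElement, commutatorElement_eq_one_iff_mul_comm]
      exact Subtype.ext (mem_center_iff.1 (MonoidHom.transferCenterPow L b).2 _)
    have h2 := congrArg Subtype.val (MonoidHom.mem_ker.1 (h1 (hc.ge (mem_top x))))
    rwa [MonoidHom.transferCenterPow_apply] at h2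
  have := e.symm.isSimpleGroup
  have h4 := H61.four_le_card_of_simple (F := F)
  rw [Nat.card_eq_fintype_card, hF] at h4
  have hn1 : 1 ≤ n := Nat.pos_of_ne_zero fun h => by simp [h] at h4
  have h27 : 27 ≤ 3 ^ (2 * n + 1) := Nat.pow_le_pow_right (n := 3) (i := 3) (by decide) (by omega)
  have hker : (e.toMonoidHom.comp (QuotientGroup.mk' (center L))).ker = center L := by
    rw [← MonoidHom.comap_ker, (MonoidHom.ker_eq_bot_iff _).2 e.injective, MonoidHom.comap_bot,
      QuotientGroup.ker_mk']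
  have hd := H21.card_ker_dvd_of_stem (Cfsg.Agent.S2086.result hF 2 le_rfl (fun _ => h4) (by simp; omega))
    (e.toMonoidHom.comp (QuotientGroup.mk' (center L)))
    ⟨e.surjective.comp (QuotientGroup.mk'_surjective _), hker.le, hc ▸ le_top⟩
  rw [hker, Nat.card_congr Multiplicative.toAdd, Nat.card_zmod] at hd
  obtain ⟨k, hk⟩ := hZ.exists_card_eq
  have hZ1 : center L = ⊥ := by
    rw [← Subgroup.card_eq_one, hk]
    exact Nat.eq_one_of_dvd_coprimes (Nat.Coprime.pow_left k (by decide : Nat.Coprime 3 2)) dvd_rfl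
      (hk ▸ hd.trans (Nat.gcd_dvd_left _ _))
  have := Fintype.ofFinite (GaloisField 3 (2 * n + 1))
  exact ⟨hZ1, n, hn1, ⟨((QuotientGroup.quotientBot.symm.trans (QuotientGroup.quotientMulEquivOfEq hZ1.symm)).trans
    e).trans (H55.pslCongr (FiniteField.ringEquivOfCardEq (by
      rw [hF, ← Nat.card_eq_fintype_card, GaloisField.card _ _ (by omega)])))⟩⟩

theorem mem_layer (hS : ¬ Involves S3 G) (hO : pPrimeCore 3 G = ⊥) {t : G} {k : ℕ} (ht : t ^ 2 ^ k = 1) :
    t ∈ layer G := by
  obtain ⟨P, hP⟩ := exists_isSyl 3 (layer G)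
  obtain ⟨a, ha, n, hn, rfl⟩ := hP.frattini_mem (g := t) (by rw [normalizer_eq_top]; trivial)
  obtain ⟨j, i, hj, m, hm⟩ := H99.exists_two_part a k
  have hc := mem_cent_of_s3free hS hm hP.isPGroup (pow_mem ha j)
  have h1 : a ^ j = 1 := by
    generalize a ^ j = s at hm hc
    have hs : zpowers s ≤ pCore 3 G := by
      refine le_pCore_of_commutator hO ?_ ?_
      · rw [commutator_comm]
        refine layer_commutator_eq_bot fun L hL => ?_
        obtain ⟨hZ, n, -, ⟨e⟩⟩ := comp_struct hS hO hL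
        have hT := hP.inf_of_le_normalizer (comp_le_layer hL) (hP.le.trans (layer_le_normalizer_comp hL))
        obtain ⟨y, hy, hy1⟩ := (P ⊓ L).bot_or_exists_ne_one.resolve_left fun h =>
          hT.eq_bot_iff.1 h (dvd_card_comp_of_pPrimeCore_eq_bot hO hL)
        have hsN : s ∈ normalizer (L : Set G) := H86.G75.mem_nor_comp hL hy.2 (fun h => hy1 (congrArg
          Subtype.val (mem_bot.1 (hZ.le (x := ⟨y, hy.2⟩) (mem_center_iff.2 fun z => Subtype.ext (h z z.2))))))
          (hc y hy.1).symm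
        have h3 := aut_cube e hT.subgroupOf_top (L.normalizerMonoidHom ⟨s, hsN⟩) fun x hx =>
          Subtype.ext (mul_inv_eq_iff_eq_mul.2 (hc x hx.1).symm)
        have h2 : L.normalizerMonoidHom ⟨s, hsN⟩ ^ 2 ^ m = 1 := by
          rw [← map_pow, show (⟨s, hsN⟩ : normalizer (L : Set G)) ^ 2 ^ m = 1 from Subtype.ext hm, map_one]
        have h := orderOf_eq_one_iff.1 (Nat.eq_one_of_dvd_coprimes (Nat.Coprime.pow_left m (by decide))
          (orderOf_dvd_of_pow_eq_one h2) (orderOf_dvd_of_pow_eq_one h3))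
        rw [commutator_comm, commutator_eq_bot_iff_le_centralizer, zpowers_le]
        exact fun x hx => (mul_inv_eq_iff_eq_mul.1 (congrArg Subtype.val (DFunLike.congr_fun h (⟨x, hx⟩ : L)) :
          s * x * s⁻¹ = x)).symm
      · rw [commutator_eq_bot_iff_le_centralizer, zpowers_le]
        exact mem_cent_of_s3free hS hm (isPGroup_pCore 3 G) (by rw [normalizer_eq_top]; trivial)
    obtain ⟨l, hl⟩ := isPGroup_iff_forall.1 (isPGroup_pCore 3 G) s (hs (mem_zpowers s))
    exact orderOf_eq_one_iff.1 (Nat.eq_one_of_dvd_coprimes (Nat.Coprime.pow m l (by decide))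
      (orderOf_dvd_of_pow_eq_one hm) (orderOf_dvd_of_pow_eq_one hl))
  refine mul_mem ((QuotientGroup.eq_one_iff a).1 ?_) hn
  have e1 := congrArg (QuotientGroup.mk' (layer G)) ht
  have e2 := congrArg (QuotientGroup.mk' (layer G)) h1
  rw [map_pow, map_mul, QuotientGroup.mk'_apply _ n, (QuotientGroup.eq_one_iff n).2 hn, mul_one, map_one] at e1
  rwa [map_pow, hj, pow_succ, pow_mul, e1, one_pow, one_mul, map_one] at e2

theorem main (hS : ¬ Involves S3 G) (hO : pPrimeCore 3 G = ⊥)
    (hgen : closure {g : G | ∃ k : ℕ, g ^ 2 ^ k = 1} = ⊤) : ∃ (k : ℕ) (f : Fin k → ℕ), (∀ i, 1 ≤ f i) ∧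
      Nonempty (G ≃* ((i : Fin k) → PSL(2, GaloisField 3 (2 * f i + 1)))) := by
  classical
  have hE : layer G = ⊤ := top_le_iff.1 (hgen ▸ (closure_le _).2 fun t ⟨k, hk⟩ => mem_layer hS hO hk)
  let e := (Finite.equivFin {L : Subgroup G // IsComponent L}).symm
  choose hZ f hf h using fun i => comp_struct hS hO (e i).2
  have hc : ∀ i j, i ≠ j → (e j).1 ≤ centralizer ((e i).1 : Set G) := fun i j hij =>
    commutator_eq_bot_iff_le_centralizer.1 (comp_commute_of_ne (e j).2 (e i).2
      fun h => hij (e.injective (Subtype.ext h)).symm)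
  have hcomm : Pairwise fun i j => ∀ x y : G, x ∈ (e i).1 → y ∈ (e j).1 → Commute x y :=
    fun i j hij x y hx hy => hc i j hij hy x hx
  refine ⟨_, f, hf, ⟨(MulEquiv.ofBijective (noncommPiCoprod hcomm) ⟨?_, ?_⟩).symm.trans
    (MulEquiv.piCongrRight fun i => (h i).some)⟩⟩
  · refine injective_noncommPiCoprod_of_iSupIndep fun i => disjoint_def.2 fun {x} hx hx' => ?_
    have : x ∈ centralizer ((e i).1 : Set G) := (iSup₂_le fun j hj => hc i j (Ne.symm hj)) hx'
    exact congrArg Subtype.val (mem_bot.1 ((hZ i).le (x := ⟨x, hx⟩)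
      (mem_center_iff.2 fun z => Subtype.ext (this z z.2))))
  · rw [← MonoidHom.range_eq_top, noncommPiCoprod_range, eq_top_iff, ← hE]
    exact layer_le fun L hL => le_iSup_of_le (e.symm ⟨L, hL⟩) (by simp)

end H34.Real3
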