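import Cfsg.Agent.H34.TLSix
import Cfsg.Agent.H29.Burnside
import Cfsg.Agent.H42.OddOrder
import Cfsg.Agent.S3430

/-! Coprime transitive linear groups: the space with `81` elements and the class number bound. -/

set_option autoImplicit false

namespace H34.TL

open Cfsg H28 H90 Module Subgroup MulAction
open scoped IsMulCommutative commutatorElement

universe u

theorem card_dvd_twenty {X : Type*} [Group X] [Finite X] [Group.IsSolvable X] {a : ℕ}
    (h : Nat.card X ∣ 2 ^ a * 5) (h2 : ∀ Q : Subgroup X, Q.Normal → IsPGroup 2 Q → Q = ⊥) :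
    Nat.card X ∣ 20 := by
  have : Fact (Nat.Prime 2) := ⟨Nat.prime_two⟩
  have : Fact (Nat.Prime 5) := ⟨by norm_num⟩
  have := H2.fitting_normal X
  have h1 : Nat.card (fittingSubgroup X) ∣ 5 :=
    (((H2.coprime_card_pPrimeCore 2 X).coprime_dvd_left (card_dvd_of_le
      (H2.fitting_le_pPrimeCore_of_pCore_eq_bot (eq_bot_iff.2 (sSup_le fun N hN =>
        (h2 N hN.1 hN.2).le))))).pow_right a).dvd_of_dvd_mul_left
      ((card_subgroup_dvd_card _).trans h)
  have := isCyclic_of_card_dvd_prime h1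
  have h3 : (fittingSubgroup X).index ∣ Nat.totient (Nat.card (fittingSubgroup X)) := by
    rw [← IsCyclic.card_mulAut]
    refine (index_dvd_of_le (H := (MulAut.conjNormal (H := fittingSubgroup X)).ker)
      fun g hg => H2.centralizer_fitting_le X fun y hy => ?_).trans ?_
    · exact (mul_inv_eq_iff_eq_mul.1
        (congrArg Subtype.val (DFunLike.congr_fun hg ⟨y, hy⟩))).symm
    · rw [index_ker]
      exact card_subgroup_dvd_card _
  rw [← (fittingSubgroup X).index_mul_card]
  rcases (Nat.dvd_prime (by norm_num)).1 h1 with h4 | h4 <;> rw [h4] at h3 ⊢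
  · exact (Nat.mul_dvd_mul_right h3 1).trans (by decide)
  · exact (Nat.mul_dvd_mul_right h3 5).trans (by decide)

theorem cls_le {G : Type*} [Group G] [Finite G] (A : Subgroup G) {c : ℕ}
    (h : ∀ g ∉ A, Nat.card (centralizer ({g} : Set G)) ≤ c) :
    Nat.card (ConjClasses G) ≤ Nat.card A + c := by
  classical
  have := Fintype.ofFinite G
  have h1 := sum_card_centralizer (G := G)
  have hA : (Finset.univ.filter (· ∈ A)).card = Nat.card A := by
    rw [Nat.card_eq_fintype_card, Fintype.card_subtype]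
  refine Nat.le_of_mul_le_mul_right ?_ (Nat.card_pos (α := G))
  rw [← h1, ← Finset.sum_filter_add_sum_filter_not _ (· ∈ A), add_mul, ← hA, mul_comm c]
  refine Nat.add_le_add (Finset.sum_le_card_nsmul _ _ _ fun g _ => card_le_card_group _)
    ((Finset.sum_le_card_nsmul _ _ _ fun g hg => h g (Finset.mem_filter.1 hg).2).trans
      (Nat.mul_le_mul_right _ ?_))
  rw [Nat.card_eq_fintype_card]
  exact Finset.card_le_univ _

variable {G : Type u} {V : Type*} [Group G] [AddCommGroup V] [DistribMulAction G V]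
  [Finite V] [Finite G] [FaithfulSMul G V]

namespace Ctx

theorem card_81 (h : Ctx G V 3 4) {v : V} (hv : v ≠ 0) :
    Good G v ∨ ∃ a, Nat.card G = 2 ^ a * 5 := by
  have n3 : Ppd 3 4 5 := ⟨by norm_num, by norm_num, fun j h1 h2 h3 => by interval_cases j <;> omega⟩
  have : Fact (Nat.Prime 13) := ⟨by norm_num⟩
  by_cases h13 : 13 ∣ Nat.card G
  · have hs : ¬ 13 ^ 2 ∣ Nat.card G := fun e => by
      obtain ⟨Q, hc⟩ := Sylow.exists_subgroup_card_pow_prime 13 e
      have hQ := IsPGroup.of_card hc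
      have h1 : ∀ {T : Subgroup G}, T ≤ Q → T ≠ ⊥ →
          Nat.card (FixedPoints.addSubgroup T V) = 3 := fun hT h1 => by
        obtain ⟨i, h2, h3, h4⟩ := h.fix_card (by norm_num) (hQ.to_le hT) h1
        interval_cases i <;> omega
      have h2 := h1 le_rfl fun e => by
        rw [e, card_bot] at hc
        omega
      have := h.free_dvd Q (FixedPoints.addSubgroup Q V) (fun g hg w hw => by
        have : w = g • w := by
          conv_lhs => rw [← inv_smul_smul g w]
          exact hw ⟨g⁻¹, Q.inv_mem hg⟩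
        exact this ▸ hw) fun g hg g1 w hw => by
          refine (AddSubgroup.eq_of_le_of_card_ge (H := FixedPoints.addSubgroup Q V)
            (K := FixedPoints.addSubgroup (zpowers g) V)
            (fun u hu y => hu ⟨y, zpowers_le.2 hg y.2⟩)
            (by rw [h2, h1 (zpowers_le.2 hg) (zpowers_ne_bot.2 g1)])).ge ?_
          rintro ⟨_, s, rfl⟩
          exact (stabilizer G w).zpow_mem hw s
      rw [hc, h2] at this
      norm_num at this
    obtain ⟨ψ, k, d, h3, h4, h5, h6, h7, -⟩ := h.char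
    have h8 : d ≤ 4 := by nlinarith
    obtain ⟨N, _, hN⟩ := (small (by norm_num) h13 hs h3.isCharacter h4 (by omega)).resolve_right
      (by omega)
    have := isCyclic_of_prime_card hN
    refine .inl ((h.cases N hv).resolve_right ?_)
    rintro ⟨A, E, _, _, _, D, k, -, -, h1, h2, -, h9, -, h10⟩
    have : k ≤ 2 := by nlinarith
    rw [hN] at h10
    interval_cases k <;> omega
  obtain ⟨c, hc⟩ := n3.dvd.trans h.dvd_card
  have h0 : c ≠ 0 := by
    rintro rfl
    exact Nat.card_pos.ne' hc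
  suffices h1 : ∀ {r : ℕ}, r.Prime → r ∣ c → r = 2 from
    .inr ⟨_, by rw [hc, mul_comm, ← Nat.eq_prime_pow_of_unique_prime_dvd h0 h1]⟩
  intro r hr h1
  have := Fact.mk hr
  have h2 : r ∣ Nat.card G := hc ▸ h1.mul_left 5
  obtain ⟨x, hx⟩ := exists_prime_orderOf_dvd_card' r h2
  obtain ⟨i, h3, -, h4⟩ := h.fix_card hr (Q := zpowers x) (IsPGroup.of_card (n := 1) (by
    rw [Nat.card_zpowers, hx, pow_one])) (zpowers_ne_bot.2 fun e => by
      rw [e, orderOf_one] at hx
      exact hr.one_lt.ne hx)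
  have h5 : r ≠ 5 := by
    rintro rfl
    exact h.not_sq n3 (by norm_num) (hc ▸ Nat.mul_dvd_mul_left 5 h1)
  have h6 : r ≠ 13 := by
    rintro rfl
    exact h13 h2
  have h7 : r ∣ 2 ^ 4 * 5 * 13 := h4.trans (by interval_cases i <;> norm_num)
  rw [hr.dvd_mul, hr.dvd_mul, Nat.prime_dvd_prime_iff_eq hr (by norm_num : Nat.Prime 5),
    Nat.prime_dvd_prime_iff_eq hr (by norm_num : Nat.Prime 13)] at h7
  exact (Nat.prime_dvd_prime_iff_eq hr Nat.prime_two).1
    (hr.dvd_of_dvd_pow ((h7.resolve_right h6).resolve_right h5))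

theorem four (h : Ctx G V 3 4) {v : V} (hv : v ≠ 0) : Good G v := by
  have n3 : Ppd 3 4 5 := ⟨by norm_num, by norm_num, fun j h1 h2 h3 => by interval_cases j <;> omega⟩
  have : Fact (Nat.Prime 2) := ⟨Nat.prime_two⟩
  have : Fact (Nat.Prime 5) := ⟨by norm_num⟩
  have := h.nontrivial
  refine (h.card_81 hv).elim id fun ⟨a, ha⟩ => (h.cases ⊥ hv).elim id ?_
  rintro ⟨A, E, _, _, _, D, k, -, hA, hd, hk0, hk, hkd, -, -⟩
  have : Group.IsSolvable G := H29.isSolvable_of_card_dvd_pow_mul_pow (a := a) (b := 1)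
    Nat.prime_two (by norm_num : Nat.Prime 5) ha.dvd
  have := hA.normal
  have := hA.comm
  obtain ⟨N, hN⟩ := hA.exists_minNon (D.centralizer_ne h.tr hd)
  have := hN.normal
  have hc := hN.cl2 hA
  obtain ⟨s, m, hs, hsN, hm, he, hed, hsA⟩ := D.exists_data hA hN
  have hAd : Nat.card A ∣ 3 ^ k - 1 := hk ▸ D.card_dvd
  have hNA := card_dvd_of_le (inf_le_right : N ⊓ A ≤ A)
  have hk2 : k ≤ 2 := by nlinarith
  obtain rfl : s = 2 := (Nat.prime_dvd_prime_iff_eq hs Nat.prime_two).1 (hs.dvd_of_dvd_pow (n := 3)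
    ((hsA.trans (hNA.trans hAd)).trans (by interval_cases k <;> norm_num)))
  have hN5 : Nat.Coprime 5 (Nat.card N) := by
    obtain ⟨t, ht⟩ := hsN.exists_card_eq
    exact ht ▸ Nat.Coprime.pow_right _ (by norm_num)
  have h1 := D.pow_dvd_of_ppd hc h.prime hk hd (hkd.symm ▸ n3) hN5 (j := 1)
    (by rw [ha]; exact Dvd.intro_left _ rfl)
  have h2 : finrank E V ≤ 4 := by nlinarith
  obtain rfl : m = 2 := by
    have : m < 3 := (Nat.pow_lt_pow_iff_right (a := 2) (by norm_num)).1 (by omega)
    rw [he] at h1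
    interval_cases m <;> omega
  have hd4 : finrank E V = 4 := by omega
  obtain rfl : k = 1 := by rw [hd4] at hkd; omega
  have hA2 : Nat.card A = 2 := Nat.dvd_antisymm hAd (hsA.trans hNA)
  have hNA2 : Nat.card (N ⊓ A : Subgroup G) = 2 := Nat.dvd_antisymm (hA2 ▸ hNA) hsA
  have hAN : A ≤ N := inf_eq_right.1 (eq_of_le_of_card_ge inf_le_right (by rw [hA2, hNA2]))
  have hN32 : Nat.card N = 32 := by rw [card_eq_relIndex_mul A N, he, hNA2]; rfl
  have hC : centralizer (A : Set G) = ⊤ :=
    index_eq_one.1 (Nat.dvd_one.1 (D.index_centralizer_dvd h.prime hk))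
  have hCN : centralizer (N : Set G) = A := le_antisymm
    (fun x hx => D.centralizer_inf_le hA hc (by rw [he, hd4]; rfl) ⟨hC ▸ mem_top x, hx⟩)
    (le_centralizer_iff.1 hc.le)
  have h20 : N.index ∣ 20 := card_dvd_twenty (a := a) (ha ▸ N.index_dvd_card) fun Q _ hQ => by
    let K := Q.comap (QuotientGroup.mk' N)
    have hNK : N ≤ K := (QuotientGroup.ker_mk' N).ge.trans (ker_le_comap _ _)
    have hK : IsPGroup 2 K := hQ.comap_of_ker_isPGroup _ (by rwa [QuotientGroup.ker_mk'])
    have := hK.isNilpotent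
    have h3 : ⁅N, K⁆ ≤ A := hN.le_of_lt hA _ (H2.commutator_lt_of_isNilpotent hNK
      le_normalizer_of_normal fun e => by rw [e, card_bot] at hN32; omega)
    have h4 := relIndex_eq_of_commPair D.ι_injective (X := K) (hC ▸ le_top) hc.le
      fun x hx y hy => h3 (commutator_comm N K ▸ commutator_mem_commutator hx hy)
    have h5 : (centralizer (K : Set G)).relIndex N ∣ A.relIndex N :=
      relIndex_dvd_of_le_left _ (le_centralizer_iff.1 (hC ▸ le_top))
    rw [← h4, hCN, he] at h5
    have h6 : N = K := eq_of_le_of_card_ge hNK (by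
      rw [card_eq_relIndex_mul A K, inf_eq_right.2 (hAN.trans hNK), hA2, hN32]
      have := Nat.le_of_dvd (by norm_num) h5
      omega)
    rw [← map_comap_eq_self_of_surjective (QuotientGroup.mk'_surjective N) Q, Subgroup.map_eq_bot_iff,
      QuotientGroup.ker_mk']
    exact h6.ge
  have h3 := cls_le A (c := 64) fun g hg => by
    set C := centralizer ({g} : Set G)
    have h4 : N.relIndex C ∣ 20 := (relIndex_dvd_index_of_normal _ _).trans h20
    have h5 : Nat.card (C ⊓ N : Subgroup G) ∣ 32 := hN32 ▸ card_dvd_of_le inf_le_right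
    have h6 : Nat.card (C ⊓ N : Subgroup G) ≠ 32 := fun e => hg (hCN.le fun y hy =>
      mem_centralizer_singleton_iff.1 (inf_eq_right.1
        (eq_of_le_of_card_ge inf_le_right (by rw [e, hN32])) hy))
    have h7 : 5 ∣ N.relIndex C → 5 ∣ Nat.card (C ⊓ N : Subgroup G) - 2 := fun e => by
      obtain ⟨⟨x, hx⟩, hx1⟩ := exists_prime_orderOf_dvd_card' (G := C) 5
        (e.trans (relIndex_dvd_card _ _))
      rw [orderOf_mk] at hx1
      have hAC : A ≤ C ⊓ N := fun y hy =>
        ⟨mem_centralizer_singleton_iff.2 (hC.ge (mem_top g) y hy), hAN hy⟩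
      have h8 := card_dvd_ncard_of_conj (zpowers x) (((C ⊓ N : Subgroup G) : Set G) \ A)
        (fun y hy z hz => ⟨⟨C.mul_mem (C.mul_mem (zpowers_le.2 hx hy) hz.1.1)
          (C.inv_mem (zpowers_le.2 hx hy)), Normal.conj_mem inferInstance z hz.1.2 y⟩,
            fun h2 => hz.2 (by
              simpa [mul_assoc] using Normal.conj_mem inferInstance _ h2 y⁻¹)⟩) fun y hy z hz e => by
          by_contra h9
          have h10 : orderOf y = 5 := ((Nat.dvd_prime (by norm_num)).1
            (hx1 ▸ orderOf_dvd_of_mem_zpowers hy)).resolve_left fun e => h9 (orderOf_eq_one_iff.1 e)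
          exact hz.2 (hc.inf_centralizer_le (g := y) (hC ▸ mem_top y) (h10 ▸ hN5)
            (fun a ha b hb => h.comm_cent n3 h10 (ha y (mem_zpowers y)) (hb y (mem_zpowers y)))
            ⟨hz.1.2, mem_centralizer_singleton_iff.2 e.symm⟩)
      rwa [Nat.card_zpowers, hx1, Set.ncard_sdiff hAC, ← Nat.card_coe_set_eq,
        ← Nat.card_coe_set_eq, SetLike.coe_sort_coe, SetLike.coe_sort_coe, hA2] at h8
    rw [card_eq_relIndex_mul N C]
    have h8 := Nat.le_of_dvd (by norm_num) h4
    have h9 := Nat.le_of_dvd (by norm_num) h5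
    generalize N.relIndex C = c at h4 h7 h8 ⊢
    generalize Nat.card (C ⊓ N : Subgroup G) = d at h5 h6 h7 h9 ⊢
    have : d ≤ 16 := by interval_cases d <;> omega
    interval_cases c <;> first | omega | (interval_cases d <;> omega)
  have h4 := h.card_eq hv
  rw [← N.index_mul_card, hN32] at h4
  have := Nat.le_of_dvd (by norm_num) h20
  refine .of_lt ?_
  rw [h.card]
  omega

theorem good {p n : ℕ} (h : Ctx G V p n) {v : V} (hv : v ≠ 0) : Good G v := by
  have := h.nontrivial
  by_cases h2 : p = 2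
  · subst h2
    have := H42.odd_order (G := G) (Nat.odd_iff.2 (by have := h.cop; omega))
    refine (h.cases ⊥ hv).resolve_right ?_
    rintro ⟨A, E, _, _, _, D, k, -, hA, hd, -⟩
    have h1 := D.huppert h.tr hA hd
    have h3 : 2 ∣ Nat.card V := h.card ▸ dvd_pow_self 2 h.pos.ne'
    simp only [Set.mem_insert_iff, Set.mem_singleton_iff] at h1
    omega
  obtain rfl | rfl | hn : n = 1 ∨ n = 2 ∨ 3 ≤ n := by have := h.pos; omega
  · refine (h.cases ⊥ hv).resolve_right ?_
    rintro ⟨A, E, _, _, _, D, k, -, -, hd, hk, -, h1, -⟩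
    nlinarith
  · exact h.two hv
  by_cases h3 : p = 3 ∧ (n = 4 ∨ n = 6)
  · obtain ⟨rfl, rfl | rfl⟩ := h3
    · exact h.four hv
    · exact h.six (.inl ⟨rfl, rfl⟩) hv
  by_cases h5 : p = 5 ∧ n = 6
  · obtain ⟨rfl, rfl⟩ := h5
    exact h.six (.inr ⟨rfl, rfl⟩) hv
  obtain ⟨l, h6, h7, h8, h9⟩ := Cfsg.Agent.S3430.result p n h.prime.two_le (by omega) (by omega)
    (fun e => h2 e.1) h3 h5
  exact h.large hn ⟨h6, h7, h8⟩ h9 hv

end Ctx

end H34.TL
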