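import Cfsg.Agent.H17.DdRed
import Cfsg.Agent.H40.TIDeg
import Cfsg.Agent.H90.Huppert

/-! Lifting a coprime linear group over a finite field to a faithful complex character. -/

set_option autoImplicit false

namespace H34.TL

open Cfsg H28 H34.Dd H17.Dd Matrix Module Polynomial

universe u

theorem algClosed_residue (O : ValuationSubring ℂ) : IsAlgClosed (IsLocalRing.ResidueField O) :=
  IsAlgClosed.of_exists_root _ fun f hf hi => by
    obtain ⟨g, rfl, hd, hg⟩ := lifts_and_natDegree_eq_and_monic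
      (f := IsLocalRing.residue O) (p := f)
      (mem_lifts_of_surjective IsLocalRing.residue_surjective f) hf
    obtain ⟨z, hz⟩ := IsAlgClosed.exists_aeval_eq_zero ℂ g (by
      rw [degree_eq_natDegree hg.ne_zero, hd]
      exact_mod_cast hi.natDegree_pos.ne')
    obtain ⟨w, rfl⟩ := (IsIntegrallyClosed.isIntegral_iff (R := O) (K := ℂ)).1 ⟨g, hg, hz⟩
    rw [aeval_algebraMap_eq_zero_iff_of_injective (IsFractionRing.injective O ℂ)] at hz
    refine ⟨IsLocalRing.residue O w, ?_⟩
    rw [eval_map, eval₂_hom]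
    exact (congrArg _ hz).trans (map_zero _)

theorem exists_lift {X : Type u} [Group X] [Finite X] {E V : Type*} [Field E] [Finite E]
    [AddCommGroup V] [Module E V] [Module.Finite E V] [Nontrivial V] (p : ℕ) [Fact p.Prime]
    [CharP E p] (hX : ¬ p ∣ Nat.card X) (ρ₀ : X →* Module.End E V)
    (hf : ∀ N : Subgroup X, N.Normal → ∀ v : V, v ≠ 0 → (∀ y ∈ N, ρ₀ y v = v) → N = ⊥) :
    ∃ ψ : X → ℂ, IsIrrCharacter X ψ ∧ charKer ψ = ⊥ ∧ charDegree ψ ≤ finrank E V := by
  classical
  obtain ⟨O, _⟩ := H40.exists_valuationSubring_prime p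
  have := algClosed_residue O
  let _ := ZMod.algebra E p
  let _ := ZMod.algebra (IsLocalRing.ResidueField O) p
  let f : E →+* IsLocalRing.ResidueField O :=
    (IsAlgClosed.lift (R := ZMod p) (M := IsLocalRing.ResidueField O) (S := E)).toRingHom
  let b := Module.finBasis E V
  let τ₀ : X →* Matrix (Fin (finrank E V)) (Fin (finrank E V)) E :=
    (LinearMap.toMatrixAlgEquiv b).toMonoidHom.comp ρ₀
  let τ := f.mapMatrix.toMonoidHom.comp τ₀
  have := Fintype.ofFinite X
  choose n ρ hn hρ using fun ψ : IrrCharacter X => jobLat O ψ.2.isCharacter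
  have fi : ∀ ψ, FI (redM (ρ ψ)) := fun ψ => jobFI O p (ρ ψ) hX (by simpa only [hρ] using ψ.2)
  have trr : ∀ {l : ℕ} (ρ : X →* Matrix (Fin l) (Fin l) O) (y : X),
      (redM ρ y).trace = IsLocalRing.residue O (ρ y).trace := fun ρ y =>
    (AddMonoidHom.map_trace (IsLocalRing.residue O) (ρ y)).symm
  have one : ∑ ψ, tf (redM (ρ ψ)) τ 1 = 1 := by
    have e : ∀ x : X, ∑ ψ, (n ψ : O) * (ρ ψ x⁻¹).trace = if x = 1 then (Nat.card X : O) else 0 :=
      fun x => O.subtype_injective (by
        simpa [hρ, ← hn, apply_ite, regChar] using sum_degree_mul_apply x⁻¹)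
    simp only [tf_apply, one_mul, Finset.smul_sum, ← mul_smul, div_mul_eq_mul_div, trr]
    rw [Finset.sum_comm]
    simp only [← Finset.sum_smul, ← Finset.sum_div, ← map_natCast (IsLocalRing.residue O) (n _),
      ← map_mul, ← map_sum, e]
    rw [Finset.sum_eq_single 1 (fun x _ hx => by simp [hx]) (by simp)]
    rw [if_pos rfl, map_natCast, div_self (card_ne p hX), map_one, one_smul]
  obtain ⟨ψ, -, h0⟩ := Finset.exists_ne_zero_of_sum_ne_zero (s := Finset.univ)
    (f := fun ψ => tf (redM (ρ ψ)) τ 1) (by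
      have : Nonempty (Fin (finrank E V)) := ⟨⟨0, finrank_pos⟩⟩
      rw [one]; exact one_ne_zero)
  have inj := tf_inj _ τ (fi ψ) h0
  refine ⟨ψ, ψ.2, ?_, ?_⟩
  · let N := charKer ψ.1
    have h1 : ∀ y ∈ N, τ y * tf (redM (ρ ψ)) τ 1 = tf (redM (ρ ψ)) τ 1 := fun y hy => by
      rw [← tf_left, tf_apply, tf_apply]
      refine congrArg _ (Finset.sum_congr rfl fun x _ => ?_)
      rw [mul_one, one_mul, ← map_mul, trr, trr]
      congr 2
      exact Subtype.ext (by rw [hρ, hρ]; exact hy _)
    have h2 : ∑ y : N, ρ₀ y ≠ 0 := fun h => by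
      have h3 : ∑ y : N, τ y = 0 := by
        have := congrArg (fun s => f.mapMatrix (LinearMap.toMatrixAlgEquiv b s)) h
        simp only [map_sum, map_zero] at this
        exact this
      have h4 := congrArg (· * tf (redM (ρ ψ)) τ 1) h3
      simp only [Finset.sum_mul, zero_mul] at h4
      rw [Finset.sum_congr rfl fun (y : N) _ => h1 y y.2, Finset.sum_const, Finset.card_univ,
        ← Nat.card_eq_fintype_card, ← Nat.cast_smul_eq_nsmul (IsLocalRing.ResidueField O),
        smul_eq_zero] at h4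
      exact h0 (h4.resolve_left (card_ne p fun h => hX (h.trans N.card_subgroup_dvd_card)))
    obtain ⟨v, hv⟩ := DFunLike.ne_iff.1 h2
    refine hf N ψ.2.isCharacter.charKer_normal _ hv fun y hy => ?_
    rw [← Module.End.mul_apply, Finset.mul_sum]
    conv_rhs => rw [← Equiv.sum_comp (Equiv.mulLeft (⟨y, hy⟩ : N))]
    simp only [← map_mul]
    rfl
  · have := LinearMap.finrank_le_finrank_of_injective inj
    simp only [finrank_matrix, Fintype.card_fin, finrank_self, mul_one] at this
    rw [charDegree_eq (hn ψ)]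
    exact Nat.mul_self_le_mul_self_iff.1 this

end H34.TL
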