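import Cfsg.Agent.H34.TLLift
import Cfsg.Agent.H28.ConjCount

/-! Class numbers of coprime transitive subgroups of `ΓL(1, q)`. -/

set_option autoImplicit false

namespace H34.TL

open Cfsg H28 H90 Module Subgroup

theorem four_mul_sq_lt {s : ℕ} (hs : 4 ≤ s) : 4 * s ^ 2 < 3 ^ s := by
  induction s, hs using Nat.le_induction with
  | base => norm_num
  | succ s hs ih => rw [pow_succ 3]; nlinarith

theorem eight_mul_cube_lt {s : ℕ} (hs : 5 ≤ s) : 8 * s ^ 3 < 4 ^ s := by
  induction s, hs using Nat.le_induction with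
  | base => norm_num
  | succ s hs ih =>
    have h1 : (s + 1) ^ 3 ≤ 4 * s ^ 3 := by
      have : s * s * 5 ≤ s * s * s := Nat.mul_le_mul_left _ hs
      nlinarith
    rw [pow_succ 4]
    omega

theorem num_semi {p n s t m k c o : ℕ} (hp : p.Prime) (hn : 0 < n) (hs : s ∣ n) (hps : ¬ p ∣ s)
    (ht : t ∣ s) (hm : m * s = (p ^ n - 1) * t) (hk : k * s ≤ m + (1 + s) * (s - 1) * c)
    (ho : o ∣ s) (ho2 : 2 ≤ o) (hc : (c + 1) ^ o ≤ p ^ n) :
    k + t ≤ p ^ n ∧ (k + t = p ^ n →
      (p ^ n = 8 ∧ (p ^ n - 1) * t = 21) ∨ (p ^ n = 9 ∧ (p ^ n - 1) * t = 16)) := by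
  have hs0 : 0 < s := Nat.pos_of_dvd_of_pos hs hn
  have hq : p ^ s ≤ p ^ n := Nat.pow_le_pow_right hp.pos (Nat.le_of_dvd hn hs)
  have hos := Nat.le_of_dvd hs0 ho
  have hts := Nat.le_of_dvd hs0 ht
  have hp2 := hp.two_le
  obtain ⟨q, hqq⟩ : ∃ q, p ^ n = q + 1 := ⟨p ^ n - 1, by have := pow_pos hp.pos n; omega⟩
  rw [hqq] at hm hc hq ⊢
  rw [Nat.add_sub_cancel] at hm ⊢
  have hc2 : (c + 1) ^ 2 ≤ q + 1 := (Nat.pow_le_pow_right (by omega) ho2).trans hc
  obtain rfl | rfl | hs4 : s = 2 ∨ s = 3 ∨ 4 ≤ s := by omega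
  · have h3 : 3 ≤ p := by
      by_contra h
      exact hps (by rw [show p = 2 by omega])
    have h9 : 9 ≤ q + 1 := le_trans (by nlinarith) hq
    have h4 : 3 * (c + 1) ≤ q + 1 := by
      by_contra h
      nlinarith
    have h5 : 3 * (c + 1) = q + 1 → q = 8 := fun h => by nlinarith
    obtain rfl | rfl : t = 1 ∨ t = 2 := (Nat.dvd_prime Nat.prime_two).1 ht
    all_goals omega
  · obtain rfl : o = 3 := ((Nat.dvd_prime Nat.prime_three).1 ho).resolve_left (by omega)
    have h8 : 8 ≤ q + 1 := le_trans (Nat.pow_le_pow_left hp2 3) hq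
    have h6 : 64 * (q + 1) ≤ (q + 1) ^ 3 := by nlinarith [Nat.mul_le_mul h8 h8]
    have h4 : 4 * (c + 1) ≤ q + 1 := by
      refine (Nat.pow_le_pow_iff_left (n := 3) (by norm_num)).1 ?_
      rw [mul_pow]
      omega
    have h5 : 4 * (c + 1) = q + 1 → q = 7 := fun h => by
      rw [← h] at hc
      have : c + 1 ≤ 2 := by
        by_contra h7
        nlinarith [Nat.mul_le_mul (show 3 ≤ c + 1 by omega) (show 3 ≤ c + 1 by omega)]
      omega
    obtain rfl | rfl : t = 1 ∨ t = 3 := (Nat.dvd_prime Nat.prime_three).1 ht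
    all_goals omega
  · obtain ⟨u, rfl⟩ : ∃ u, s = u + 1 := ⟨s - 1, by omega⟩
    rw [Nat.add_sub_cancel] at hk
    have h1 : m ≤ q := Nat.le_of_mul_le_mul_right (hm ▸ Nat.mul_le_mul_left q hts) hs0
    have h2 : (u + 1) ^ 2 * (c + 1) < (q + 1) * u := by
      by_cases h3 : p = 2
      · subst h3
        have h4 : 3 ≤ o := by
          by_contra h
          exact hps (by rwa [show o = 2 by omega] at ho)
        have h5 : (c + 1) ^ 3 ≤ q + 1 := (Nat.pow_le_pow_right (by omega) h4).trans hc
        have h6 := eight_mul_cube_lt (s := u + 1) (by omega)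
        have h7 : 4 ^ (u + 1) ≤ (q + 1) ^ 2 := by
          rw [show (4 : ℕ) = 2 ^ 2 from rfl, ← pow_mul, mul_comm, pow_mul]
          exact Nat.pow_le_pow_left hq 2
        have h8 : (u + 1) ^ 3 ≤ (2 * u) ^ 3 := Nat.pow_le_pow_left (by omega) 3
        refine (Nat.pow_lt_pow_iff_left (n := 3) (by norm_num)).1 ?_
        calc ((u + 1) ^ 2 * (c + 1)) ^ 3 = (u + 1) ^ 3 * (u + 1) ^ 3 * (c + 1) ^ 3 := by ring
          _ ≤ (u + 1) ^ 3 * (2 * u) ^ 3 * (q + 1) := by gcongr
          _ = 8 * (u + 1) ^ 3 * (u ^ 3 * (q + 1)) := by ring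
          _ < (q + 1) ^ 2 * (u ^ 3 * (q + 1)) :=
            Nat.mul_lt_mul_of_pos_right (h6.trans_le h7) (by have : 0 < u := by omega
                                                             positivity)
          _ = _ := by ring
      · have h6 := four_mul_sq_lt hs4
        have h7 : 3 ^ (u + 1) ≤ q + 1 := (Nat.pow_le_pow_left (by omega) _).trans hq
        have h8 : (u + 1) ^ 2 ≤ (2 * u) ^ 2 := Nat.pow_le_pow_left (by omega) 2
        refine (Nat.pow_lt_pow_iff_left (n := 2) (by norm_num)).1 ?_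
        calc ((u + 1) ^ 2 * (c + 1)) ^ 2 = (u + 1) ^ 2 * (u + 1) ^ 2 * (c + 1) ^ 2 := by ring
          _ ≤ (u + 1) ^ 2 * (2 * u) ^ 2 * (q + 1) := by gcongr
          _ = 4 * (u + 1) ^ 2 * (u ^ 2 * (q + 1)) := by ring
          _ < (q + 1) * (u ^ 2 * (q + 1)) :=
            Nat.mul_lt_mul_of_pos_right (h6.trans_le h7) (by have : 0 < u := by omega
                                                             positivity)
          _ = _ := by ring
    have h3 : (k + t) * (u + 1) < (q + 1) * (u + 1) := by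
      have := Nat.mul_le_mul_right (u + 1) hts
      nlinarith
    have := Nat.lt_of_mul_lt_mul_right h3
    omega

section grp

variable {G : Type*} [Group G] [Finite G]

theorem card_cent_le (A : Subgroup G) [A.Normal] (g : G) :
    Nat.card (centralizer ({g} : Set G)) ≤
      A.index * Nat.card (A ⊓ centralizer ({g} : Set G) : Subgroup G) := by
  rw [card_eq_relIndex_mul A, inf_comm]
  exact Nat.mul_le_mul_right _ (Nat.le_of_dvd (Nat.pos_of_ne_zero A.index_ne_zero_of_finite)
    (relIndex_dvd_index_of_normal _ _))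

theorem count_bound (A : Subgroup G) [A.Normal] [IsMulCommutative A] {c : ℕ}
    (hc : ∀ g ∉ A, Nat.card (A ⊓ centralizer ({g} : Set G) : Subgroup G) ≤ c) :
    Nat.card (ConjClasses G) * A.index ≤ Nat.card A + (1 + A.index) * (A.index - 1) * c := by
  classical
  have := Fintype.ofFinite G
  have h1 := sum_card_centralizer (G := G)
  have hA : (Finset.univ.filter (· ∈ A)).card = Nat.card A := by
    rw [Nat.card_eq_fintype_card, Fintype.card_subtype]
  have hB : (Finset.univ.filter (· ∉ A)).card = (A.index - 1) * Nat.card A := by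
    have := Finset.card_filter_add_card_filter_not (s := Finset.univ) (· ∈ A)
    rw [hA, Finset.card_univ, ← Nat.card_eq_fintype_card, ← A.index_mul_card] at this
    rw [Nat.sub_mul]
    omega
  have h2 : ∑ g with g ∈ A, Nat.card (centralizer ({g} : Set G)) =
      ∑ h, Nat.card (A ⊓ centralizer ({h} : Set G) : Subgroup G) := by
    simp only [Nat.card_eq_fintype_card, Fintype.card_subtype, Finset.card_filter,
      Finset.sum_filter, mem_centralizer_singleton_iff, mem_inf]
    rw [Finset.sum_comm]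
    refine Finset.sum_congr rfl fun g _ => ?_
    split_ifs with h
    · simp [h, eq_comm]
    · simp [h]
  have h3 : ∑ h, Nat.card (A ⊓ centralizer ({h} : Set G) : Subgroup G) ≤
      Nat.card A * Nat.card A + (A.index - 1) * Nat.card A * c := by
    rw [← Finset.sum_filter_add_sum_filter_not _ (· ∈ A), ← hB]
    conv_rhs => enter [1, 1]; rw [← hA]
    exact Nat.add_le_add (Finset.sum_le_card_nsmul _ _ _ fun g _ => card_le_of_le inf_le_left)
      (Finset.sum_le_card_nsmul _ _ _ fun g hg => hc g (Finset.mem_filter.1 hg).2)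
  have h4 : ∑ g with g ∉ A, Nat.card (centralizer ({g} : Set G)) ≤
      (A.index - 1) * Nat.card A * (A.index * c) := by
    rw [← hB]
    exact Finset.sum_le_card_nsmul _ _ _ fun g hg => (card_cent_le A g).trans
      (Nat.mul_le_mul_left _ (hc g (Finset.mem_filter.1 hg).2))
  rw [← Finset.sum_filter_add_sum_filter_not _ (· ∈ A), h2, ← A.index_mul_card] at h1
  refine Nat.le_of_mul_le_mul_right ?_ (Nat.card_pos (α := A))
  calc _ = _ := by rw [mul_assoc, ← h1]
    _ ≤ _ := Nat.add_le_add h3 h4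
    _ = _ := by ring

end grp

variable {G V : Type*} [Group G] [AddCommGroup V] [DistribMulAction G V]

variable (G V) in
/-- A `p'`-group transitive on the non-zero vectors of a space with `p ^ n` elements. -/
structure Ctx (p n : ℕ) : Prop where
  prime : p.Prime
  pos : 0 < n
  card : Nat.card V = p ^ n
  cop : ¬ p ∣ Nat.card G
  tr : TransNZ G V

variable (G) in
/-- The class number bound. -/
def Good (v : V) : Prop :=
  Nat.card (ConjClasses G) + Nat.card (MulAction.stabilizer G v) ≤ Nat.card V ∧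
    (Nat.card (ConjClasses G) + Nat.card (MulAction.stabilizer G v) = Nat.card V →
      IsCyclic G ∨ (Nat.card V = 8 ∧ Nat.card G = 21) ∨ (Nat.card V = 9 ∧ Nat.card G = 16))

theorem Good.of_lt {v : V}
    (h : Nat.card (ConjClasses G) + Nat.card (MulAction.stabilizer G v) < Nat.card V) :
    Good G v := ⟨h.le, fun e => absurd e h.ne⟩

theorem card_fix {A : Subgroup G} {E : Type*} [Field E] [Finite E] [Module E V] (D : FD V A E)
    [FaithfulSMul G V] [Nontrivial V] (g : G) :
    (Nat.card (A ⊓ centralizer ({g} : Set G) : Subgroup G) + 1) ^ orderOf (D.σ g) ≤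
      Nat.card E := by
  have : Finite (RingAut E) := Finite.of_injective _ DFunLike.coe_injective
  have := Fintype.ofFinite (zpowers (D.σ g))
  let K := FixedPoints.subfield (zpowers (D.σ g)) E
  have h1 : finrank K E = orderOf (D.σ g) := by
    rw [FixedPoints.finrank_eq_card, ← Nat.card_eq_fintype_card, Nat.card_zpowers]
  rw [Module.natCard_eq_pow_finrank (K := K) (V := E), h1]
  refine Nat.pow_le_pow_left ?_ _
  obtain ⟨v, hv⟩ := exists_ne (0 : V)
  have h2 : ∀ a : (A ⊓ centralizer ({g} : Set G) : Subgroup G), (D.ι ⟨a, a.2.1⟩ : E) ∈ K := by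
    rintro ⟨a, ha, hg⟩ ⟨_, z, rfl⟩
    have h3 := D.semi g (D.ι ⟨a, ha⟩) v
    rw [← D.smul_eq, ← mul_smul, ← mem_centralizer_singleton_iff.1 hg, mul_smul,
      D.smul_eq ⟨a, ha⟩] at h3
    have h4 := (smul_left_injective E ((smul_ne_zero_iff_ne g).2 hv) h3).symm
    exact (MulAction.stabilizer (RingAut E) (D.ι ⟨a, ha⟩ : E)).zpow_mem h4 z
  have h5 := Nat.card_le_card_of_injective
    (fun a : (A ⊓ centralizer ({g} : Set G) : Subgroup G) =>
      Units.mk0 (⟨_, h2 a⟩ : K) fun h => (D.ι ⟨a, a.2.1⟩).ne_zero (congrArg Subtype.val h))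
    fun a b h => Subtype.ext (congrArg (Subtype.val (p := (· ∈ A))) (D.ι_injective
      (Units.ext (congrArg (fun u : Kˣ => (u : E)) h))))
  rw [Nat.card_units] at h5
  have := Nat.card_pos (α := K)
  omega

namespace Ctx

variable {p n : ℕ} (h : Ctx G V p n)
include h

theorem one_lt : 1 < p ^ n := Nat.one_lt_pow h.pos.ne' h.prime.one_lt

theorem nontrivial [Finite V] : Nontrivial V :=
  Finite.one_lt_card_iff_nontrivial.1 (h.card ▸ h.one_lt)

theorem index_stab [Finite V] {v : V} (hv : v ≠ 0) :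
    (MulAction.stabilizer G v).index = p ^ n - 1 := by
  have h1 : MulAction.orbit G v = {0}ᶜ := by
    ext w
    constructor
    · rintro ⟨g, rfl⟩
      exact (smul_ne_zero_iff_ne g).2 hv
    · exact fun hw => h.tr v w hv hw
  rw [MulAction.index_stabilizer, h1, Set.ncard_compl, Set.ncard_singleton, h.card]

theorem card_eq [Finite V] {v : V} (hv : v ≠ 0) :
    Nat.card G = (p ^ n - 1) * Nat.card (MulAction.stabilizer G v) := by
  rw [← h.index_stab hv, index_mul_card]

theorem dvd_card [Finite V] : p ^ n - 1 ∣ Nat.card G := by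
  have := h.nontrivial
  exact h.card ▸ h.tr.card_sub_one_dvd

theorem field [Finite V] (E : Type*) [Field E] [Finite E] [Module E V] :
    ∃ k, 0 < k ∧ Nat.card E = p ^ k ∧ k * finrank E V = n ∧ CharP E p := by
  have := Fintype.ofFinite E
  obtain ⟨r, hr0, ⟨k, hk0⟩, hr, hk⟩ := FiniteField.card' E
  rw [← Nat.card_eq_fintype_card] at hk
  have : Module.Finite E V := Module.Finite.of_finite
  have h1 := Module.natCard_eq_pow_finrank (K := E) (V := V)
  rw [h.card, hk, ← pow_mul] at h1
  obtain rfl : p = r := (Nat.prime_dvd_prime_iff_eq h.prime hr).1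
    (h.prime.dvd_of_dvd_pow (h1 ▸ dvd_pow_self p h.pos.ne'))
  exact ⟨k, hk0, hk, (Nat.pow_right_injective hr.two_le h1).symm, hr0⟩

variable [Finite V] [Finite G] [FaithfulSMul G V]

theorem semi {A : Subgroup G} (hA : MaxAb A) {E : Type*} [Field E] [Finite E] [Module E V]
    (D : FD V A E) (h1 : finrank E V = 1) {v : V} (hv : v ≠ 0) : Good G v := by
  have := h.nontrivial
  have := hA.normal
  have := hA.comm
  obtain ⟨k, -, hk, hkn, -⟩ := h.field E
  rw [h1, mul_one] at hkn
  subst hkn
  have hC : centralizer (A : Set G) = A := by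
    by_contra hne
    refine hA.not_comm_centralizer hne ⟨⟨fun x y => Subtype.ext
      (comm_of_irreducible (V := V) _ (fun W hW => ?_) x.2 y.2)⟩⟩
    refine or_iff_not_imp_left.2 fun h2 => eq_top_iff.2 fun w _ => ?_
    obtain ⟨⟨u, hu⟩, hu0⟩ := (AddSubgroup.ne_bot_iff_exists_ne_zero).1 h2
    obtain ⟨c, rfl⟩ := (finrank_eq_one_iff_of_nonzero' u fun e => hu0 (Subtype.ext e)).1 h1 w
    exact D.smul_mem W hW c hu
  have hs : A.index ∣ k := hC ▸ D.index_centralizer_dvd h.prime hk
  have ht : Nat.card (MulAction.stabilizer G v) ∣ A.index :=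
    card_dvd_of_injective ((QuotientGroup.mk' A).comp (MulAction.stabilizer G v).subtype)
      ((injective_iff_map_eq_one _).2 fun x hx => Subtype.ext
        (D.eq_one_of_smul ((QuotientGroup.eq_one_iff _).1 hx) hv x.2))
  have hm := (A.card_mul_index).trans (h.card_eq hv)
  unfold Good
  rw [h.card]
  by_cases h2 : A = ⊤
  · subst h2
    rw [index_top, Nat.dvd_one] at ht
    have h3 := Nat.card_le_card_of_surjective _ (ConjClasses.mk_surjective (α := G))
    have h4 := h.one_lt
    rw [h.card_eq hv] at h3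
    have := D.isCyclic
    exact ⟨by rw [ht] at h3 ⊢; omega, fun _ => .inl (isCyclic_of_surjective _ topEquiv.surjective)⟩
  obtain ⟨g, hg, hmax⟩ := Set.exists_max_image {g | g ∉ A}
    (fun g => Nat.card (A ⊓ centralizer ({g} : Set G) : Subgroup G)) (Set.toFinite _)
    (by simpa [Set.Nonempty, eq_top_iff'] using h2)
  have h3 := card_fix D g
  have h4 : orderOf (D.σ g) ∣ A.index := by
    rw [← congrArg index (D.ker_σ.trans hC), index_ker]
    exact D.σ.range.orderOf_dvd_natCard ⟨g, rfl⟩
  have h5 : 2 ≤ orderOf (D.σ g) := by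
    have h6 : orderOf (D.σ g) ≠ 1 := fun e => hg
      ((D.ker_σ.trans hC).le (orderOf_eq_one_iff.1 e))
    have := Nat.pos_of_dvd_of_pos h4 (Nat.pos_of_ne_zero A.index_ne_zero_of_finite)
    omega
  obtain ⟨h6, h7⟩ := num_semi h.prime h.pos hs (fun e => h.cop (e.trans A.index_dvd_card)) ht hm
    (count_bound A hmax) h4 h5 (hk ▸ h3)
  exact ⟨h6, fun e => .inr (by rw [h.card_eq hv]; exact h7 e)⟩

end Ctx

end H34.TL
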