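import Cfsg.Agent.H57.U2CSpec

/-! Slot XP of chapter U2C (S3275). -/

set_option autoImplicit false

namespace H34.U2XP

open Subgroup Cfsg H98 H96 H97 H48.DP H57.DPC H48.DP2 H96.U2I H57.U2C
open scoped commutatorElement

universe u

section pure

variable {H : Type u} [Group H]

/-- invariance under all automorphisms -/
def Ch (X : Subgroup H) : Prop := ∀ φ : MulAut H, ∀ x ∈ X, φ x ∈ X

theorem ch_of (X : Subgroup H) [h : X.Characteristic] : Ch X := fun φ _ hx =>
  characteristic_iff_le_comap.1 h φ hx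

theorem card_step [Finite H] {A B : Subgroup H} (hB : IsPGroup 3 B) (h : A ≤ B) {x : H}
    (hx : x ∈ B) (hx' : x ∉ A) : 3 * Nat.card A ≤ Nat.card B := by
  have : Fact (Nat.Prime 3) := ⟨Nat.prime_three⟩
  obtain ⟨i, hi⟩ := (hB.to_le h).exists_card_eq
  obtain ⟨j, hj⟩ := hB.exists_card_eq
  have h1 : Nat.card A ≤ Nat.card B := card_le_of_le h
  have h2 : Nat.card A ≠ Nat.card B := fun e => hx' (eq_of_le_of_card_ge h e.ge ▸ hx)
  rw [hi, hj] at h1 h2 ⊢
  have h3 : i < j := (Nat.pow_lt_pow_iff_right (by norm_num)).1 (lt_of_le_of_ne h1 h2)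
  rw [← pow_succ']
  exact Nat.pow_le_pow_right (by norm_num) h3

/-- `(d b)³ = d³ b³` when `b d b⁻¹ = d c` with `c` central and `b³ = 1`. -/
theorem cube {d b c : H} (hc : c ∈ center H) (e : b * d = d * c * b) (hb : b ^ 3 = 1) :
    (d * b) ^ 3 = d ^ 3 := by
  have cc : ∀ g : H, c * g = g * c := fun g => (mem_center_iff.1 hc g).symm
  have e2 : b * b * d = d * (c * c) * (b * b) := by
    calc b * b * d = b * (d * c * b) := by rw [mul_assoc, e]
      _ = (b * d) * (c * b) := by group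
      _ = d * c * (b * c) * b := by rw [e]; group
      _ = _ := by rw [← cc b]; group
  have hb' : b * b * b = 1 := by rw [← hb]; simp only [pow_succ, pow_zero, one_mul]
  have c3 : c * c * c = 1 := by
    have h1 : b * b * b * d = d * (c * c * c) * (b * b * b) := by
      calc b * b * b * d = b * (b * b * d) := by group
        _ = (b * d) * (c * c * b) * b := by rw [e2]; group
        _ = d * c * (b * (c * c)) * b * b := by rw [e]; group
        _ = d * c * (c * c * b) * b * b := by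
          rw [show b * (c * c) = c * c * b by rw [← mul_assoc, ← cc b, mul_assoc, ← cc b, mul_assoc]]
        _ = _ := by group
    rw [hb', one_mul, mul_one] at h1
    exact (mul_eq_left.1 h1.symm)
  calc (d * b) ^ 3 = d * (b * d) * (b * d) * b := by
        simp only [pow_succ, pow_zero, one_mul, mul_assoc]
    _ = d * d * c * (b * b * d) * b := by rw [e]; nth_rewrite 2 [← e]; group
    _ = d * d * (c * d) * (c * c) * (b * b * b) := by rw [e2]; group
    _ = d * d * d * (c * c * c) := by rw [cc d, hb']; group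
    _ = d ^ 3 := by rw [c3]; simp only [pow_succ, pow_zero, one_mul, mul_one]

theorem mem_Z2 {x : H} : x ∈ Subgroup.upperCentralSeries H 2 ↔ ∀ y, ⁅x, y⁆ ∈ center H := by
  rw [Subgroup.mem_upperCentralSeries_succ_iff, Subgroup.upperCentralSeries_one]

theorem cube' {d b : H} (hd : d ∈ Subgroup.upperCentralSeries H 2) (hb : b ^ 3 = 1) :
    (d * b) ^ 3 = d ^ 3 := by
  refine cube (c := ⁅d⁻¹, b⁆) (mem_Z2.1 (inv_mem hd) b) ?_ hb
  rw [commutatorElement_def]; group

theorem pure [Finite H] (hH : IsPGroup 3 H) (h27 : E27 (⊤ : Subgroup H)) :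
    (∃ X : Subgroup H, Ch X ∧ E27 X ∧ ((∀ f ∈ X, f ^ 3 = 1) ∨ X ≠ ⊤)) ∨
    ∃ U : Subgroup H, Ch U ∧ IsElementaryAbelian 3 U ∧ Nat.card U = 9 ∧
      ∃ x ∈ U, x ≠ 1 ∧ Ch (zpowers x) := by
  have : Fact (Nat.Prime 3) := ⟨Nat.prime_three⟩
  obtain ⟨B, -, hB, hB27⟩ := h27
  set Om : Subgroup H := closure {g | g ^ 3 = 1} with hOm
  have chO : Ch Om := by
    intro φ x hx
    have : Om ≤ Om.comap φ.toMonoidHom := by
      rw [hOm, closure_le]
      intro g hg
      refine subset_closure ?_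
      change (φ g) ^ 3 = 1
      rw [← map_pow, show g ^ 3 = 1 from hg, map_one]
    exact this hx
  have BO : B ≤ Om := fun b hb => subset_closure (hB.2 b hb)
  by_cases hO : Om = ⊤
  swap
  · exact .inl ⟨Om, chO, ⟨B, BO, hB, hB27⟩, .inr hO⟩
  by_cases h2 : Subgroup.upperCentralSeries H 2 = ⊤
  · refine .inl ⟨Om, chO, ⟨B, BO, hB, hB27⟩, .inl fun f hf => ?_⟩
    induction hf using closure_induction with
    | mem x hx => exact hx
    | one => simp
    | mul x y _ _ hx hy => rw [cube' (h2 ▸ mem_top x) hy, hx]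
    | inv x _ hx => rw [inv_pow, hx, inv_one]
  have := hH.isNilpotent
  obtain ⟨g, hg3, hg2⟩ : ∃ g ∈ Subgroup.upperCentralSeries H 3, g ∉ Subgroup.upperCentralSeries H 2 := by
    by_contra c
    push Not at c
    exact h2 (Subgroup.upperCentralSeries.eq_top (show 2 ≠ 3 by norm_num)
      (le_antisymm (Subgroup.upperCentralSeries_mono H (by norm_num)) c))
  obtain ⟨b, hb3, hb⟩ : ∃ b : H, b ^ 3 = 1 ∧ ⁅g, b⁆ ∉ center H := by
    by_contra c
    push Not at c
    refine hg2 (mem_Z2.2 fun y => ?_)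
    have hy : y ∈ Om := hO ▸ mem_top y
    induction hy using closure_induction with
    | mem x hx => exact c x hx
    | one => simp
    | mul x y _ _ hx hy =>
      have e : ⁅g, x * y⁆ = ⁅g, x⁆ * (x * ⁅g, y⁆ * x⁻¹) := by
        simp only [commutatorElement_def]; group
      rw [e]; exact mul_mem hx ((inferInstance : (center H).Normal).conj_mem _ hy x)
    | inv x _ hx =>
      have e : ⁅g, x⁻¹⁆ = x⁻¹ * ⁅g, x⁆⁻¹ * x⁻¹⁻¹ := by
        simp only [commutatorElement_def]; group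
      rw [e]; exact (inferInstance : (center H).Normal).conj_mem _ (inv_mem hx) _
  have hd2 : ⁅g, b⁆ ∈ Subgroup.upperCentralSeries H 2 := Subgroup.mem_upperCentralSeries_succ_iff.1 hg3 b
  have hd3 : ⁅g, b⁆ ^ 3 = 1 := by
    rw [← cube' hd2 hb3, show ⁅g, b⁆ * b = g * b * g⁻¹ by rw [commutatorElement_def]; group,
      conj_pow, hb3]
    group
  have hdc : ⁅g, b⁆ ∈ centralizer (Subgroup.upperCentralSeries H 2 : Set H) := by
    rw [mem_centralizer_iff]
    intro w hw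
    have c1 := mem_center_iff.1 (mem_Z2.1 hw g)
    have c2 := mem_center_iff.1 (mem_Z2.1 hw b)
    have e1 : w * g * w⁻¹ = ⁅w, g⁆ * g := by rw [commutatorElement_def]; group
    have e2 : w * b * w⁻¹ = ⁅w, b⁆ * b := by rw [commutatorElement_def]; group
    generalize ⁅w, g⁆ = p at c1 e1
    generalize ⁅w, b⁆ = q at c2 e2
    have e3 : w * ⁅g, b⁆ * w⁻¹ = ⁅g, b⁆ := by
      calc w * ⁅g, b⁆ * w⁻¹ = (w * g * w⁻¹) * (w * b * w⁻¹) * (w * g * w⁻¹)⁻¹ * (w * b * w⁻¹)⁻¹ := by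
            rw [commutatorElement_def]; group
        _ = p * (g * (q * b) * g⁻¹) * p⁻¹ * b⁻¹ * q⁻¹ := by rw [e1, e2]; group
        _ = (g * q) * b * g⁻¹ * b⁻¹ * q⁻¹ := by rw [← c1]; group
        _ = q * ⁅g, b⁆ * q⁻¹ := by rw [c2, commutatorElement_def]; group
        _ = ⁅g, b⁆ := by rw [← c2]; group
    rw [← e3, mul_assoc _ w⁻¹, inv_mul_cancel, mul_one, e3]
  set A : Subgroup H := Subgroup.upperCentralSeries H 2 ⊓ centralizer (Subgroup.upperCentralSeries H 2 : Set H)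
    with hA
  have cA : ∀ x ∈ A, ∀ y ∈ A, Commute x y := fun x hx y hy => mem_centralizer_iff.1 hy.2 x hx.1
  let D : Subgroup H :=
    { carrier := {x | x ∈ A ∧ x ^ 3 = 1}
      one_mem' := ⟨one_mem _, by simp⟩
      mul_mem' := fun {x y} hx hy => ⟨mul_mem hx.1 hy.1, by
        rw [(cA x hx.1 y hy.1).mul_pow, hx.2, hy.2, one_mul]⟩
      inv_mem' := fun {x} hx => ⟨inv_mem hx.1, by rw [inv_pow, hx.2, inv_one]⟩ }
  have chD : Ch D := fun φ x hx => ⟨ch_of A φ x hx.1, by rw [← map_pow, hx.2, map_one]⟩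
  have eaD : IsElementaryAbelian 3 D :=
    ⟨⟨⟨fun x y => Subtype.ext (cA x x.2.1 y y.2.1).eq⟩⟩, fun x hx => hx.2⟩
  have pD : IsPGroup 3 D := hH.to_subgroup D
  have dD : ⁅g, b⁆ ∈ D := ⟨⟨hd2, hdc⟩, hd3⟩
  have : Nontrivial H := ⟨⟨⁅g, b⁆, 1, fun e => hb (e ▸ one_mem _)⟩⟩
  have hz := hH.center_nontrivial
  obtain ⟨k, hk⟩ := (hH.to_subgroup (center H)).exists_card_eq
  have k0 : k ≠ 0 := by
    rintro rfl
    have := Finite.one_lt_card (α := center H)
    omega
  obtain ⟨⟨z, zc⟩, hz3⟩ := exists_prime_orderOf_dvd_card' (G := center H) 3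
    (hk ▸ dvd_pow_self 3 k0)
  have z3 : orderOf z = 3 := by rw [← hz3]; exact orderOf_coe (⟨z, zc⟩ : center H)
  have zD : z ∈ D := by
    refine ⟨⟨mem_Z2.2 fun y => ?_, center_le_centralizer _ zc⟩, z3 ▸ pow_orderOf_eq_one z⟩
    rw [commutatorElement_eq_one_iff_mul_comm.2 (mem_center_iff.1 zc y).symm]
    exact one_mem _
  have hzl : zpowers z ≤ D ⊓ center H := zpowers_le.2 ⟨zD, zc⟩
  have h1 := card_step pD (inf_le_left : D ⊓ center H ≤ D) dD fun h => hb h.2
  have h3 := card_le_of_le hzl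
  rw [Nat.card_zpowers, z3] at h3
  by_cases h27 : 27 ≤ Nat.card D
  · exact .inl ⟨D, chD, ⟨D, le_rfl, eaD, h27⟩, .inl fun f hf => hf.2⟩
  obtain ⟨j, hj⟩ := pD.exists_card_eq
  have j2 : j ≤ 2 := by
    by_contra c
    exact h27 (hj ▸ Nat.pow_le_pow_right (show 0 < 3 by norm_num) (show 3 ≤ j by omega))
  have h9 : Nat.card D ≤ 9 := hj ▸ Nat.pow_le_pow_right (show 0 < 3 by norm_num) j2
  refine .inr ⟨D, chD, eaD, by omega, z, zD, fun e => by simp [e] at z3, ?_⟩
  rw [eq_of_le_of_card_ge hzl (by rw [Nat.card_zpowers, z3]; omega)]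
  exact fun φ x hx => ⟨chD φ x hx.1, ch_of (center H) φ x hx.2⟩

end pure

variable {G : Type u} [Group G]

theorem ea_map {F : Subgroup G} {B : Subgroup F} (h : IsElementaryAbelian 3 B) :
    IsElementaryAbelian 3 (B.map F.subtype) := by
  refine ⟨⟨⟨fun x y => Subtype.ext ?_⟩⟩, ?_⟩
  · obtain ⟨a, ha, e⟩ := x.2
    obtain ⟨b, hb, e'⟩ := y.2
    change (x : G) * y = y * x
    rw [← e, ← e']
    exact congrArg (fun t : B => ((t : F) : G)) (h.1.1.1 ⟨a, ha⟩ ⟨b, hb⟩)
  · rintro _ ⟨a, ha, rfl⟩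
    exact congrArg Subtype.val (h.2 a ha)

theorem nor [Finite G] (kk : KK.{u}) {T Q₀ F : Subgroup G} (h : Kq T Q₀ F) {X : Subgroup F}
    (hX : Ch X) : T ≤ No (Q₀ ⊔ X.map F.subtype) := by
  intro t ht
  obtain ⟨φ, hφ⟩ := (kk G T Q₀ F h).2.2.2.2.2.2 t ht
  refine mem_normalizer_of_cj_le ?_
  rw [cj_sup, cj_eq_self (h.TQ ht)]
  refine sup_le le_sup_left ?_
  rintro _ ⟨_, ⟨f, hf, rfl⟩, rfl⟩
  have e : (MulAut.conj t).toMonoidHom (F.subtype f) =
      (φ f : G) * (((φ f : F) : G)⁻¹ * (t * f * t⁻¹)) := by simp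
  rw [e]
  exact mul_mem (mem_sup_right ⟨φ f, hX φ f hf, rfl⟩) (mem_sup_left (hφ f))

theorem jobXP : JobXP.{u} := by
  intro kk nl G _ _ M Q T R Q₀ F y t h
  induction hn : Nat.card F using Nat.strong_induction_on generalizing F with
  | _ n ih =>
  have h27 : E27 (⊤ : Subgroup F) := by
    obtain ⟨B, hBF, hB, hc⟩ := h.e27
    refine ⟨B.subgroupOf F, le_top, ⟨⟨⟨fun x y => Subtype.ext (Subtype.ext ?_)⟩⟩,
      fun a ha => Subtype.ext (hB.2 a ha)⟩, ?_⟩
    · exact congrArg (fun t : B => (t : G)) (hB.1.1.1 ⟨x.1, x.2⟩ ⟨y.1, y.2⟩)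
    · rwa [Nat.card_congr (subgroupOfEquivOfLe hBF).toEquiv]
  rcases pure h.kq.F3 h27 with ⟨X, chX, ⟨B, BX, hB, hc⟩, hX⟩ | ⟨U, chU, eaU, cU, x, xU, x1, chx⟩
  · have XF : X.map F.subtype ≤ F := map_subtype_le X
    have hS : Sb M Q T R Q₀ (X.map F.subtype) y t :=
      { h.toCt with
        QQ := h.QQ
        kq := ⟨h.kq.T2, h.kq.F3.to_le XF, h.kq.le, h.kq.TQ, XF.trans h.kq.FQ, nor kk h.kq chX⟩
        FM := XF.trans h.FM
        e27 := ⟨B.map F.subtype, map_mono BX, ea_map hB, by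
          rwa [card_map_of_injective F.subtype_injective]⟩ }
    rcases hX with hX | hX
    · refine ⟨_, hS, ?_⟩
      rintro _ ⟨a, ha, rfl⟩
      exact congrArg Subtype.val (hX a ha)
    · refine ih _ ?_ _ hS rfl
      rw [← hn, card_map_of_injective F.subtype_injective]
      exact lt_of_le_of_ne (card_le_card_group X) fun e => hX (eq_top_of_card_eq X e)
  · refine (nl G M Q T R Q₀ F (U.map F.subtype) y t x h (map_subtype_le U) (ea_map eaU)
      (by rwa [card_map_of_injective F.subtype_injective]) (nor kk h.kq chU) ⟨x, xU, rfl⟩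
      (fun e => x1 (Subtype.ext e)) ?_).elim
    have := nor kk h.kq chx
    rwa [MonoidHom.map_zpowers] at this

end H34.U2XP
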