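import Cfsg.Agent.H34.WuZa

/-! Tower WU (S4793), slot E3: a character of `SU₃` proportional to `ω` on the Borel subgroup. -/

set_option autoImplicit false
set_option linter.unusedSectionVars false

namespace H34.WuA

open Cfsg H28 H59 Module Finset H53.WU
open scoped ComplexConjugate

variable {S : HS}

theorem zt_of_ker (h : Odd S.n) {x : S.V ≃ₗ[S.F] S.V} (hx : ∀ v, x v = v → v = 0) : S.zt x = -1 := by
  have : LinearMap.ker ((x : End S.F S.V) - 1) = ⊥ :=
    LinearMap.ker_eq_bot'.2 fun v hv => hx v (sub_eq_zero.1 hv)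
  rw [HS.zt, this, finrank_bot, h.neg_one_pow]; ring

theorem om_eq [Fintype S.μ] (g : S.G) :
    ((S.q : ℂ) + 1) * S.ω g = ∑ c : S.μ, S.zt (scalarEquiv S.V c.1 * g.1) := by
  rw [HS.ω, HS.za, finsum_eq_sum_of_fintype, ← mul_assoc, mul_inv_cancel₀ (q1_ne S), one_mul]
  simp

theorem av_om (h3 : S.n = 3) {e : S.V} (he : S.Iso e) : av (S.Zs e) S.ω = 0 := by
  classical
  have od : Odd S.n := by rw [h3]; decide
  let _ := Fintype.ofFinite S.μ
  let _ := Fintype.ofFinite (S.Zs e)
  have cμ : (Fintype.card S.μ : ℂ) = S.q + 1 := by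
    rw [← Nat.card_eq_fintype_card, S.card_μ]; push_cast; rfl
  have cZ : (Fintype.card (S.Zs e) : ℂ) = S.q := by rw [← Nat.card_eq_fintype_card, HS.card_Zs he]
  have h1 : ∀ t : S.Zs e, ((S.q : ℂ) + 1) * S.ω t = S.zt t.1.1 - S.q := fun t => by
    obtain ⟨-, a, ha⟩ := mem_axisGrp'.1 t.2
    rw [om_eq, ← add_sum_erase _ _ (mem_univ 1), sum_congr rfl (g := fun _ => (-1 : ℂ)) fun c hc =>
      zt_of_ker od fun v hv => ?_]
    · rw [sum_const, card_erase_of_mem (mem_univ _), card_univ, nsmul_eq_mul,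
        Nat.cast_sub Fintype.card_pos, cμ]
      simp only [OneMemClass.coe_one, map_one, one_mul]
      push_cast; ring
    · have c1 : (c.1 : S.F) - 1 ≠ 0 := fun e =>
        (mem_erase.1 hc).1 (Subtype.ext (Units.ext (sub_eq_zero.1 e)))
      have hv' : (c.1 : S.F) • (v + (a * S.B e v) • e) = v := by rw [← ha]; exact hv
      have h2 := congrArg (S.B e) hv'
      rw [map_smul, map_add, map_smul, he.2, smul_zero, add_zero, smul_eq_mul] at h2
      have h4 : S.B e v = 0 := (mul_eq_zero.1 (by linear_combination h2)).resolve_left c1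
      rw [h4, mul_zero, zero_smul, add_zero] at hv'
      exact (smul_eq_zero.1 (by rw [sub_smul, hv', one_smul, sub_self])).resolve_left c1
  have h2 : ∀ t : S.Zs e, t ≠ 1 → S.zt t.1.1 = -(S.q : ℂ) ^ 2 := fun t ht => by
    obtain ⟨-, a, ha⟩ := mem_axisGrp'.1 (HS.mem_Zs.1 t.2)
    have a0 : a ≠ 0 := fun e => ht (Subtype.ext (Subtype.ext (LinearEquiv.ext fun v => by
      rw [ha, e]; simp)))
    have hk : LinearMap.ker ((t.1.1 : End S.F S.V) - 1) = perp S.B (Submodule.span S.F {e}) := by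
      ext v
      rw [mem_perp_singleton, LinearMap.mem_ker]
      change t.1.1 v - v = 0 ↔ _
      rw [ha, add_sub_cancel_left, smul_eq_zero, mul_eq_zero]
      simp [a0, he.1]
    have hd := S.h.finrank_add_finrank_perp (Submodule.span S.F {e})
    rw [finrank_span_singleton he.1] at hd
    have hd' : finrank S.F (perp S.B (Submodule.span S.F {e})) = 2 := by
      change _ = S.n at hd; omega
    rw [HS.zt, hk, hd', h3]; ring
  rw [av_eq_zero, finsum_eq_sum_of_fintype]
  refine mul_left_cancel₀ (q1_ne S) ?_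
  rw [mul_sum, sum_congr rfl fun t _ => h1 t, sum_sub_distrib, ← add_sum_erase _ _ (mem_univ 1),
    sum_congr rfl fun t ht => h2 t (mem_erase.1 ht).1, sum_const, sum_const,
    card_erase_of_mem (mem_univ _), card_univ, nsmul_eq_mul, nsmul_eq_mul,
    Nat.cast_sub Fintype.card_pos, cZ]
  simp only [OneMemClass.coe_one, zt_one od, h3]
  push_cast; ring

open Classical in
theorem zt_aniso [Fintype S.V] (od : Odd S.n) {x : S.V ≃ₗ[S.F] S.V}
    (hx : ∀ e, S.Iso e → x e ≠ e) :
    S.zt x + 1 = ∑ v ∈ univ.filter fun v => S.B v v = 1, if x v = v then (1 : ℂ) else 0 := by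
  set K := LinearMap.ker ((x : End S.F S.V) - 1) with hK
  have mK : ∀ v, v ∈ K ↔ x v = v := fun v => sub_eq_zero (a := x v)
  rw [sum_boole, filter_filter]
  by_cases h0 : K = ⊥
  · rw [zt_of_ker od fun v hv => (Submodule.mem_bot _).1 (h0 ▸ (mK v).2 hv), filter_eq_empty_iff.2]
    · simp
    · rintro v - ⟨h1, h2⟩
      have h3 : v = 0 := (Submodule.mem_bot _).1 (h0 ▸ (mK v).2 h2)
      rw [h3, map_zero] at h1
      exact zero_ne_one h1
  · have d1 : finrank S.F K = 1 := by
      have : ¬ 2 ≤ finrank S.F K := fun h => by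
        obtain ⟨e, he, e0, ee⟩ := S.h.exists_isotropic_mem h
        exact hx e ⟨e0, ee⟩ ((mK e).1 he)
      have := mt Submodule.finrank_eq_zero.1 h0
      omega
    obtain ⟨p0, hp0, p00⟩ := Submodule.exists_mem_ne_zero_of_ne_bot h0
    obtain ⟨a, ha⟩ := S.h.exists_smul_norm_eq (v := p0)
      (fun h => hx p0 ⟨p00, h⟩ ((mK _).1 hp0)) (map_one _)
    have hp : a • p0 ∈ K := K.smul_mem a hp0
    set p := a • p0
    have pn : p ≠ 0 := fun e => by rw [e, map_zero] at ha; exact zero_ne_one ha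
    have sp : ∀ v ∈ K, ∃ c : S.F, c • p = v := fun v hv => by
      obtain ⟨c, hc⟩ := (finrank_eq_one_iff_of_nonzero' (⟨p, hp⟩ : K)
        (fun e => pn (congrArg Subtype.val e))).1 d1 ⟨v, hv⟩
      exact ⟨c, congrArg Subtype.val hc⟩
    have nm : ∀ c : S.F, S.B (c • p) (c • p) = c ^ (S.q + 1) := fun c => by
      rw [form_smul_left, form_smul_right, ha, mul_one, frob_apply, pow_succ]
    have hc : (univ.filter fun v => S.B v v = 1 ∧ x v = v).card = S.q + 1 := by
      rw [← card_norm_one S.hF, Nat.subtype_card (univ.filter fun c : S.F => c ^ (S.q + 1) = 1)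
        (by simp)]
      refine (card_bij (fun c _ => c • p) (fun c hc => ?_) (fun c _ d _ e => ?_) fun v hv => ?_).symm
      · exact mem_filter.2 ⟨mem_univ _, (nm c).trans (mem_filter.1 hc).2, (mK _).1 (K.smul_mem c hp)⟩
      · exact smul_left_injective S.F pn e
      · obtain ⟨c, rfl⟩ := sp v ((mK v).2 (mem_filter.1 hv).2.2)
        exact ⟨c, mem_filter.2 ⟨mem_univ _, (nm c).symm.trans (mem_filter.1 hv).2.1⟩, rfl⟩
    rw [hc, HS.zt, ← hK, d1, od.neg_one_pow]
    push_cast; ring

open Classical in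
theorem om_aniso [Fintype S.V] (od : Odd S.n) {g : S.G} (hg : ∀ e, S.Iso e → g ∉ S.Ps e) :
    ((S.q : ℂ) + 1) * (S.ω g + 1) =
      ∑ v ∈ univ.filter fun v => S.B v v = 1, if g ∈ S.Ps v then (1 : ℂ) else 0 := by
  let _ := Fintype.ofFinite S.μ
  have cμ : (Fintype.card S.μ : ℂ) = S.q + 1 := by
    rw [← Nat.card_eq_fintype_card, S.card_μ]; push_cast; rfl
  have ps : ∀ (c : S.μ) (v : S.V), (scalarEquiv S.V c.1 * g.1) v = v → g ∈ S.Ps v := fun c v h =>
    ⟨c.1⁻¹, by
      have h' : (c.1 : S.F) • g.1 v = v := h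
      conv_rhs => rw [← h']
      rw [smul_smul, Units.inv_mul, one_smul]⟩
  have h1 : ((S.q : ℂ) + 1) * (S.ω g + 1) =
      ∑ c : S.μ, (S.zt (scalarEquiv S.V c.1 * g.1) + 1) := by
    rw [mul_add, om_eq, sum_add_distrib, sum_const, card_univ, nsmul_eq_mul, cμ]
  rw [h1, sum_congr rfl fun c _ => zt_aniso od fun e he h => hg e he (ps c e h), sum_comm]
  refine sum_congr rfl fun v hv => ?_
  have v1 := (mem_filter.1 hv).2
  have v0 : v ≠ 0 := fun e => by rw [e, map_zero] at v1; exact zero_ne_one v1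
  split_ifs with h
  · obtain ⟨a, ha⟩ := h
    have hn : a ∈ S.μ := (mem_normOne' S.hF).2 (by
      have := mem_isom.1 g.2.1 v v
      rwa [ha, form_smul_left, form_smul_right, v1, mul_one] at this)
    rw [sum_eq_single (⟨a, hn⟩ : S.μ)⁻¹ (fun c _ hc => if_neg fun h => hc ?_) (by simp), if_pos]
    · change ((a⁻¹ : S.Fˣ) : S.F) • g.1 v = v
      rw [ha, smul_smul, Units.inv_mul, one_smul]
    · have h' : (c.1 : S.F) • g.1 v = v := h
      rw [ha, smul_smul] at h'
      have : (c.1 : S.F) * a = 1 := smul_left_injective S.F v0 (h'.trans (one_smul _ _).symm)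
      exact eq_inv_of_mul_eq_one_left (Subtype.ext (Units.ext this))
  · exact sum_eq_zero fun c _ => if_neg fun h' => h (ps c v h')

theorem jobE3 (za : JobZa) : JobE3 := by
  classical
  intro S e hS h3 he χ b hχ hP
  let _ := Fintype.ofFinite S.G
  let _ := Fintype.ofFinite S.V
  have iω : IsIrrCharacter S.G S.ω := (za S hS).1 1
  have d0 : ∀ e', S.Iso e' → ∀ g ∈ S.Ps e', χ g = b * S.ω g := fun e' he' g ⟨a, ha⟩ => by
    obtain ⟨h, hh⟩ := HS.trans hS.2.1 he' he
    rw [← hχ.isCharacter.isClassFunction g h, ← iω.isCharacter.isClassFunction g h]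
    refine hP _ ⟨a, ?_⟩
    change h.1 (g.1 (h.1.symm e)) = _
    rw [← hh, LinearEquiv.symm_apply_apply, ha, map_smul]
  have zχ : ∀ e', S.Iso e' → av (S.Zs e') χ = 0 := fun e' he' => by
    have := av_om h3 he'
    let _ := Fintype.ofFinite (S.Zs e')
    rw [av_eq_zero, finsum_eq_sum_of_fintype] at this ⊢
    rw [sum_congr rfl fun t _ => d0 e' he' t.1 (HS.Rs_le_Ps _ (HS.Qs_le_Rs _ (HS.Zs_le_Qs he' t.2))),
      ← mul_sum, this, mul_zero]
  have key : ∀ θ : S.G → ℂ, IsCharacter S.G θ → (∀ e', S.Iso e' → av (S.Zs e') θ = 0) →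
      ∑ g, θ g * ((∑ v ∈ univ.filter fun v => S.B v v = 1, if g ∈ S.Ps v then (1 : ℂ) else 0) -
        (S.q + 1)) = 0 := fun θ hθ h0 => by
    have sub : ∀ H : Subgroup S.G, av H θ = 0 → ∑ g, θ g * (if g ∈ H then (1 : ℂ) else 0) = 0 :=
      fun H hH => by
        rw [av_eq_zero, finsum_eq_sum_of_fintype] at hH
        simp only [mul_ite, mul_one, mul_zero]
        rw [← sum_filter, sum_subtype (p := (· ∈ H)) _ (by simp), hH]
    have t0 := sub ⊤ (av_mono hθ le_top (h0 e he))
    simp only [Subgroup.mem_top, if_true, mul_one] at t0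
    simp only [mul_sub, sum_sub_distrib, ← sum_mul, t0, zero_mul, sub_zero, mul_sum]
    rw [sum_comm]
    refine sum_eq_zero fun v hv => ?_
    have v1 := (mem_filter.1 hv).2
    have v0 : v ≠ 0 := fun e => by rw [e, map_zero] at v1; exact zero_ne_one v1
    have hd := S.h.finrank_add_finrank_perp (Submodule.span S.F {v})
    rw [finrank_span_singleton v0] at hd
    obtain ⟨e', h1, h2⟩ := S.h.exists_isotropic_mem (W := perp S.B (Submodule.span S.F {v}))
      (by change _ = S.n at hd; omega)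
    exact sub _ (av_mono hθ (fun t ht => HS.Rs_le_Ps _ (axisGrp_apply_of_perp ht
      (S.h.eq_zero_comm.1 (mem_perp_singleton.1 h1)))) (h0 e' h2))
  have fin : ∑ g, (χ g - b * S.ω g) * conj (S.ω g) = 0 := by
    refine mul_left_cancel₀ (q1_ne S) ?_
    have k1 := key χ hχ.isCharacter zχ
    have k2 := key _ iω.isCharacter fun e' he' => av_om h3 he'
    rw [mul_zero, mul_sum, ← sub_eq_zero.2 (k1.trans (mul_eq_zero_of_right b k2).symm), mul_sum,
      ← sum_sub_distrib]
    refine sum_congr rfl fun g _ => ?_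
    by_cases hg : ∃ e', S.Iso e' ∧ g ∈ S.Ps e'
    · obtain ⟨e', he', hg⟩ := hg
      rw [d0 e' he' g hg]; ring
    · have h1 := om_aniso hS.1 fun e' he' h => hg ⟨e', he', h⟩
      have h2 := congrArg conj h1
      simp only [map_mul, map_add, map_natCast, map_one, map_sum, apply_ite conj, map_zero] at h2
      rw [← h2]; ring
  refine hχ.eq_of_classInner_ne_zero iω fun h0 => hχ.apply_one_ne_zero ?_
  have h1 := card_mul_classInner χ S.ω
  have h2 := card_mul_classInner S.ω S.ω
  rw [iω.classInner_self, mul_one] at h2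
  rw [h0, mul_zero] at h1
  simp only [sub_mul, sum_sub_distrib, mul_assoc, ← mul_sum, ← h1, ← h2, zero_sub, neg_eq_zero] at fin
  rw [hP 1 (one_mem _), (mul_eq_zero.1 fin).resolve_right (card_ne_zero' S.G), zero_mul]

end H34.WuA
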