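import Cfsg.Agent.H53.WUKit
import Cfsg.Agent.H28.CharProd

/-! Tower WU (S4793), slot Za: the Weil characters of `SU`. -/

set_option autoImplicit false
set_option linter.unusedSectionVars false

namespace H34.WuA

open Cfsg H28 H59 Module Finset H53.WU
open scoped ComplexConjugate

theorem isChar_part {G M : Type} [Group G] [Group M] [Finite G] [Fintype M] {θ : G × M → ℂ}
    (h : IsCharacter (G × M) θ) (a : M →* ℂˣ) :
    IsCharacter G fun g => (Nat.card M : ℂ)⁻¹ * ∑ c, θ (g, c) * (a c⁻¹ : ℂˣ) := by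
  refine h.induction (P := fun θ => IsCharacter G fun g =>
    (Nat.card M : ℂ)⁻¹ * ∑ c, θ (g, c) * (a c⁻¹ : ℂˣ)) ?_ fun φ θ hφ _ ih => ?_
  · simp only [Pi.zero_apply, zero_mul, sum_const_zero, mul_zero]
    exact isCharacter_zero
  · obtain ⟨φ₁, ψ, h1, h2, rfl⟩ := hφ.exists_prod
    obtain ⟨n, hn⟩ := h2.isCharacter.classInner_nat (isCharacter_of_hom a)
    rw [classInner_eq_sum_inv _ (isCharacter_of_hom a)] at hn
    convert (h1.isCharacter.natCast_smul n).add ih using 1
    ext g
    simp only [Pi.add_apply, add_mul, sum_add_distrib, mul_add, Pi.smul_apply, smul_eq_mul, ← hn,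
      mul_assoc, ← mul_sum]
    ring

open Classical in
theorem sum_dual {M : Type} [CommGroup M] [Finite M] [Fintype (M →* ℂˣ)] (c : M) :
    ∑ a : M →* ℂˣ, ((a c : ℂˣ) : ℂ) = if c = 1 then (Nat.card (M →* ℂˣ) : ℂ) else 0 := by
  split_ifs with h
  · simp [h]
  · obtain ⟨a, ha⟩ := CommGroup.exists_apply_ne_one_of_hasEnoughRootsOfUnity M ℂ h
    exact sum_hom_units_eq_zero ((Units.coeHom ℂ).comp (MonoidHom.eval c)) fun e =>
      ha (Units.ext (DFunLike.congr_fun e a))

variable {S : HS}

/-- `G × μ → Γ` -/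
noncomputable def mm (S : HS) : S.G × S.μ →* S.Γ where
  toFun x := ⟨scalarEquiv S.V x.2.1 * x.1.1, mul_mem (HS.sc_mem x.2) (sisom_le_isom x.1.2)⟩
  map_one' := Subtype.ext (by simp)
  map_mul' x y := Subtype.ext (LinearEquiv.ext fun v => by
    simp [scalarEquiv_apply])

theorem zt_one (h : Odd S.n) : S.zt 1 = S.q ^ S.n := by
  have : ((1 : S.V ≃ₗ[S.F] S.V) : End S.F S.V) - 1 = 0 := sub_self _
  rw [HS.zt, this, LinearMap.ker_zero, finrank_top, h.neg_pow, h.neg_pow]; ring

theorem zt_sc (h : Odd S.n) {c : S.Fˣ} (hc : c ≠ 1) : S.zt (scalarEquiv S.V c) = -1 := by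
  have : LinearMap.ker ((scalarEquiv S.V c : End S.F S.V) - 1) = ⊥ :=
    LinearMap.ker_eq_bot'.2 fun v hv => by
      have h1 : ((c : S.F) - 1) • v = 0 := by rw [sub_smul, one_smul]; exact hv
      exact (smul_eq_zero.1 h1).resolve_left fun e => hc (Units.ext (sub_eq_zero.1 e))
  rw [HS.zt, this, finrank_bot, h.neg_one_pow]; ring

theorem q1_ne (S : HS) : (S.q : ℂ) + 1 ≠ 0 := by exact_mod_cast S.q.succ_ne_zero

theorem zt_sq (g : S.G) : S.zt g * conj (S.zt g) = Nat.card (MulAction.fixedBy S.V g) := by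
  have : Nat.card (MulAction.fixedBy S.V g) =
      Nat.card (LinearMap.ker ((g.1 : End S.F S.V) - 1)) :=
    Nat.card_congr (Equiv.subtypeEquivRight fun v => (sub_eq_zero (a := g.1 v)).symm)
  rw [this, S.card_V, HS.zt]
  simp only [map_mul, map_pow, map_neg, map_one, map_natCast]
  push_cast
  rw [mul_mul_mul_comm, ← mul_pow, ← mul_pow, pow_mul]
  simp [pow_two]

theorem card_orbits (h : 3 ≤ S.n) :
    Nat.card (Quotient (MulAction.orbitRel S.G S.V)) ≤ S.q + 1 := by
  classical
  let f : S.V → Option {x : S.F // x ^ S.q = x} := fun v =>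
    if v = 0 then none else some ⟨S.B v v, S.h.self_fixed v⟩
  have hf : ∀ u w, f u = f w → MulAction.orbitRel S.G S.V w u := fun u w e => by
    by_cases hu : u = 0 <;> by_cases hw : w = 0
    · rw [hu, hw]
    · simp [f, hu, hw] at e
    · simp [f, hu, hw] at e
    · obtain ⟨g, hg, e1⟩ := S.h.witt_one hu hw (by
        simp only [f, hu, hw, if_false, Option.some.injEq] at e
        exact congrArg Subtype.val e)
      obtain ⟨p, hp, p0⟩ := S.h.exists_self_ne_zero_perp_of_lt (W := Submodule.span S.F {u})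
        (by rw [finrank_span_singleton hu]; exact h)
      obtain ⟨g', hg', e2⟩ := S.h.exists_sisom_eq hg p0
      exact ⟨⟨g', hg'⟩, (e2 u (S.h.eq_zero_comm.1 (mem_perp_singleton.1 hp))).trans e1⟩
  have := Nat.card_le_card_of_injective (fun ω : Quotient (MulAction.orbitRel S.G S.V) => f ω.out)
    fun a b e => by rw [← a.out_eq, ← b.out_eq]; exact (Quotient.sound (hf _ _ e)).symm
  rwa [Finite.card_option, card_fixed S.hF] at this

theorem jobZa (z : JobZ) : JobZa := by
  classical
  rintro S ⟨od, h3, -⟩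
  let _ := Fintype.ofFinite S.μ
  let _ := Fintype.ofFinite (S.μ →* ℂˣ)
  let _ := Fintype.ofFinite S.G
  have cμ : (Nat.card S.μ : ℂ) = S.q + 1 := by rw [S.card_μ]; push_cast; rfl
  have zd : ∀ a g, S.za a g =
      ((S.q : ℂ) + 1)⁻¹ * ∑ c : S.μ, ((a c⁻¹ : ℂˣ) : ℂ) * S.zt (scalarEquiv S.V c.1 * g.1) :=
    fun a g => by rw [HS.za, finsum_eq_sum_of_fintype]
  have ch : ∀ a, IsCharacter S.G (S.za a) := fun a => by
    convert isChar_part ((z S).comp (mm S)) a using 1
    ext g
    rw [zd, cμ]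
    exact congrArg _ (sum_congr rfl fun c _ => mul_comm _ _)
  have sm : ∀ g : S.G, ∑ a, S.za a g = S.zt g := fun g => by
    simp only [zd, ← mul_sum]
    rw [sum_comm]
    simp only [← sum_mul, sum_dual, inv_eq_one, ite_mul, zero_mul, sum_ite_eq', mem_univ, if_true,
      S.card_dual]
    push_cast
    rw [← mul_assoc, inv_mul_cancel₀ (q1_ne S)]
    simp
  have dg : ∀ a, S.za a 1 * (S.q + 1) = S.q ^ S.n + 1 - ∑ c : S.μ, ((a c⁻¹ : ℂˣ) : ℂ) := fun a => by
    rw [zd, mul_comm, ← mul_assoc, mul_inv_cancel₀ (q1_ne S), one_mul,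
      ← add_sum_erase _ _ (mem_univ 1), ← add_sum_erase _ _ (mem_univ (1 : S.μ)),
      sum_congr rfl (g := fun c => -((a c⁻¹ : ℂˣ) : ℂ)) fun c hc => by
        rw [OneMemClass.coe_one, mul_one, zt_sc od fun e => (mem_erase.1 hc).1 (Subtype.ext e)]
        ring, sum_neg_distrib]
    simp [zt_one od]
    ring
  have d1 : S.ω 1 * (S.q + 1) = S.q ^ S.n - S.q := by
    rw [dg]
    simp only [MonoidHom.one_apply, Units.val_one, sum_const, card_univ, nsmul_eq_mul, mul_one,
      ← Nat.card_eq_fintype_card, cμ]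
    ring
  have d2 : ∀ a, a ≠ 1 → S.za a 1 * (S.q + 1) = S.q ^ S.n + 1 := fun a ha => by
    have := sum_hom_units_eq_zero ((Units.coeHom ℂ).comp a⁻¹) fun e => ha (inv_eq_one.1
      (MonoidHom.ext fun c => Units.ext (DFunLike.congr_fun e c)))
    rw [dg, sub_eq_self, ← this]
    exact sum_congr rfl fun c _ => by rw [map_inv]; rfl
  have n0 : ∀ a, S.za a ≠ 0 := fun a e => by
    by_cases ha : a = 1
    · subst ha
      rw [show S.ω = 0 from e, Pi.zero_apply, zero_mul, eq_comm, sub_eq_zero] at d1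
      have h1 : S.q ^ S.n = S.q ^ 1 := by rw [pow_one]; exact_mod_cast d1
      have := Nat.pow_right_injective S.two_le_q h1
      omega
    · have := d2 a ha
      rw [e, Pi.zero_apply, zero_mul] at this
      exact (S.q ^ S.n).succ_ne_zero (by exact_mod_cast this.symm)
  choose m hm using fun a b => (ch a).classInner_nat (ch b)
  have tot : ∑ a, ∑ b, m a b ≤ ∑ _a : S.μ →* ℂˣ, 1 := by
    have h1 : classInner (∑ a, S.za a) (∑ a, S.za a) =
        Nat.card (Quotient (MulAction.orbitRel S.G S.V)) := by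
      let _ := Fintype.ofFinite (Quotient (MulAction.orbitRel S.G S.V))
      let _ : ∀ g : S.G, Fintype (MulAction.fixedBy S.V g) := fun _ => Fintype.ofFinite _
      have h2 := MulAction.sum_card_fixedBy_eq_card_orbits_mul_card_group S.G S.V
      simp only [← Nat.card_eq_fintype_card] at h2
      refine mul_left_cancel₀ (card_ne_zero' S.G) ?_
      rw [card_mul_classInner, mul_comm]
      simp only [Finset.sum_apply, sm, zt_sq]
      exact_mod_cast h2
    simp only [classInner_sum_left, classInner_sum_right, hm] at h1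
    rw [sum_const, card_univ, smul_eq_mul, mul_one, ← Nat.card_eq_fintype_card, S.card_dual]
    refine le_of_eq_of_le ?_ (card_orbits h3)
    rw [sum_comm]
    exact_mod_cast h1
  have pos : ∀ a, 1 ≤ m a a := fun a => Nat.one_le_iff_ne_zero.2 fun e =>
    n0 a (classInner_self_eq_zero.1 (by rw [hm, e, Nat.cast_zero]))
  have le : ∀ a, m a a ≤ ∑ b, m a b := fun a => single_le_sum (fun _ _ => zero_le) (mem_univ a)
  have row : ∀ a, 1 = ∑ b, m a b := fun a =>
    (sum_eq_sum_iff_of_le fun a _ => (pos a).trans (le a)).1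
      (le_antisymm (sum_le_sum fun a _ => (pos a).trans (le a)) tot) a (mem_univ a)
  refine ⟨fun a => (ch a).irr_of_norm_one ?_, fun a b e => ?_, d1, d2,
    fun g => by rw [finsum_eq_sum_of_fintype, sm]⟩
  · rw [hm, le_antisymm ((le a).trans (row a).ge) (pos a), Nat.cast_one]
  · by_contra hne
    have h1 : m a a + m a b ≤ ∑ b, m a b :=
      add_le_sum (fun _ _ => zero_le) (mem_univ a) (mem_univ b) hne
    have h2 : m a b = m a a := by
      have := hm a b
      rw [← e, hm] at this
      exact_mod_cast this.symm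
    have := pos a
    have := row a
    omega

end H34.WuA
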