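/- The principal `3`-block with extraspecial defect group of order `27`: assembly. -/
import Cfsg.Agent.H34.X3C
import Cfsg.Agent.S4558
import Cfsg.Agent.H28.BlkNZ
import Cfsg.Agent.H38.PrinDeg

namespace H34.X3

open Subgroup Cfsg H28 H35 H36 H41 Module Finset
open scoped ComplexConjugate

universe u

variable {G Q : Type u} [Group G] [Fintype G] [Group Q] {P : Sylow 3 G} {z : G}
  [Fintype (centralizer ({z} : Set G))] {π : centralizer ({z} : Set G) →* Q} {M : Ideal AlgInt}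
  [M.IsMaximal] {e n l k k₀ : ℕ} {c : ℤ} {g : Fin n → ℤ}

theorem top (jg : JobG.{u} n e c g l k k₀) (hM : IsPModular 3 M) (hx : X P z) (h : CE π (zc z))
    (ks : KS 3 (centralizer {z}) (principalBlock M G) (principalBlock M (centralizer {z})))
    {α : Fin n → centralizer ({z} : Set G) → ℂ} {p q : Fin l → centralizer ({z} : Set G) → ℂ}
    (d : CD M π e c g α p q) : Nat.card (principalBlock M G) = k ∧
    Nat.card {χ : IrrCharacter G // χ ∈ principalBlock M G ∧
      blockHeight 3 (principalBlock M G) χ.1 = 0} = k₀ ∧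
    blockRank 3 (principalBlock M G) + (n + 2 * l) = k := by
  have hB := isPBlock_principalBlock (G := G) (M := M)
  have hb := isPBlock_principalBlock (G := centralizer ({z} : Set G)) (M := M)
  have gd : ∀ {β}, IsGeneralizedCharacter _ β ∧ β ∈ Vb 3 _ →
    Gd (principalBlock M G) (centralizer ({z} : Set G)).subtype β := fun t => ⟨t.1, ks.res_Tf t.2⟩
  have tm : ∀ {β}, β ∈ Vb 3 (principalBlock M (centralizer ({z} : Set G))) → _ := fun t =>
    Tf_mem hM hB _ (centralizer ({z} : Set G)).subtype_injective (mem_Vb.1 t).2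
  have t0 : ∀ {β χ}, IsGeneralizedCharacter _ β →
      tv (principalBlock M G) (centralizer ({z} : Set G)).subtype β χ = 0 →
      classInner β (fun c => χ.1.1 ((centralizer ({z} : Set G)).subtype c)) = 0 :=
    fun t t' => by rw [← tv_cast _ t, t', Int.cast_zero]
  obtain ⟨u, hu, hn⟩ : ∃ u ∈ (P : Subgroup G), u ∉ zpowers z := by
    by_contra! hn
    have := card_le_of_le (show (P : Subgroup G) ≤ zpowers z from hn)
    rw [hx.card, Nat.card_zpowers, hx.ord hx.mem hx.ne] at this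
    omega
  have o1 : orderOf u = 3 := hx.ord hu fun t => hn (t ▸ one_mem _)
  have o2 : orderOf (⟨u, hx.le hu⟩ : centralizer ({z} : Set G)) = 3 := by rw [← orderOf_coe, o1]
  have o3 : orderOf (π ⟨u, hx.le hu⟩) = 3 := orderOf_eq_prime
    (by rw [← map_pow, ← o2, pow_orderOf_eq_one, map_one]) fun t => hn (by
      obtain ⟨i, hi⟩ := h.ker ▸ MonoidHom.mem_ker.2 t
      exact ⟨i, congrArg Subtype.val hi⟩)
  obtain ⟨h1, h2⟩ := jg _ (Fin l) _ _ _ _ _
    (w0_of (fun O => gd (d.gα O)) (fun O => tm (d.gα O).2) d.self d.gram d.one)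
    (Fintype.card_fin l) (d.fp.fm (fun O => gd (d.gα O)) fun j => gd (d.gp j))
    (d.fq.fm (fun O => gd (d.gα O)) fun j => gd (d.gq j))
    ⟨fun j => (gd (d.gp j)).dot (gd (d.gq j)) (by rw [d.pq]; simp),
      fun i j t => (gd (d.gp i)).dot (gd (d.gq j)) (d.pq' i j t),
      fun j => tv_dg Nat.prime_three _ (d.gp j).1 (tm (d.gp j).2),
      fun j => tv_dg Nat.prime_three _ (d.gq j).1 (tm (d.gq j).2)⟩ fun χ t => ⟨by
      have := (ks.coef hM hB hb o2.symm.dvd (mem_bF.1 χ.2)).symm.trans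
        (d.spanu _ o3.symm.dvd _ fun O => t0 (d.gα O).1 (t O))
      exact Int.natCast_dvd_natCast.2 (Agent.S4558.result 3 _ χ.1.2.isCharacter u ⟨1, o1⟩
        (by simpa using this)), by
      by_contra! t'
      have := (ks.coef hM hB hb h.ord.symm.dvd (mem_bF.1 χ.2)).symm.trans
        (d.span _ (bker_mem hM hb h.ord.symm.dvd) _ (fun O => t0 (d.gα O).1 (t O))
          (fun j => t0 (d.gp j).1 (t' j).1) fun j => t0 (d.gq j).1 (t' j).2)
      exact ne_zero_of_mem_principalBlock hM (fun s => P.not_dvd_index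
        (s.trans (index_dvd_of_le hx.le))) (mem_bF.1 χ.2) (by simpa [zc] using this)⟩
  rw [Fintype.card_coe, card_bF] at h1
  refine ⟨h1, ?_, by rw [← d.rank, ← ks.finrank_eq hM hB hb, add_comm, finrank_Vb, h1]⟩
  rw [← h2]
  have i : ∀ χ : bF (principalBlock M G),
      ¬ 3 ∣ dg _ χ ↔ blockHeight 3 (principalBlock M G) χ.1.1 = 0 := fun χ => by
    rw [H38.blockHeight_principal_eq_zero_iff Nat.prime_three]
    exact not_congr (Int.natCast_dvd_natCast (m := 3))
  exact Nat.card_congr ⟨fun χ => ⟨⟨χ.1, mem_bF.2 χ.2.1⟩, (i _).2 χ.2.2⟩,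
    fun χ => ⟨χ.1.1, mem_bF.1 χ.1.2, (i _).1 χ.2⟩, fun _ => rfl, fun _ => rfl⟩

theorem main (f1 : JobF1.{u}) (f2 : JobF2.{u}) (f0 : JobF0.{u}) (f3 : JobF3.{u}) (f4 : JobF4.{u})
    (jB : JobB.{u}) (jV : JobV.{u}) (jQ : JobQ.{u}) (ja : JobCa.{u}) (jb : JobCb.{u})
    (jc : JobCc.{u}) (jd : JobCd.{u}) (jn : JobN.{u}) {G : Type u} [Group G] [Finite G]
    {P : Sylow 3 G} {z : G} (hx : X P z) {M : Ideal AlgInt} (hM : IsPModular 3 M)
    {e n l k k₀ : ℕ} {c : ℤ} {g : Fin n → ℤ} (jl : JobL.{u} n e c g l)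
    (jg : JobG.{u} n e c g l k k₀) (hn : n * e = 8) (h3 : 3 ∣ ∑ O, g O) (h9 : ¬ 9 ∣ ∑ O, g O)
    (hc : 9 * c = 9 * ∑ O, g O * g O - e * ((∑ O, g O) * ∑ O, g O)) (he : ei P = e) :
    Nat.card (principalBlock M G) = k ∧ Nat.card {χ : IrrCharacter G // χ ∈ principalBlock M G ∧
      blockHeight 3 (principalBlock M G) χ.1 = 0} = k₀ ∧
    blockRank 3 (principalBlock M G) + (n + 2 * l) = k := by
  have := hM.2.1
  have := Fintype.ofFinite G
  have := Fintype.ofFinite (centralizer ({z} : Set G))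
  obtain ⟨hx', he'⟩ := f0.2 G P z hx hx.le
  have hz : zc z ∈ center _ := mem_center_iff.2 fun y =>
    Subtype.ext (mem_centralizer_singleton_iff.1 y.2)
  have : (zpowers (zc z)).Normal := ⟨fun x t y => by
    rwa [mem_center_iff.1 (zpowers_le.2 hz t) y, mul_inv_cancel_right]⟩
  have := Fintype.ofFinite (centralizer ({z} : Set G) ⧸ zpowers (zc z))
  have h : CE (QuotientGroup.mk' (zpowers (zc z))) (zc z) :=
    ⟨QuotientGroup.mk'_surjective _, QuotientGroup.ker_mk' _, hz, hx'.ord hx'.mem hx'.ne⟩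
  have y := f2 G P z hx (f1 G P z hx)
  have y' := f2 _ _ _ hx' (f1 _ _ _ hx')
  obtain ⟨a1, a2⟩ := f3 _ _ _ _ _ h hx'
  obtain ⟨n', w, qd⟩ := jQ _ _ M hM a1 a2
  rw [f4 _ _ _ _ _ h hx', he', he] at qd
  obtain rfl : n' = n := Nat.eq_of_mul_eq_mul_right (Nat.pos_of_ne_zero (by rintro rfl; omega))
    (qd.ne.trans hn.symm)
  obtain ⟨p, q, d⟩ := exists_CD ja jb jc jd jn jl hM h (jV _ _ _ _ _ M hM h hx' y') qd h3 h9 hc
  exact top jg hM hx h (jB G P z M hx.le hM hx y y') d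

end H34.X3
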