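import Cfsg.Agent.H78.YUDef

/-! STD-SP endgame, unitary models: `JobNP`. -/

set_option autoImplicit false
set_option linter.unusedSectionVars false

namespace H34.YuNP

open H64.SG (Ns)
open H67 H67.UA H78.YU Subgroup
open H67.SA (cm la)

variable {m : ℕ} {K : Type} [Field K] [StarRing K] [CharP K 2] [Finite K] [hp : Par m K]

theorem cj_mem {G : Type*} [Group G] {E : Subgroup G} {p e : G} (hp : p ∈ Ns E) (he : e ∈ E) :
    p * e * p⁻¹ ∈ E := (mem_normalizer_iff.1 hp e).1 he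

theorem cm_mem {G : Type*} [Group G] {E : Subgroup G} {p e : G} (hp : p ∈ Ns E) (he : e ∈ E) :
    cm e p ∈ E := by
  have := mul_mem he (cj_mem hp (inv_mem he))
  simpa only [cm, mul_assoc] using this

theorem ppr {i j : Fin (m + 1)} (hi : i.val < 3) (hj : j.val < 3) (h : i ≠ j) (a : K) :
    Pp (UA.ev i : Vn m K) (a • UA.ev j.rev) :=
  (pp_ev (ir (K := K) hi hi) (by rw [Fin.rev_rev]; exact (ir (K := K) hj hj).symm)
    (fun e => h (Fin.rev_inj.1 e).symm)).smul_right a

theorem np (E : Subgroup (XU m K)) (hP : P0 m K ≤ Ns E) (h1 : qq (UA.ev 1) (UA.ev 0) ∈ E)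
    (h2 : qq (UA.ev 2) (UA.ev 1) ∈ E) : P0 m K ≤ E := by
  have i0 := l0 (n := m)
  have i1 := l1 (n := m) K
  have i2 := l2 (n := m) K
  have n1 := ne01 (n := m) (K := K)
  have n2 := ne02 (n := m) (K := K)
  have n3 := ne12 (n := m) (K := K)
  refine (base m K).toFW.genP _ fun v hv => ?_
  by_cases h : Li (UA.ev 0) v
  · obtain ⟨g, g1, g2⟩ := (base m K).toFW.w2 _ _ hv h
    obtain ⟨η, hη⟩ := (jobFQ m K).eta
    have p := ppr (K := K) i1 i2 n3 (star η)
    have e : TT (UA.ev 1 : Vn m K) = cm (qq (UA.ev 2) (UA.ev 1)) (EE (UA.ev 1) (star η • UA.ev (Fin.rev 2)) 0) := by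
      rw [EE_cm pp12.ok p.ok, hf_smul_right, hf_ev, if_pos rfl, star_star, mul_one, hη]
    rw [← g2, TT, ← Tc_conj pp01.r (star_one K), ← TT, e]
    exact cj_mem (hP (mem_PP.2 g1)) (cm_mem (hP (mem_PP.2
      (ac_EE_fix p.ok pp01.p (ppr i0 i2 n2 _).p))) h2)
  · obtain ⟨c, rfl⟩ := exists_smul_of_not_li (ev_ne 0) h
    obtain ⟨a, ha⟩ := (jobFQ m K).trs (nm c) (star_nm c)
    have p := ppr (K := K) i0 i1 n1 (star a)
    have e : TT (c • UA.ev 0 : Vn m K) =
        cm (qq (UA.ev 1) (UA.ev 0)) (EE (UA.ev 0) (star a • UA.ev (Fin.rev 1)) 0) := by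
      rw [EE_cm pp01.ok p.ok, hf_smul_right, hf_ev, if_pos rfl, star_star, mul_one, ha, TT, Tc_smul,
        mul_one]
    rw [e]
    exact cm_mem (hP (mem_PP.2 (ac_EE_self p.ok))) h1

theorem exists_d {a : K} (ha : a ≠ 0) : ∃ g : XU m K, ac g (UA.ev 0) = UA.ev 0 ∧
    ac g (UA.ev 1) = a • UA.ev 1 ∧ ac g (UA.ev (Fin.rev 0)) = UA.ev (Fin.rev 0) := by
  have i0 := l0 (n := m)
  have i1 := l1 (n := m) K
  have i2 := l2 (n := m) K
  have I := @ir m K _ _ _
  have n1 := ne01 (n := m) (K := K)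
  have n2 := ne02 (n := m) (K := K)
  have n3 := ne12 (n := m) (K := K)
  have hs : star a ≠ 0 := by simpa using ha
  obtain ⟨g, -, -, hg⟩ := (base m K).toFV.diag (fun i => (if i = 1 then a else 1) *
      (if i = Fin.rev 1 then (star a)⁻¹ else 1) * (if i = 2 then star a else 1) *
      (if i = Fin.rev 2 then a⁻¹ else 1)) (fun i => by
    simp only [Fin.rev_eq_iff, Fin.rev_rev, star_mul', apply_ite star, star_one, star_inv₀,
      star_star]
    split_ifs <;> field_simp) (by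
    simp only [Finset.prod_mul_distrib, Finset.prod_ite_eq', Finset.mem_univ, if_true]
    field_simp)
  refine ⟨g, funext fun i => ?_, funext fun i => ?_, funext fun i => ?_⟩
  · rw [hg, ev_apply]
    by_cases h : i = 0
    · subst h
      simp only [I i0 i1, I i0 i2, n1, n2, if_false, if_true, mul_one]
    · simp only [h, if_false, mul_zero]
  · rw [hg, Pi.smul_apply, ev_apply]
    by_cases h : i = 1
    · subst h; simp [I i1 i1, I i1 i2, n3]
    · simp [h]
  · rw [hg, ev_apply]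
    by_cases h : i = Fin.rev 0
    · subst h
      simp only [(I i1 i0).symm, (I i2 i0).symm, Fin.rev_inj, n1, n2, if_false, if_true, mul_one]
    · simp only [h, if_false, mul_zero]

theorem top (H : Subgroup (XU m K)) (hP : P0 m K ≤ H) (h1 : qq (UA.ev 1) (UA.ev (la m)) ∈ H) : H = ⊤ := by
  have i0 := l0 (n := m)
  have i1 := l1 (n := m) K
  have n1 := ne01 (n := m) (K := K)
  rw [eq_top_iff, ← (fP m K).top, sup_le_iff, SS_eq, closure_le]
  refine ⟨hP, ?_⟩
  rintro _ ⟨a, rfl | rfl⟩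
  · have p : Pp (UA.ev (Fin.rev 1) : Vn m K) (a • UA.ev 0) := by
      simpa using ((ppr (K := K) i0 i1 n1 1).symm.smul_right a)
    exact hP (mem_PP.2 (ac_EE_fix p.ok (by simpa only [one_smul] using (ppr (K := K) i0 i1 n1 1).p)
      (by rw [hf_smul_right, iso0, mul_zero])))
  · by_cases ha : a = 0
    · subst ha
      simp only [ss, qq, zero_smul, EE_zero]
      exact one_mem _
    obtain ⟨g, g0, g1, g2⟩ := exists_d (m := m) ha
    have p : Pp (UA.ev (Fin.rev 0) : Vn m K) (UA.ev 1) := by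
      simpa using (ppr (K := K) i1 i0 n1.symm 1).symm
    have hg := hP (mem_PP.2 g0)
    have := mul_mem (mul_mem hg h1) (inv_mem hg)
    rwa [show la m = Fin.rev 0 from (Fin.rev_zero m).symm, qq, EE_conj p.ok, g1, g2] at this

theorem jobNP : JobNP := fun m K _ _ _ _ _ =>
  ⟨np, top, (fP m K).SN (subset_closure ⟨1, Or.inr (by
    rw [ss, one_smul, show la m = Fin.rev 0 from (Fin.rev_zero m).symm])⟩)⟩

end H34.YuNP
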